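import Mathlib
import Cfsg.Agent.Lib.Grp.PowerCount
import Cfsg.Agent.Lib.Transfer.Burnside

/-!
Counting the elements of odd order: the divisibility of Frobenius, the residue modulo four, and the
count for an elementary abelian Sylow 2-subgroup from its normalizer.
-/

set_option autoImplicit false
set_option linter.unusedSectionVars false
set_option linter.style.haveILetI false

namespace Cfsg.Agent.Block.ThreeP

universe u

/-- The number of elements of odd order. -/
noncomputable def nodd (G : Type u) [Group G] : ℕ := Nat.card {g : G // Odd (orderOf g)}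

variable {G : Type u} [Group G] [Finite G]

/-- The number of elements of odd order is a multiple of the odd part of the group order. -/
theorem dvd_nodd {a m : ℕ} (hcard : Nat.card G = 2 ^ a * m) (hm : Odd m) : m ∣ nodd G := by
  have h := Cfsg.Agent.Grp.PowCount.dvd_card_sol _ G rfl m ⟨2 ^ a, by rw [hcard]; ring⟩
  rw [nodd]
  convert h using 1
  refine Nat.card_congr (Equiv.subtypeEquivRight fun g => ?_)
  rw [← orderOf_dvd_iff_pow_eq_one]
  refine ⟨fun hg => ?_, fun hg => ?_⟩
  · have h1 : orderOf g ∣ 2 ^ a * m := hcard ▸ orderOf_dvd_natCard g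
    exact (Nat.Coprime.pow_right a ((Nat.coprime_two_right).2 hg)).dvd_of_dvd_mul_left h1
  · exact Odd.of_dvd_nat hm hg

theorem nodd_pos : 0 < nodd G :=
  Nat.card_pos_iff.2 ⟨⟨⟨1, by simp⟩⟩, inferInstance⟩

/-- If no non-trivial element of odd order is centralised by a subgroup of index at most two of the
2-group `S`, the number of elements of odd order is `1` modulo `4`. -/
theorem nodd_mod_four (S : Subgroup G) (hS : IsPGroup 2 S)
    (h : ∀ y : G, Odd (orderOf y) → ∀ T ≤ S, Nat.card S ≤ 2 * Nat.card T →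
      (∀ t ∈ T, y * t = t * y) → y = 1) :
    nodd G % 4 = 1 := by
  classical
  set X := {g : G // Odd (orderOf g) ∧ g ≠ 1} with hX
  letI : MulAction S X :=
    { smul := fun s g => ⟨(s : G) * g.1 * (s : G)⁻¹, by
        rw [← MulAut.conj_apply, MulEquiv.orderOf_eq]; exact g.2.1,
        fun e => g.2.2 (by simpa [mul_inv_eq_one] using e)⟩
      one_smul := fun g => Subtype.ext (show ((1 : S) : G) * g.1 * ((1 : S) : G)⁻¹ = g.1 by simp)
      mul_smul := fun s t g => Subtype.ext (show ((s * t : S) : G) * g.1 * ((s * t : S) : G)⁻¹ =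
        (s : G) * ((t : G) * g.1 * (t : G)⁻¹) * (s : G)⁻¹ by rw [Subgroup.coe_mul]; group) }
  have h4 : ∀ g : X, 4 ∣ Nat.card (MulAction.orbit S g) := by
    intro g
    have h1 := (MulAction.stabilizer S g).index_mul_card
    rw [MulAction.index_stabilizer] at h1
    obtain ⟨n, hn⟩ := IsPGroup.iff_card.1 hS
    haveI : Fact (Nat.Prime 2) := ⟨Nat.prime_two⟩
    obtain ⟨k, -, hk⟩ := (Nat.dvd_prime_pow Nat.prime_two).1
      (show (MulAction.orbit S g).ncard ∣ 2 ^ n from hn ▸ ⟨_, h1.symm⟩)
    rw [Nat.card_coe_set_eq, hk]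
    by_contra hc
    have hk1 : k ≤ 1 := by
      by_contra hk2
      exact hc (by rw [show (4 : ℕ) = 2 ^ 2 by norm_num]; exact pow_dvd_pow 2 (by omega))
    refine g.2.2 (h g.1 g.2.1 ((MulAction.stabilizer S g).map S.subtype) (Subgroup.map_subtype_le _)
      ?_ ?_)
    · rw [Nat.card_congr (Subgroup.equivMapOfInjective _ _ S.subtype_injective).symm.toEquiv, ← h1, hk]
      exact Nat.mul_le_mul_right _ (by
        calc 2 ^ k ≤ 2 ^ 1 := Nat.pow_le_pow_right (by norm_num) hk1
          _ = 2 := rfl)
    · rintro t ⟨s, hs, rfl⟩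
      have e : (s : G) * g.1 * (s : G)⁻¹ = g.1 := congrArg Subtype.val hs
      show g.1 * (s : G) = (s : G) * g.1
      exact (mul_inv_eq_iff_eq_mul.1 e).symm
  have hsum : 4 ∣ Nat.card X := by
    haveI : Fintype (Quotient (MulAction.orbitRel S X)) := Fintype.ofFinite _
    rw [Nat.card_congr (MulAction.selfEquivSigmaOrbits S X), Nat.card_sigma]
    exact Finset.dvd_sum fun ω _ => h4 _
  have hsplit : nodd G = Nat.card X + 1 := by
    haveI : Fintype G := Fintype.ofFinite _
    rw [nodd, hX, Nat.card_eq_fintype_card, Nat.card_eq_fintype_card, Fintype.card_subtype,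
      Fintype.card_subtype, ← Finset.filter_filter]
    rw [Finset.filter_ne', Finset.card_erase_add_one]
    simp
  omega

/-- An element of odd order commuting with a semiregular 2-group of permutations fixes every
two-orbit invariant set. -/
theorem fix_of_two_orbits {Ω : Type*} [MulAction G Ω] {T : Subgroup G} (hT : IsPGroup 2 T) {y : G}
    (hy : Odd (orderOf y)) (hc : ∀ t ∈ T, y * t = t * y) {X : Finset Ω}
    (hyX : ∀ a ∈ X, y • a ∈ X) (hTX : ∀ t ∈ T, ∀ a ∈ X, t • a ∈ X)
    (hfree : ∀ t ∈ T, ∀ a ∈ X, t • a = a → t = 1) (hcard : X.card ≤ 2 * Nat.card T) :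
    ∀ a ∈ X, y • a = a := by
  classical
  -- an odd element moving a point inside its orbit fixes it
  have key : ∀ w : G, Odd (orderOf w) → (∀ t ∈ T, w * t = t * w) → ∀ b ∈ X,
      (∃ t ∈ T, w • b = t • b) → w • b = b := by
    rintro w hw hwc b hb ⟨t, ht, e⟩
    have hi : ∀ i : ℕ, w ^ i • b = t ^ i • b := by
      intro i
      induction i with
      | zero => simp
      | succ i ih =>
        rw [pow_succ', mul_smul, ih, ← mul_smul,
          ((show Commute w t from hwc t ht).pow_right i).eq, mul_smul, e, ← mul_smul, ← pow_succ]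
    have h1 := hi (orderOf w)
    rw [pow_orderOf_eq_one, one_smul] at h1
    have h2 := hfree _ (T.pow_mem ht _) b hb h1.symm
    obtain ⟨k, hk⟩ := hT ⟨t, ht⟩
    have hk' : t ^ (2 ^ k) = 1 := congrArg Subtype.val hk
    have h3 : orderOf t = 1 := Nat.eq_one_of_dvd_coprimes
      (Nat.Coprime.pow_right k ((Nat.coprime_two_right).2 hw))
      (orderOf_dvd_of_pow_eq_one h2) (orderOf_dvd_of_pow_eq_one hk')
    rw [e, orderOf_eq_one_iff.1 h3, one_smul]
  intro a ha
  by_cases h1 : ∃ t ∈ T, y • a = t • a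
  · exact key y hy hc a ha h1
  haveI : Fintype T := Fintype.ofFinite _
  let orb : Ω → Finset Ω := fun b => Finset.univ.image fun t : T => (t : G) • b
  have horb : ∀ b ∈ X, orb b ⊆ X ∧ (orb b).card = Nat.card T := by
    intro b hb
    refine ⟨fun c hc' => ?_, ?_⟩
    · obtain ⟨t, -, rfl⟩ := Finset.mem_image.1 hc'
      exact hTX _ t.2 b hb
    · rw [Finset.card_image_of_injective _ fun t t' e => ?_, Finset.card_univ,
        Nat.card_eq_fintype_card]
      have e' : ((t' : G)⁻¹ * t) • b = b := by
        rw [mul_smul, show (t : G) • b = (t' : G) • b from e, inv_smul_smul]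
      exact Subtype.ext (inv_mul_eq_one.1 (hfree _ (T.mul_mem (T.inv_mem t'.2) t.2) b hb e')).symm
  have hdisj : Disjoint (orb a) (orb (y • a)) := by
    rw [Finset.disjoint_left]
    intro c hc1 hc2
    obtain ⟨t, -, rfl⟩ := Finset.mem_image.1 hc1
    obtain ⟨t', -, e⟩ := Finset.mem_image.1 hc2
    exact h1 ⟨(t' : G)⁻¹ * t, T.mul_mem (T.inv_mem t'.2) t.2, by
      rw [mul_smul, ← show (t' : G) • y • a = (t : G) • a from e, inv_smul_smul]⟩
  have hyy := hyX _ (hyX a ha)
  have hall : orb a ∪ orb (y • a) = X := by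
    refine Finset.eq_of_subset_of_card_le (Finset.union_subset (horb a ha).1 (horb _ (hyX a ha)).1) ?_
    rw [Finset.card_union_of_disjoint hdisj, (horb a ha).2, (horb _ (hyX a ha)).2]
    omega
  rw [← hall, Finset.mem_union] at hyy
  rcases hyy with hm | hm
  · obtain ⟨t, -, e⟩ := Finset.mem_image.1 hm
    have hsq : Odd (orderOf (y ^ 2)) := by
      rw [Nat.Coprime.orderOf_pow ((Nat.coprime_two_right).2 hy)]; exact hy
    have h2 := key (y ^ 2) hsq
      (fun t ht => ((show Commute y t from hc t ht).pow_left 2).eq) a ha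
      ⟨t, t.2, by rw [pow_two, mul_smul, e]⟩
    obtain ⟨i, hi⟩ := hy
    have h3 : y = (y ^ 2) ^ (i + 1) := by
      rw [← pow_mul, show 2 * (i + 1) = orderOf y + 1 by omega, pow_succ, pow_orderOf_eq_one, one_mul]
    rw [h3]
    exact MulAction.mem_stabilizer_iff.1 (Subgroup.pow_mem (MulAction.stabilizer G a) (MulAction.mem_stabilizer_iff.2 h2) _)
  · obtain ⟨t, -, e⟩ := Finset.mem_image.1 hm
    have h2 := key y hy hc (y • a) (hyX a ha) ⟨t, t.2, e.symm⟩
    exact smul_left_cancel y h2

end Cfsg.Agent.Block.ThreeP
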