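import Mathlib
import Cfsg.Agent.Lib.Block.ThreeP.Odd

/-!
With an elementary abelian Sylow 2-subgroup `S` the proportion of the elements of odd order is the
same in `G` and in the normalizer of `S`.
-/

set_option autoImplicit false
set_option linter.unusedSectionVars false
set_option linter.style.haveILetI false

namespace Cfsg.Agent.Block.ThreeP

universe u

variable {G : Type u} [Group G] [Finite G]

/-- A surjection with a kernel of order two generated by a central element is a bijection on the
elements of odd order. -/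
theorem nodd_quot {Q : Type u} [Group Q] [Finite Q] (f : G →* Q) (hf : Function.Surjective f) {s : G}
    (hs : orderOf s = 2) (hsc : ∀ g : G, g * s = s * g) (hker : ∀ g, f g = 1 ↔ g = 1 ∨ g = s) :
    nodd G = nodd Q ∧ Nat.card G = 2 * Nat.card Q := by
  classical
  have hs1 : s ≠ 1 := fun e => by simp [e] at hs
  have hs2 : s * s = 1 := by rw [← pow_two, ← hs, pow_orderOf_eq_one]
  refine ⟨Nat.card_eq_of_bijective (fun g => ⟨f g.1, Odd.of_dvd_nat g.2 (orderOf_map_dvd f g.1)⟩)
    ⟨fun g g' e => ?_, fun q => ?_⟩, ?_⟩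
  · have e' : f g.1 = f g'.1 := congrArg Subtype.val e
    rcases (hker (g.1⁻¹ * g'.1)).1 (by rw [map_mul, map_inv, e', inv_mul_cancel]) with h | h
    · exact Subtype.ext (inv_mul_eq_one.1 h)
    · exfalso
      have h' : g'.1 = g.1 * s := by rw [← h, mul_inv_cancel_left]
      have ho := g'.2
      rw [h', (show Commute g.1 s from hsc g.1).orderOf_mul_eq_mul_orderOf_of_coprime
        (by rw [hs]; exact (Nat.coprime_two_right).2 g.2), hs] at ho
      exact (Nat.not_odd_iff_even.2 ⟨orderOf g.1, by ring⟩) ho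
  · obtain ⟨g, hg⟩ := hf q.1
    set n := orderOf q.1
    have hn : Odd n := q.2
    rcases (hker (g ^ n)).1 (by rw [map_pow, hg, pow_orderOf_eq_one]) with h | h
    · exact ⟨⟨g, Odd.of_dvd_nat hn (orderOf_dvd_of_pow_eq_one h)⟩, Subtype.ext hg⟩
    · have h2 : (g * s) ^ n = 1 := by
        obtain ⟨i, hi⟩ := hn
        rw [(show Commute g s from hsc g).mul_pow, h, hi, pow_succ, pow_mul, pow_two, hs2, one_pow,
          one_mul, hs2]
      refine ⟨⟨g * s, Odd.of_dvd_nat hn (orderOf_dvd_of_pow_eq_one h2)⟩, Subtype.ext ?_⟩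
      show f (g * s) = q.1
      rw [map_mul, (hker s).2 (Or.inr rfl), mul_one, hg]
  · have h1 := Subgroup.card_mul_index f.ker
    rw [Subgroup.index_ker, MonoidHom.range_eq_top.2 hf, Subgroup.card_top] at h1
    rw [← h1, Nat.card_eq_two_iff' (1 : f.ker) |>.2 ⟨⟨s, (hker s).2 (Or.inr rfl)⟩,
      fun e => hs1 (congrArg Subtype.val e), fun y hy => ?_⟩]
    rcases (hker y.1).1 y.2 with h | h
    · exact absurd (Subtype.ext h) hy
    · exact Subtype.ext h

/-- An element of even order is an involution times a commuting element of odd order. -/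
theorem even_split (hexp : ∀ g : G, ¬ 4 ∣ orderOf g) :
    Nat.card G = nodd G + Nat.card (Σ s : {s : G // orderOf s = 2},
      {y : Subgroup.centralizer ({s.1} : Set G) // Odd (orderOf y)}) := by
  classical
  haveI : Fintype G := Fintype.ofFinite G
  have h0 : Nat.card G = nodd G + Nat.card {g : G // ¬ Odd (orderOf g)} := by
    rw [nodd, Nat.card_eq_fintype_card, Nat.card_eq_fintype_card, Nat.card_eq_fintype_card,
      Fintype.card_subtype, Fintype.card_subtype, Finset.card_filter_add_card_filter_not,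
      Finset.card_univ]
  rw [h0]
  congr 1
  have hcom : ∀ (s : {s : G // orderOf s = 2})
      (y : {y : Subgroup.centralizer ({s.1} : Set G) // Odd (orderOf y)}),
      Commute s.1 (y.1 : G) ∧ Odd (orderOf (y.1 : G)) := fun s y =>
    ⟨(Subgroup.mem_centralizer_singleton_iff.1 y.1.2).symm, by rw [Subgroup.orderOf_coe]; exact y.2⟩
  have hord : ∀ (s : {s : G // orderOf s = 2})
      (y : {y : Subgroup.centralizer ({s.1} : Set G) // Odd (orderOf y)}),
      orderOf (s.1 * (y.1 : G)) = 2 * orderOf (y.1 : G) := fun s y => by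
    rw [(hcom s y).1.orderOf_mul_eq_mul_orderOf_of_coprime
      (by rw [s.2]; exact (Nat.coprime_two_left).2 (hcom s y).2), s.2]
  refine (Nat.card_eq_of_bijective (fun w => ⟨w.1.1 * (w.2.1 : G), by
      rw [hord]; exact Nat.not_odd_iff_even.2 ⟨_, two_mul _⟩⟩) ⟨?_, ?_⟩).symm
  · rintro ⟨s, y⟩ ⟨s', y'⟩ e
    have e' : s.1 * (y.1 : G) = s'.1 * (y'.1 : G) := congrArg Subtype.val e
    have hrec : ∀ (s : {s : G // orderOf s = 2})
        (y : {y : Subgroup.centralizer ({s.1} : Set G) // Odd (orderOf y)}),
        s.1 = (s.1 * (y.1 : G)) ^ orderOf (y.1 : G) := fun s y => by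
      rw [(hcom s y).1.mul_pow, pow_orderOf_eq_one, mul_one]
      obtain ⟨i, hi⟩ := (hcom s y).2
      rw [hi, pow_succ, pow_mul, show s.1 ^ 2 = 1 by
        have h2 := pow_orderOf_eq_one s.1
        rwa [s.2] at h2, one_pow, one_mul]
    have hoy : orderOf (y.1 : G) = orderOf (y'.1 : G) := by
      have h := hord s y
      rw [e', hord s' y'] at h
      omega
    have hs : s = s' := Subtype.ext (by rw [hrec s y, hrec s' y', e', hoy])
    subst hs
    exact congrArg _ (Subtype.ext (Subtype.ext (mul_left_cancel e')))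
  · rintro ⟨g, hg⟩
    obtain ⟨n, hn⟩ := Nat.not_odd_iff_even.1 hg
    have hn0 : 0 < orderOf g := orderOf_pos g
    have hodd : Odd n := Nat.not_even_iff_odd.1 fun ⟨m, hm⟩ => hexp g ⟨m, by omega⟩
    have hs : orderOf (g ^ n) = 2 := by
      rw [orderOf_pow' g (by omega), Nat.gcd_eq_right ⟨2, by omega⟩, hn, ← two_mul,
        Nat.mul_div_cancel _ (by omega)]
    have hy : Odd (orderOf (g ^ (n + 1))) := by
      refine Odd.of_dvd_nat hodd (orderOf_dvd_of_pow_eq_one ?_)
      obtain ⟨m, hm⟩ := hodd
      rw [← pow_mul, show (n + 1) * n = (n + n) * (m + 1) by subst hm; ring, pow_mul, ← hn,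
        pow_orderOf_eq_one, one_pow]
    refine ⟨⟨⟨g ^ n, hs⟩, ⟨g ^ (n + 1), Subgroup.mem_centralizer_singleton_iff.2
      (Commute.pow_pow_self g _ _).eq⟩, by rw [← Subgroup.orderOf_coe]; exact hy⟩, Subtype.ext ?_⟩
    show g ^ n * g ^ (n + 1) = g
    rw [← pow_add, show n + (n + 1) = orderOf g + 1 by omega, pow_succ, pow_orderOf_eq_one, one_mul]

/-- The even part of the count: a class function summed over the involutions. -/
theorem sum_involutions [Fintype {s : G // orderOf s = 2}] (hexp : ∀ g : G, ¬ 4 ∣ orderOf g) :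
    ((Nat.card G : ℚ) - (nodd G : ℚ)) / (Nat.card G : ℚ) =
      ∑ s : {s : G // orderOf s = 2},
        ((nodd (Subgroup.centralizer ({s.1} : Set G)) : ℚ) /
          (Nat.card (Subgroup.centralizer ({s.1} : Set G)) : ℚ)) /
          ((Subgroup.centralizer ({s.1} : Set G)).index : ℚ) := by
  classical
  have h := even_split (G := G) hexp
  rw [Nat.card_sigma] at h
  have h' : (Nat.card G : ℚ) - (nodd G : ℚ) =
      ∑ s : {s : G // orderOf s = 2}, (nodd (Subgroup.centralizer ({s.1} : Set G)) : ℚ) := by
    rw [sub_eq_iff_eq_add']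
    exact_mod_cast h
  rw [h', Finset.sum_div]
  refine Finset.sum_congr rfl fun s _ => ?_
  rw [div_div, ← Nat.cast_mul, Subgroup.card_mul_index]

theorem centralizer_conj_card (s c : G) :
    nodd (Subgroup.centralizer ({c * s * c⁻¹} : Set G)) = nodd (Subgroup.centralizer ({s} : Set G)) ∧
    Nat.card (Subgroup.centralizer ({c * s * c⁻¹} : Set G)) =
      Nat.card (Subgroup.centralizer ({s} : Set G)) := by
  have hmap : (Subgroup.centralizer ({s} : Set G)).map (MulAut.conj c).toMonoidHom =
      Subgroup.centralizer ({c * s * c⁻¹} : Set G) := by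
    ext g
    rw [Subgroup.mem_map_equiv, MulAut.conj_symm_apply, Subgroup.mem_centralizer_singleton_iff,
      Subgroup.mem_centralizer_singleton_iff]
    constructor <;> intro h
    · calc g * (c * s * c⁻¹) = c * (c⁻¹ * g * c * s) * c⁻¹ := by group
        _ = c * (s * (c⁻¹ * g * c)) * c⁻¹ := by rw [h]
        _ = _ := by group
    · calc c⁻¹ * g * c * s = c⁻¹ * (g * (c * s * c⁻¹)) * c := by group
        _ = c⁻¹ * (c * s * c⁻¹ * g) * c := by rw [h]
        _ = _ := by group
  let e : Subgroup.centralizer ({s} : Set G) ≃* Subgroup.centralizer ({c * s * c⁻¹} : Set G) :=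
    ((Subgroup.centralizer ({s} : Set G)).equivMapOfInjective (MulAut.conj c).toMonoidHom
      (MulAut.conj c).injective).trans (MulEquiv.subgroupCongr hmap)
  exact ⟨Nat.card_congr (e.toEquiv.subtypeEquiv fun y => by
      rw [MulEquiv.toEquiv_eq_coe, MulEquiv.coe_toEquiv, MulEquiv.orderOf_eq]).symm,
    Nat.card_congr e.toEquiv.symm⟩

/-- The proportion of the elements of odd order is that of the normalizer of the Sylow subgroup. -/
theorem nodd_mul_normalizer : ∀ (n : ℕ) (G : Type u) [Group G] [Finite G], Nat.card G = n →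
    ∀ S : Sylow 2 G, (∀ s ∈ (S : Subgroup G), s * s = 1) →
      nodd G * Nat.card (Subgroup.normalizer ((S : Subgroup G) : Set G)) =
        nodd (Subgroup.normalizer ((S : Subgroup G) : Set G)) * Nat.card G := by
  intro n
  induction n using Nat.strong_induction_on with
  | _ n ih =>
  intro G _ _ hn S hS
  classical
  haveI : Fact (Nat.Prime 2) := ⟨Nat.prime_two⟩
  set N := Subgroup.normalizer ((S : Subgroup G) : Set G) with hN
  have hSN : (S : Subgroup G) ≤ N := Subgroup.le_normalizer
  have hScomm : ∀ a ∈ (S : Subgroup G), ∀ b ∈ (S : Subgroup G), a * b = b * a := by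
    intro a ha b hb
    have h1 := hS _ (mul_mem ha hb)
    calc a * b = a * (a * b * (a * b)) * b := by rw [h1, mul_one]
      _ = (a * a) * (b * a) * (b * b) := by group
      _ = b * a := by rw [hS a ha, hS b hb, one_mul, mul_one]
  by_cases hc : ∃ s : G, orderOf s = 2 ∧ ∀ g, g * s = s * g
  · obtain ⟨s, hs2, hsc⟩ := hc
    have hs1 : s ≠ 1 := fun e => by simp [e] at hs2
    have hss : s * s = 1 := by rw [← pow_two, ← hs2, pow_orderOf_eq_one]
    set Z := Subgroup.zpowers s with hZ
    haveI hZn : Z.Normal := ⟨fun z hz g => by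
      obtain ⟨i, rfl⟩ := Subgroup.mem_zpowers_iff.1 hz
      rw [((show Commute g s from hsc g).zpow_right i).eq, mul_inv_cancel_right]
      exact Subgroup.zpow_mem_zpowers s i⟩
    have hmemZ : ∀ z, z ∈ Z ↔ z = 1 ∨ z = s := by
      intro z
      refine ⟨fun hz => ?_, ?_⟩
      · obtain ⟨i, rfl⟩ := Subgroup.mem_zpowers_iff.1 hz
        rw [← zpow_mod_orderOf, hs2]
        rcases Int.emod_two_eq_zero_or_one i with e | e <;> push_cast <;> rw [e] <;> simp
      · rintro (rfl | rfl)
        · exact one_mem _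
        · exact Subgroup.mem_zpowers _
    set π := QuotientGroup.mk' Z with hπ
    have hker : ∀ g, π g = 1 ↔ g = 1 ∨ g = s := fun g => by
      rw [hπ, QuotientGroup.mk'_apply, QuotientGroup.eq_one_iff, hmemZ]
    have hπs : Function.Surjective π := QuotientGroup.mk'_surjective Z
    obtain ⟨h1, h1'⟩ := nodd_quot π hπs hs2 hsc hker
    have hsS : s ∈ (S : Subgroup G) := by
      obtain ⟨Q, hQ⟩ := (IsPGroup.of_card (p := 2) (n := 1) (by
        rw [Nat.card_zpowers, hs2, pow_one]) : IsPGroup 2 Z).exists_le_sylow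
      obtain ⟨c, hc'⟩ := MulAction.exists_smul_eq G Q S
      rw [← hc', Sylow.coe_subgroup_smul]
      exact ⟨s, hQ (Subgroup.mem_zpowers s), show c * s * c⁻¹ = s by
        rw [hsc c, mul_inv_cancel_right]⟩
    set S' := S.mapSurjective hπs with hS'def
    set N' := Subgroup.normalizer ((S' : Subgroup (G ⧸ Z)) : Set (G ⧸ Z)) with hN'
    have hNN' : N'.comap π = N := by
      rw [hN', Sylow.coe_mapSurjective, Subgroup.comap_normalizer_eq_of_surjective _ hπs,
        Subgroup.comap_map_eq_self (fun g hg => by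
          rcases (hker g).1 hg with rfl | rfl
          · exact one_mem _
          · exact hsS)]
    have hNs : ∀ x : G, x ∈ N ↔ π x ∈ N' := fun x => by rw [← hNN', Subgroup.mem_comap]
    let ψ : N →* N' := (π.comp N.subtype).codRestrict N' fun x => (hNs _).1 x.2
    have hψs : Function.Surjective ψ := fun q => by
      obtain ⟨g, hg⟩ := hπs q.1
      exact ⟨⟨g, (hNs g).2 (by rw [hg]; exact q.2)⟩, Subtype.ext hg⟩
    obtain ⟨h2, h2'⟩ := nodd_quot ψ hψs (s := ⟨s, hSN hsS⟩)
      (by rw [← Subgroup.orderOf_coe]; exact hs2) (fun g => Subtype.ext (hsc g.1)) (fun g => by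
        rw [Subtype.ext_iff, Subtype.ext_iff, Subtype.ext_iff]; exact hker g.1)
    have h3 := ih (Nat.card (G ⧸ Z)) (by
      have := Nat.card_pos (α := G ⧸ Z); omega) (G ⧸ Z) rfl S' (fun q hq => by
        rw [Sylow.coe_mapSurjective] at hq
        obtain ⟨a, ha, rfl⟩ := hq
        rw [← map_mul, hS a ha, map_one])
    rw [← hN'] at h3
    rw [h1, h1', h2, h2']
    linear_combination 2 * h3
  -- no central involution
  push Not at hc
  haveI : Fintype G := Fintype.ofFinite G
  have hexp : ∀ (H : Type u) [Group H] [Finite H] (f : H →* G), Function.Injective f →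
      ∀ h : H, ¬ 4 ∣ orderOf h := by
    intro H _ _ f hf h h4
    rw [← orderOf_injective f hf] at h4
    have ho : orderOf (f h ^ (orderOf (f h) / 4)) = 4 :=
      orderOf_pow_orderOf_div (orderOf_pos _).ne' h4
    obtain ⟨Q, hQ⟩ := (IsPGroup.of_card (p := 2) (n := 2) (by
      rw [Nat.card_zpowers, ho]; norm_num) :
        IsPGroup 2 (Subgroup.zpowers (f h ^ (orderOf (f h) / 4)))).exists_le_sylow
    obtain ⟨c, hc'⟩ := MulAction.exists_smul_eq G Q S
    have hm : c * f h ^ (orderOf (f h) / 4) * c⁻¹ ∈ (S : Subgroup G) := by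
      rw [← hc', Sylow.coe_subgroup_smul]
      exact ⟨_, hQ (Subgroup.mem_zpowers _), rfl⟩
    have h6 : (c * f h ^ (orderOf (f h) / 4) * c⁻¹) ^ 2 = 1 := by rw [pow_two]; exact hS _ hm
    have h5 := orderOf_dvd_of_pow_eq_one h6
    rw [← MulAut.conj_apply, MulEquiv.orderOf_eq, ho] at h5
    exact absurd h5 (by norm_num)
  have hG := sum_involutions (G := G) (hexp G (MonoidHom.id G) Function.injective_id)
  have hNsum := sum_involutions (G := N) (hexp N N.subtype Subtype.val_injective)
  -- the common value on a class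
  let F : ConjClasses G → ℚ := Quotient.lift
    (fun s => (nodd (Subgroup.centralizer ({s} : Set G)) : ℚ) /
      (Nat.card (Subgroup.centralizer ({s} : Set G)) : ℚ)) (fun a b hab => by
      obtain ⟨c, rfl⟩ := isConj_iff.1 hab
      obtain ⟨e1, e2⟩ := centralizer_conj_card a c
      simp only [e1, e2])
  have hFmk : ∀ s : G, F (ConjClasses.mk s) = (nodd (Subgroup.centralizer ({s} : Set G)) : ℚ) /
      (Nat.card (Subgroup.centralizer ({s} : Set G)) : ℚ) := fun s => rfl
  set I : Finset (ConjClasses G) :=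
    (Finset.univ.filter fun s : G => orderOf s = 2).image ConjClasses.mk with hI
  have hidx : ∀ (H : Type u) [Group H] [Finite H] (s : H),
      Nat.card {t : H // IsConj s t} = (Subgroup.centralizer ({s} : Set H)).index := by
    intro H _ _ s
    rw [Subgroup.centralizer_eq_comap_stabilizer]
    refine Eq.trans ?_ ((Subgroup.index_comap_of_surjective _
      (f := (ConjAct.toConjAct (G := H)).toMonoidHom) (MulEquiv.surjective _)).trans
      (MulAction.index_stabilizer (ConjAct H) s)).symm
    rw [← Nat.card_coe_set_eq]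
    exact Nat.card_congr (Equiv.subtypeEquivRight fun t => by
      rw [ConjAct.mem_orbit_conjAct]; exact ⟨IsConj.symm, IsConj.symm⟩)
  -- Sylow facts
  have hSmem : ∀ s : N, orderOf s = 2 → (s : G) ∈ (S : Subgroup G) := by
    intro s hs
    have hle : (S : Subgroup G) ⊔ Subgroup.zpowers (s : G) = (S : Subgroup G) := by
      refine (S.is_maximal' ?_ le_sup_left)
      refine IsPGroup.to_sup_of_normal_left' S.isPGroup' (IsPGroup.of_card (n := 1) (by
        rw [Nat.card_zpowers, Subgroup.orderOf_coe, hs, pow_one])) (Subgroup.zpowers_le.2 s.2)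
    exact hle ▸ Subgroup.mem_sup_right (Subgroup.mem_zpowers _)
  have hsum1 : ∑ s : {s : G // orderOf s = 2},
        ((nodd (Subgroup.centralizer ({s.1} : Set G)) : ℚ) /
          (Nat.card (Subgroup.centralizer ({s.1} : Set G)) : ℚ)) /
          ((Subgroup.centralizer ({s.1} : Set G)).index : ℚ) = ∑ C ∈ I, F C := by
    rw [← Finset.sum_fiberwise_of_maps_to (g := fun s : {s : G // orderOf s = 2} =>
      ConjClasses.mk s.1) (t := I) (fun s _ => Finset.mem_image.2
        ⟨s.1, Finset.mem_filter.2 ⟨Finset.mem_univ _, s.2⟩, rfl⟩)]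
    refine Finset.sum_congr rfl fun C hC => ?_
    obtain ⟨a, ha, rfl⟩ := Finset.mem_image.1 hC
    have ha2 := (Finset.mem_filter.1 ha).2
    rw [Finset.sum_congr rfl (g := fun _ => F (ConjClasses.mk a) /
      ((Subgroup.centralizer ({a} : Set G)).index : ℚ)) fun s hs => ?_, Finset.sum_const]
    · have hcard : (Finset.univ.filter fun s : {s : G // orderOf s = 2} =>
          ConjClasses.mk s.1 = ConjClasses.mk a).card = (Subgroup.centralizer ({a} : Set G)).index := by
        rw [← hidx G a, ← Fintype.card_subtype, ← Nat.card_eq_fintype_card]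
        exact Nat.card_congr
          { toFun := fun s => ⟨s.1.1, (ConjClasses.mk_eq_mk_iff_isConj.1 s.2).symm⟩
            invFun := fun t => ⟨⟨t.1, by
              obtain ⟨c, hc'⟩ := isConj_iff.1 t.2
              rw [← hc', ← MulAut.conj_apply, MulEquiv.orderOf_eq, ha2]⟩,
              ConjClasses.mk_eq_mk_iff_isConj.2 t.2.symm⟩
            left_inv := fun s => rfl
            right_inv := fun t => rfl }
      rw [hcard, nsmul_eq_mul, mul_div_cancel₀ _
        (Nat.cast_ne_zero.2 Subgroup.index_ne_zero_of_finite)]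
    · have hs' := (Finset.mem_filter.1 hs).2
      rw [← hs', hFmk]
      congr 2
      rw [← hidx G a, ← hidx G s.1]
      exact Nat.card_congr (Equiv.subtypeEquivRight fun t =>
        ⟨fun h => (ConjClasses.mk_eq_mk_iff_isConj.1 hs').symm.trans h,
        fun h => (ConjClasses.mk_eq_mk_iff_isConj.1 hs').trans h⟩)
  have hsum2 : ∑ s : {s : N // orderOf s = 2},
        ((nodd (Subgroup.centralizer ({s.1} : Set N)) : ℚ) /
          (Nat.card (Subgroup.centralizer ({s.1} : Set N)) : ℚ)) /
          ((Subgroup.centralizer ({s.1} : Set N)).index : ℚ) = ∑ C ∈ I, F C := by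
    rw [← Finset.sum_fiberwise_of_maps_to (g := fun s : {s : N // orderOf s = 2} =>
      ConjClasses.mk (s.1 : G)) (t := I) (fun s _ => Finset.mem_image.2
        ⟨(s.1 : G), Finset.mem_filter.2 ⟨Finset.mem_univ _, by
          rw [Subgroup.orderOf_coe]; exact s.2⟩, rfl⟩)]
    refine Finset.sum_congr rfl fun C hC => ?_
    obtain ⟨a, ha, rfl⟩ := Finset.mem_image.1 hC
    have ha2 := (Finset.mem_filter.1 ha).2
    obtain ⟨Q, hQ⟩ := (IsPGroup.of_card (p := 2) (n := 1) (by
      rw [Nat.card_zpowers, ha2, pow_one]) : IsPGroup 2 (Subgroup.zpowers a)).exists_le_sylow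
    obtain ⟨c, hc'⟩ := MulAction.exists_smul_eq G Q S
    have hbS : c * a * c⁻¹ ∈ (S : Subgroup G) := by
      rw [← hc', Sylow.coe_subgroup_smul]
      exact ⟨a, hQ (Subgroup.mem_zpowers a), rfl⟩
    set b : N := ⟨c * a * c⁻¹, hSN hbS⟩ with hb
    have hb2 : orderOf b = 2 := by
      rw [← Subgroup.orderOf_coe]
      show orderOf (c * a * c⁻¹) = 2
      rw [← MulAut.conj_apply, MulEquiv.orderOf_eq, ha2]
    have hab : IsConj a (b : G) := isConj_iff.2 ⟨c, rfl⟩
    have hfus : ∀ t : N, orderOf t = 2 → (IsConj (b : G) (t : G) ↔ IsConj b t) := by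
      intro t ht
      refine ⟨fun h => ?_, fun h => ?_⟩
      · obtain ⟨g, hg⟩ := isConj_iff.1 h
        obtain ⟨m, hm, hm'⟩ := Cfsg.Agent.Transfer.exists_normalizer_conj_of_abelian S
          ⟨⟨fun x y => Subtype.ext (hScomm _ x.2 _ y.2)⟩⟩ hbS (g := g) (hg ▸ hSmem t ht)
        exact isConj_iff.2 ⟨⟨m, hm⟩, Subtype.ext (hm'.trans hg)⟩
      · obtain ⟨g, hg⟩ := isConj_iff.1 h
        exact isConj_iff.2 ⟨g, congrArg Subtype.val hg⟩
    rw [Finset.sum_congr rfl (g := fun _ => F (ConjClasses.mk a) /
      ((Subgroup.centralizer ({b} : Set N)).index : ℚ)) fun s hs => ?_, Finset.sum_const]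
    · have hcard : (Finset.univ.filter fun s : {s : N // orderOf s = 2} =>
          ConjClasses.mk (s.1 : G) = ConjClasses.mk a).card =
            (Subgroup.centralizer ({b} : Set N)).index := by
        rw [← hidx N b, ← Fintype.card_subtype, ← Nat.card_eq_fintype_card]
        exact Nat.card_congr
          { toFun := fun s => ⟨s.1.1, (hfus _ s.1.2).1
              (hab.symm.trans (ConjClasses.mk_eq_mk_iff_isConj.1 s.2).symm)⟩
            invFun := fun t =>
              have ht : orderOf t.1 = 2 := by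
                obtain ⟨d, hd⟩ := isConj_iff.1 t.2
                rw [← hd, ← MulAut.conj_apply, MulEquiv.orderOf_eq, hb2]
              ⟨⟨t.1, ht⟩, ConjClasses.mk_eq_mk_iff_isConj.2 ((hab.trans ((hfus _ ht).2 t.2)).symm)⟩
            left_inv := fun s => rfl
            right_inv := fun t => rfl }
      rw [hcard, nsmul_eq_mul, mul_div_cancel₀ _
        (Nat.cast_ne_zero.2 Subgroup.index_ne_zero_of_finite)]
    · have hs' := (Finset.mem_filter.1 hs).2
      have hsb : IsConj b s.1 :=
        (hfus _ s.2).1 (hab.symm.trans (ConjClasses.mk_eq_mk_iff_isConj.1 hs').symm)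
      have hie : (Subgroup.centralizer ({b} : Set N)).index =
          (Subgroup.centralizer ({s.1} : Set N)).index := by
        rw [← hidx N b, ← hidx N s.1]
        exact Nat.card_congr (Equiv.subtypeEquivRight fun t =>
          ⟨fun h => hsb.symm.trans h, fun h => hsb.trans h⟩)
      rw [hie]
      congr 1
      rw [← hs', hFmk]
      -- induction at the centralizer
      set C := Subgroup.centralizer ({(s.1 : G)} : Set G) with hC'
      have hsS := hSmem _ s.2
      have hSC : (S : Subgroup G) ≤ C := fun x hx => Subgroup.mem_centralizer_singleton_iff.2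
        (hScomm _ hx _ hsS)
      have hlt : Nat.card C < n := by
        rw [← hn]
        refine lt_of_le_of_ne (Subgroup.card_le_card_group C) fun e => ?_
        obtain ⟨g, hg⟩ := hc (s.1 : G) (by rw [Subgroup.orderOf_coe]; exact s.2)
        refine hg (Subgroup.mem_centralizer_singleton_iff.1 (?_ : g ∈ C))
        rw [Subgroup.eq_top_of_card_eq C e]
        exact Subgroup.mem_top g
      have h := ih _ hlt C rfl (S.subtype hSC) (fun x hx => Subtype.ext (hS _ hx))
      have hnorm : Subgroup.normalizer (((S.subtype hSC : Sylow 2 C) : Subgroup C) : Set C) =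
          N.subgroupOf C := by
        rw [Sylow.coe_subtype]
        exact (Subgroup.subgroupOf_normalizer_eq hSC).symm
      rw [hnorm] at h
      let e : N.subgroupOf C ≃* Subgroup.centralizer ({s.1} : Set N) :=
        { toFun := fun x => ⟨⟨(x.1 : G), x.2⟩, Subgroup.mem_centralizer_singleton_iff.2
            (Subtype.ext (Subgroup.mem_centralizer_singleton_iff.1 x.1.2))⟩
          invFun := fun y => ⟨⟨(y.1 : G), Subgroup.mem_centralizer_singleton_iff.2
            (congrArg Subtype.val (Subgroup.mem_centralizer_singleton_iff.1 y.2))⟩, y.1.2⟩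
          left_inv := fun x => rfl
          right_inv := fun y => rfl
          map_mul' := fun x y => rfl }
      have e1 : nodd (N.subgroupOf C) = nodd (Subgroup.centralizer ({s.1} : Set N)) :=
        Nat.card_congr (e.toEquiv.subtypeEquiv fun y => by
          rw [MulEquiv.toEquiv_eq_coe, MulEquiv.coe_toEquiv, MulEquiv.orderOf_eq])
      rw [e1, Nat.card_congr e.toEquiv] at h
      rw [div_eq_div_iff (Nat.cast_ne_zero.2 Nat.card_pos.ne') (Nat.cast_ne_zero.2 Nat.card_pos.ne')]
      exact_mod_cast h.symm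
  rw [hsum1] at hG
  rw [hsum2, ← hG] at hNsum
  rw [div_eq_div_iff (Nat.cast_ne_zero.2 Nat.card_pos.ne') (Nat.cast_ne_zero.2 Nat.card_pos.ne'),
    sub_mul, sub_mul] at hNsum
  have h' : (nodd G : ℚ) * (Nat.card N : ℚ) = (nodd N : ℚ) * (Nat.card G : ℚ) := by
    linear_combination hNsum
  exact_mod_cast h'

end Cfsg.Agent.Block.ThreeP
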