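import Mathlib
import Cfsg.Agent.Lib.Block.FewSylow.Basic
import Cfsg.Agent.Lib.Block.DegreeTwoPChar

/-!
Transitive groups of degree `3 p` with a Sylow normalizer of order `2 p`: the constituents of the
permutation character.
-/

set_option autoImplicit false
set_option linter.unusedSectionVars false
set_option linter.style.haveILetI false

namespace Cfsg.Agent.Block.ThreeP

open scoped ComplexConjugate
open Cfsg Cfsg.Agent.Block Cfsg.Agent.Block.PermChar Cfsg.Agent.Char

universe u v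

/-- The hypotheses: a self-centralizing element of order `p` with normalizer of order `2 p`, and a
transitive action on `3 p` points. -/
structure Hyps (G : Type u) [Group G] [Fintype G] (Ω : Type v) [Fintype Ω] [MulAction G Ω] (p : ℕ)
    [Fact p.Prime] where
  na : ¬ IsMulCommutative G
  hp3 : 3 < p
  card : Fintype.card Ω = 3 * p
  trans : MulAction.IsPretransitive G Ω
  x : G
  hx : SCP.Hyp p x
  he : SCP.e x = 2

/-- The two non-exceptional characters `1`, `χ` in the case `χ (x) = -1`, and the exceptional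
ones. -/
structure Neg (G : Type u) [Group G] [Fintype G] (p : ℕ) where
  χ : IrrCharacter G
  f : ℕ
  deg : charDegree (χ : G → ℂ) = f
  two_le : 2 ≤ f
  Y : Finset (IrrCharacter G)
  hY : 2 * Y.card + 1 = p
  at_p : ∀ g : G, orderOf g = p → (χ : G → ℂ) g = -1
  vY : ∀ θ ∈ Y, ∀ g : G, ¬ p ∣ orderOf g → (θ : G → ℂ) g = (χ : G → ℂ) g - 1
  triv_ne : trivialIrr G ≠ χ
  triv_not : trivialIrr G ∉ Y
  χ_not : χ ∉ Y
  vanish : ∀ ψ : IrrCharacter G, ψ ≠ trivialIrr G → ψ ≠ χ → ψ ∉ Y →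
    ∀ g : G, orderOf g = p → (ψ : G → ℂ) g = 0

variable {G : Type u} [Group G] [Fintype G] {Ω : Type v} [Fintype Ω] [MulAction G Ω] {p : ℕ}
  [Fact p.Prime] (H : Hyps G Ω p)

include H in
theorem Hyps.not_sq : ¬ p ^ 2 ∣ Nat.card G := fun h => by
  have h1 := SCP.fac H.hx
  have h2 := (Nat.Prime.pow_dvd_iff_le_factorization (Fact.out : p.Prime) Nat.card_pos.ne').1 h
  omega

include H in
theorem Hyps.stab_card (a : Ω) : Nat.card (MulAction.stabilizer G a) * (3 * p) = Nat.card G := by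
  haveI := H.trans
  have h := (MulAction.stabilizer G a).card_mul_index
  rwa [MulAction.index_stabilizer_of_transitive, Nat.card_eq_fintype_card (α := Ω), H.card] at h

include H in
/-- The elements of order `p` fix no point. -/
theorem Hyps.pi_p {g : G} (hg : orderOf g = p) : piFun G Ω g = 0 := by
  rw [piFun, Nat.cast_eq_zero, Nat.card_eq_zero]
  refine Or.inl ⟨fun x => H.not_sq ?_⟩
  have h1 := Subgroup.orderOf_dvd_natCard (MulAction.stabilizer G (x : Ω))
    (show g ∈ MulAction.stabilizer G (x : Ω) from x.2)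
  rw [← H.stab_card (x : Ω), pow_two]
  exact Nat.mul_dvd_mul (hg ▸ h1) (dvd_mul_left p 3)

include H in
theorem Hyps.pi_one : piFun G Ω (1 : G) = ((3 * p : ℕ) : ℂ) := by
  rw [piFun, MulAction.fixedBy_one_eq_univ, Nat.card_univ, Nat.card_eq_fintype_card (α := Ω), H.card]

include H in
theorem Hyps.nonempty : Nonempty Ω :=
  Fintype.card_pos_iff.1 (by rw [H.card]; have := H.hp3; omega)

include H in
theorem Hyps.one_reg : ¬ p ∣ orderOf (1 : G) := by
  rw [orderOf_one]; exact (Fact.out : p.Prime).not_dvd_one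

variable [DecidableEq Ω]

include H in
/-- The constituents of the permutation character. -/
theorem Hyps.cases [IsSimpleGroup G] :
    (p = 5 ∧ ∃ θ₁ θ₂ : IrrCharacter G, θ₁ ≠ θ₂ ∧ θ₁ ≠ one₀ G ∧ θ₂ ≠ one₀ G ∧
      charDegree (θ₁ : G → ℂ) = 7 ∧ charDegree (θ₂ : G → ℂ) = 7 ∧
      mult G Ω (θ₁ : G → ℂ) = 1 ∧ mult G Ω (θ₂ : G → ℂ) = 1 ∧
      ∀ η : IrrCharacter G, η ≠ one₀ G → η ≠ θ₁ → η ≠ θ₂ → mult G Ω (η : G → ℂ) = 0) ∨
    ∃ D : Neg G p, D.f + 1 = p ∨
      (D.f + 1 = 2 * p ∧ mult G Ω (D.χ : G → ℂ) = 1 ∧ ∃ ψ : IrrCharacter G, ψ ≠ one₀ G ∧ ψ ≠ D.χ ∧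
        charDegree (ψ : G → ℂ) = p ∧ mult G Ω (ψ : G → ℂ) = 1 ∧
        (∀ g : G, orderOf g = p → (ψ : G → ℂ) g = 0) ∧
        ∀ η : IrrCharacter G, η ≠ one₀ G → η ≠ D.χ → η ≠ ψ → mult G Ω (η : G → ℂ) = 0) ∨
      (D.f + 1 = 3 * p ∧ mult G Ω (D.χ : G → ℂ) = 1 ∧
        ∀ η : IrrCharacter G, η ≠ one₀ G → η ≠ D.χ → mult G Ω (η : G → ℂ) = 0) := by
  classical
  have hp : p.Prime := Fact.out
  have hp3 := H.hp3
  haveI := H.trans
  haveI := H.nonempty
  obtain ⟨t, ht⟩ : ∃ t, p = 2 * t + 1 := hp.odd_of_ne_two (by omega)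
  obtain ⟨X, Y, c, ε, C⟩ := SCP.exists_chars H.hx
  rw [H.he] at C
  have hYc : Y.card = t := by have := C.card_Y; omega
  set τ := trivialIrr G with hτ
  have hτv : ∀ g : G, (τ : G → ℂ) g = 1 := fun g => rfl
  have hτd : charDegree (τ : G → ℂ) = 1 := charDeg_trivial
  have hτY : τ ∉ Y := fun hy => by
    have h1 := C.deg_Y τ hy
    rw [hτd, Int.modEq_iff_dvd] at h1
    rcases C.ε_sign with e | e <;> rw [e] at h1
    · have := Int.le_of_dvd (by norm_num) h1
      omega
    · have := Int.le_of_dvd (by norm_num) (dvd_neg.2 h1)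
      omega
  have hτX : τ ∈ X := (Finset.mem_union.1 C.trivial_mem).resolve_right hτY
  have hcτ : (c τ : ℂ) = -1 := by
    have h1 := C.value τ hτX H.x H.hx.ord
    rw [hτv] at h1
    linear_combination h1
  obtain ⟨χ, hχ⟩ := Finset.card_eq_one.1 (show (X.erase τ).card = 1 by
    rw [Finset.card_erase_of_mem hτX, C.card_X])
  have hχX : χ ∈ X := Finset.mem_of_mem_erase (hχ ▸ Finset.mem_singleton_self χ)
  have hne : τ ≠ χ := fun e => Finset.notMem_erase τ X (by rw [hχ, e]; exact Finset.mem_singleton_self _)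
  have hX : X = insert τ {χ} := by rw [← hχ, Finset.insert_erase hτX]
  set f := charDegree (χ : G → ℂ) with hf
  have hf1 : (χ : G → ℂ) 1 = (f : ℂ) := charDeg_spec' χ
  have hf2 : 2 ≤ f := OrdP.two_le_deg H.na (Ne.symm hne)
  have hreg : ∀ θ ∈ Y, ∀ g : G, ¬ p ∣ orderOf g →
      (ε : ℂ) * (θ : G → ℂ) g = 1 - (c χ : ℂ) * (χ : G → ℂ) g := by
    intro θ hθ g hg
    have h1 := C.regular θ hθ g hg
    rw [hX, Finset.sum_pair hne, hcτ, hτv] at h1
    linear_combination h1
  have hvan : ∀ η : IrrCharacter G, η ≠ τ → η ≠ χ → η ∉ Y →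
      (∀ g : G, orderOf g = p → (η : G → ℂ) g = 0) ∧ p ∣ charDegree (η : G → ℂ) := by
    intro η h1 h2 h3
    have hn : η ∉ X ∪ Y := by
      rw [hX, Finset.mem_union, Finset.mem_insert, Finset.mem_singleton]
      rintro ((h | h) | h)
      exacts [h1 h, h2 h, h3 h]
    exact ⟨C.vanish η hn, C.dvd_deg η hn⟩
  obtain ⟨θ₀, hθ₀⟩ := Finset.card_pos.1 (show 0 < Y.card by omega)
  set d := charDegree (θ₀ : G → ℂ) with hd
  have hd0 : 0 < d := charDeg_pos θ₀
  have hYreg : ∀ θ ∈ Y, ∀ g : G, ¬ p ∣ orderOf g → (θ : G → ℂ) g = (θ₀ : G → ℂ) g := fun θ hθ g hg =>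
    mul_left_cancel₀ (Int.cast_ne_zero.2 (by rcases C.ε_sign with e | e <;> omega))
      ((hreg θ hθ g hg).trans (hreg θ₀ hθ₀ g hg).symm)
  have hYd : ∀ θ ∈ Y, charDegree (θ : G → ℂ) = d := fun θ hθ => by
    have h1 := hYreg θ hθ 1 H.one_reg
    rw [charDeg_spec', charDeg_spec'] at h1
    exact_mod_cast h1
  -- the multiplicities
  choose a ha using fun η : IrrCharacter G => exists_mult (Ω := Ω) η
  have hb : ∀ θ ∈ Y, a θ = a θ₀ := by
    intro θ hθ
    apply Nat.cast_injective (R := ℂ)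
    rw [← ha, ← ha, ← sub_eq_zero, mult, mult, ← classInner_sub_right, classInner]
    refine mul_eq_zero_of_right _ (Finset.sum_eq_zero fun g _ => ?_)
    by_cases hg : p ∣ orderOf g
    · rw [H.pi_p (Few.ord_eq_p H.hx hg), zero_mul]
    · rw [Pi.sub_apply, hYreg θ hθ g hg, sub_self, map_zero, mul_zero]
  have haτ : a τ = 1 := by
    have h1 := (ha τ).symm.trans (PermChar.mult_one (G := G) (Ω := Ω))
    exact_mod_cast h1
  set b := a θ₀ with hbdef
  set R := Finset.univ.filter fun η : IrrCharacter G => η ≠ τ ∧ η ≠ χ ∧ η ∉ Y with hR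
  have hsplit : ∀ F : IrrCharacter G → ℂ, ∑ η, F η = F τ + F χ + ∑ θ ∈ Y, F θ + ∑ η ∈ R, F η := by
    intro F
    have e : Finset.univ.filter (fun η : IrrCharacter G => ¬ (η ≠ τ ∧ η ≠ χ ∧ η ∉ Y)) =
        insert τ (insert χ Y) := by
      ext η
      simp only [Finset.mem_filter, Finset.mem_univ, true_and, Finset.mem_insert]
      tauto
    rw [← Finset.sum_filter_add_sum_filter_not Finset.univ
      (fun η : IrrCharacter G => η ≠ τ ∧ η ≠ χ ∧ η ∉ Y), ← hR, e,
      Finset.sum_insert (by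
        rw [Finset.mem_insert]
        rintro (h | h)
        exacts [hne h, hτY h]),
      Finset.sum_insert fun h => Finset.disjoint_left.1 C.disj hχX h]
    ring
  have hval : ∀ g : G, piFun G Ω g = ∑ η : IrrCharacter G, (a η : ℂ) * (η : G → ℂ) g := fun g => by
    rw [piFun_decomp]
    simp only [Finset.sum_apply, Pi.smul_apply, smul_eq_mul, ha]
  have hdeg : 3 * p = 1 + a χ * f + t * (b * d) +
      ∑ η ∈ R, a η * charDegree (η : G → ℂ) := by
    have h := hval 1
    rw [H.pi_one, hsplit, haτ, hτv, hf1, Finset.sum_congr rfl (g := fun _ => ((b * d : ℕ) : ℂ))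
      (fun θ hθ => by rw [hb θ hθ, charDeg_spec', hYd θ hθ]; push_cast; rfl), Finset.sum_const,
      hYc, Finset.sum_congr rfl (g := fun η => ((a η * charDegree (η : G → ℂ) : ℕ) : ℂ))
      (fun η _ => by rw [charDeg_spec']; push_cast; rfl), ← Nat.cast_sum, nsmul_eq_mul,
      Nat.cast_one, one_mul] at h
    exact_mod_cast h
  have hdeq : (ε : ℂ) * (d : ℂ) = 1 - (c χ : ℂ) * (f : ℂ) := by
    have h1 := hreg θ₀ hθ₀ 1 H.one_reg
    rwa [charDeg_spec', hf1] at h1
  have hsumY : ∑ θ ∈ Y, (θ : G → ℂ) H.x = -(ε : ℂ) := by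
    have h := regular_expansion (G := G) H.x
    rw [if_neg (SCP.ne_one H.hx), hsplit, hτv, hτv, C.value χ hχX _ H.hx.ord, hf1,
      Finset.sum_congr rfl (g := fun θ : IrrCharacter G => (d : ℂ) * (θ : G → ℂ) H.x)
        (fun θ hθ => by rw [charDeg_spec', hYd θ hθ]), ← Finset.mul_sum,
      Finset.sum_eq_zero (s := R) (fun η hη => by
        obtain ⟨-, h1, h2, h3⟩ := Finset.mem_filter.1 hη
        rw [(hvan η h1 h2 h3).1 _ H.hx.ord, mul_zero]), add_zero] at h
    refine mul_left_cancel₀ (Nat.cast_ne_zero.2 hd0.ne') ?_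
    linear_combination h + hdeq
  have hx0 : (1 : ℂ) - (a χ : ℂ) * (c χ : ℂ) - (b : ℂ) * (ε : ℂ) = 0 := by
    have h := hval H.x
    rw [H.pi_p H.hx.ord, hsplit, haτ, hτv, C.value χ hχX _ H.hx.ord,
      Finset.sum_congr rfl (g := fun θ : IrrCharacter G => (b : ℂ) * (θ : G → ℂ) H.x)
        (fun θ hθ => by rw [hb θ hθ]), ← Finset.mul_sum, hsumY,
      Finset.sum_eq_zero (s := R) (fun η hη => by
        obtain ⟨-, h1, h2, h3⟩ := Finset.mem_filter.1 hη
        rw [(hvan η h1 h2 h3).1 _ H.hx.ord, mul_zero]), add_zero, Nat.cast_one] at h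
    linear_combination -h
  have hRdvd : ∀ η ∈ R, a η ≠ 0 → p ≤ a η * charDegree (η : G → ℂ) := by
    intro η hη hne'
    obtain ⟨-, h1, h2, h3⟩ := Finset.mem_filter.1 hη
    exact Nat.le_trans (Nat.le_of_dvd (charDeg_pos η) (hvan η h1 h2 h3).2)
      (Nat.le_mul_of_pos_left _ (Nat.pos_of_ne_zero hne'))
  have hR0 : ∀ η ∈ R, ∑ ξ ∈ R, a ξ * charDegree (ξ : G → ℂ) < p → a η = 0 := by
    intro η hη hlt
    by_contra hne'
    have h1 := hRdvd η hη hne'
    have h2 := Finset.single_le_sum (f := fun ξ => a ξ * charDegree (ξ : G → ℂ))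
      (fun _ _ => Nat.zero_le _) hη
    omega
  have hfdvd := C.deg_X χ hχX
  rw [← hf, Int.modEq_iff_dvd] at hfdvd
  rcases C.c_sign χ hχX with hc | hc
  · -- `χ (x) = -1`
    rw [hc] at hfdvd
    rw [hc, Int.cast_one] at hdeq hx0 hreg
    have hε : ε = -1 := by
      refine C.ε_sign.resolve_left fun e => ?_
      rw [e, Int.cast_one, one_mul, one_mul] at hdeq
      have h1 : ((d + f : ℕ) : ℂ) = ((1 : ℕ) : ℂ) := by push_cast; linear_combination hdeq
      have := Nat.cast_injective h1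
      omega
    rw [hε] at hdeq hx0 hreg
    push_cast at hdeq hx0 hreg
    have hdf : d + 1 = f := by
      have h1 : ((d + 1 : ℕ) : ℂ) = ((f : ℕ) : ℂ) := by push_cast; linear_combination -hdeq
      exact Nat.cast_injective h1
    have hab : a χ = b + 1 := by
      have h1 : ((a χ : ℕ) : ℂ) = ((b + 1 : ℕ) : ℂ) := by push_cast; linear_combination -hx0
      exact Nat.cast_injective h1
    obtain ⟨k, hk⟩ : p ∣ f + 1 := by
      have h2 : (p : ℤ) ∣ ((f + 1 : ℕ) : ℤ) := by
        have h3 := dvd_neg.2 hfdvd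
        push_cast
        rwa [show -(-(1 : ℤ) - (f : ℤ)) = (f : ℤ) + 1 by ring] at h3
      exact_mod_cast h2
    let D : Neg G p := {
      χ := χ, f := f, deg := hf.symm, two_le := hf2, Y := Y, hY := by omega
      at_p := fun g hg => by rw [C.value χ hχX g hg, hc]; norm_num
      vY := fun θ hθ g hg => by
        have h1 := hreg θ hθ g hg
        linear_combination -h1
      triv_ne := hne, triv_not := hτY
      χ_not := fun h => Finset.disjoint_left.1 C.disj hχX h
      vanish := fun ψ h1 h2 h3 => (hvan ψ h1 h2 h3).1 }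
    refine Or.inr ⟨D, ?_⟩
    rw [hab] at hdeg
    show f + 1 = p ∨ _
    by_cases hk1 : k = 1
    · exact Or.inl (by rw [hk, hk1, mul_one])
    right
    have hk2 : 2 ≤ k := by
      rcases k with _ | _ | k
      · omega
      · exact absurd rfl hk1
      · omega
    have hb0 : b = 0 := by
      by_contra hbne
      have h1 : 2 * f ≤ (b + 1) * f := Nat.mul_le_mul_right _ (by omega)
      have h2 : p * 2 ≤ p * k := Nat.mul_le_mul_left _ hk2
      omega
    rw [hb0, zero_mul, mul_zero, zero_add, one_mul, add_zero] at hdeg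
    have hk3 : k ≤ 3 := by
      by_contra hlt
      have : p * 4 ≤ p * k := Nat.mul_le_mul_left _ (by omega)
      omega
    have haY : ∀ θ ∈ Y, mult G Ω (θ : G → ℂ) = 0 := fun θ hθ => by
      rw [ha, hb θ hθ, hb0, Nat.cast_zero]
    have haχ : mult G Ω (χ : G → ℂ) = 1 := by rw [ha, hab, hb0, zero_add, Nat.cast_one]
    have hmem : ∀ η : IrrCharacter G, η ≠ one₀ G → η ≠ χ → η ∉ Y → η ∈ R := fun η h1 h2 h3 =>
      Finset.mem_filter.2 ⟨Finset.mem_univ _, h1, h2, h3⟩
    rcases (show k = 2 ∨ k = 3 by omega) with rfl | rfl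
    · left
      have hRsum : ∑ η ∈ R, a η * charDegree (η : G → ℂ) = p := by omega
      obtain ⟨ψ, hψR, hψ0⟩ : ∃ ψ ∈ R, a ψ ≠ 0 := by
        by_contra hno
        push Not at hno
        rw [Finset.sum_eq_zero fun η hη => by rw [hno η hη, zero_mul]] at hRsum
        omega
      have h1 := hRdvd ψ hψR hψ0
      rw [← Finset.add_sum_erase _ _ hψR] at hRsum
      obtain ⟨-, hψτ, hψχ, hψY⟩ := Finset.mem_filter.1 hψR
      obtain ⟨hψv, hψd⟩ := hvan ψ hψτ hψχ hψY
      obtain ⟨j, hj⟩ := hψd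
      have hj0 : 0 < j := Nat.pos_of_ne_zero fun e => by
        have := charDeg_pos ψ
        rw [hj, e, mul_zero] at this
        omega
      have h2 : a ψ * j = 1 := by
        have h3 : p * (a ψ * j) ≤ p * 1 := by rw [mul_one, mul_left_comm, ← hj]; omega
        have := Nat.le_of_mul_le_mul_left h3 hp.pos
        have := Nat.mul_pos (Nat.pos_of_ne_zero hψ0) hj0
        omega
      have haψ : a ψ = 1 := Nat.eq_one_of_mul_eq_one_right h2
      refine ⟨by show f + 1 = _; omega, haχ, ψ, hψτ, hψχ,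
        by rw [hj, Nat.eq_one_of_mul_eq_one_left h2, mul_one], by rw [ha, haψ, Nat.cast_one], hψv,
        fun η h1' h2' h3' => ?_⟩
      by_cases hηY : η ∈ Y
      · exact haY η hηY
      rw [ha, Nat.cast_eq_zero]
      by_contra hne'
      have hηR := hmem η h1' h2' hηY
      have h4 := hRdvd η hηR hne'
      have h5 := Finset.single_le_sum (f := fun ξ => a ξ * charDegree (ξ : G → ℂ))
        (fun _ _ => Nat.zero_le _) (Finset.mem_erase.2 ⟨h3', hηR⟩)
      omega
    · right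
      refine ⟨by show f + 1 = _; omega, haχ, fun η h1 h2 => ?_⟩
      by_cases hηY : η ∈ Y
      · exact haY η hηY
      rw [ha, hR0 η (hmem η h1 h2 hηY) (by omega), Nat.cast_zero]
  · -- `χ (x) = 1`
    left
    rw [hc] at hfdvd
    rw [hc] at hdeq hx0 hreg
    push_cast at hdeq hx0 hreg
    have hε : ε = 1 := by
      refine C.ε_sign.resolve_right fun e => ?_
      rw [e] at hdeq
      push_cast at hdeq
      have h1 : ((d + f + 1 : ℕ) : ℂ) = ((0 : ℕ) : ℂ) := by push_cast; linear_combination -hdeq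
      have := Nat.cast_injective h1
      omega
    rw [hε, Int.cast_one] at hdeq hx0
    have hdf : d = f + 1 := by
      have h1 : ((d : ℕ) : ℂ) = ((f + 1 : ℕ) : ℂ) := by push_cast; linear_combination hdeq
      exact Nat.cast_injective h1
    have hab : b = a χ + 1 := by
      have h1 : ((b : ℕ) : ℂ) = ((a χ + 1 : ℕ) : ℂ) := by push_cast; linear_combination -hx0
      exact Nat.cast_injective h1
    have hfp : p + 1 ≤ f := by
      have h2 : (p : ℤ) ∣ (f : ℤ) - 1 := by
        have h3 := dvd_neg.2 hfdvd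
        rwa [show -(-(-1 : ℤ) - (f : ℤ)) = (f : ℤ) - 1 by ring] at h3
      have := Int.le_of_dvd (by omega) h2
      omega
    rw [hab, hdf] at hdeg
    have h1 : t * (f + 1) ≤ t * ((a χ + 1) * (f + 1)) :=
      Nat.mul_le_mul_left _ (Nat.le_mul_of_pos_left _ (by omega))
    have ht2 : t = 2 := by
      by_contra hne'
      have : 3 * (f + 1) ≤ t * (f + 1) := Nat.mul_le_mul_right _ (by omega)
      omega
    subst ht2
    have hp5 : p = 5 := by omega
    subst hp5
    have hf6 : f = 6 := by omega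
    have ha0 : a χ = 0 := by
      by_contra hne'
      have : 2 * (f + 1) ≤ (a χ + 1) * (f + 1) := Nat.mul_le_mul_right _ (by omega)
      omega
    rw [ha0, hf6] at hdeg
    obtain ⟨θ₁, θ₂, h12, hY2⟩ := Finset.card_eq_two.1 hYc
    have hY1 : θ₁ ∈ Y := by rw [hY2]; exact Finset.mem_insert_self _ _
    have hY2' : θ₂ ∈ Y := by rw [hY2]; exact Finset.mem_insert_of_mem (Finset.mem_singleton_self _)
    refine ⟨rfl, θ₁, θ₂, h12, fun e => hτY (show one₀ G ∈ Y from e ▸ hY1), fun e => hτY (show one₀ G ∈ Y from e ▸ hY2'),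
      by rw [hYd θ₁ hY1, hdf, hf6], by rw [hYd θ₂ hY2', hdf, hf6],
      by rw [ha, hb θ₁ hY1, hab, ha0, zero_add, Nat.cast_one],
      by rw [ha, hb θ₂ hY2', hab, ha0, zero_add, Nat.cast_one], fun η h1' h2' h3' => ?_⟩
    rw [ha, Nat.cast_eq_zero]
    by_cases hηχ : η = χ
    · rw [hηχ, ha0]
    have hηY : η ∉ Y := by
      rw [hY2, Finset.mem_insert, Finset.mem_singleton]
      rintro (h | h)
      exacts [h2' h, h3' h]
    exact hR0 η (Finset.mem_filter.2 ⟨Finset.mem_univ _, h1', hηχ, hηY⟩) (by omega)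

end Cfsg.Agent.Block.ThreeP
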