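import Mathlib
import Cfsg.Agent.Lib.Block.ThreeP.Setup
import Cfsg.Agent.Lib.Block.OrderPrimeSelfFull
import Cfsg.Agent.Lib.Block.PMinusOne.Data

/-!
The involutions of a group with a character of degree `f ≡ -1` in the block of `p`: one class, the
class equation and the dihedral restriction.
-/

set_option autoImplicit false
set_option linter.unusedSectionVars false
set_option linter.style.haveILetI false

namespace Cfsg.Agent.Block.ThreeP

open scoped ComplexConjugate
open Cfsg Cfsg.Agent.Block Cfsg.Agent.Block.PermChar Cfsg.Agent.Char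

universe u v

variable {G : Type u} [Group G] [Fintype G] {Ω : Type v} [Fintype Ω] [MulAction G Ω] {p : ℕ}
  [Fact p.Prime] (H : Hyps G Ω p)

include H in
theorem Hyps.exists_self : ∃ S : OrdP.Self G p, SCP.Hyp p S.u ∧ SCP.e S.u = 2 := by
  have hp2 : p ≠ 2 := by have := H.hp3; omega
  obtain ⟨S⟩ := Few.exists_inv H.hx hp2 (by rw [H.he])
  have h := SCP.hyp_of_ord H.hx S.hu
  refine ⟨S, h, ?_⟩
  obtain ⟨c, hc⟩ := SCP.exists_conj_mem H.hx S.hu
  have h3 : SCP.P H.x = (Subgroup.zpowers S.u).map (MulAut.conj c).toMonoidHom := by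
    rw [MonoidHom.map_zpowers]
    exact (SCP.zpowers_eq_of_mem H.hx hc fun e1 => S.u_ne (by simpa [mul_inv_eq_one] using e1)).symm
  have h4 : SCP.N H.x = (SCP.N S.u).map (MulAut.conj c).toMonoidHom := by
    show Subgroup.normalizer ((SCP.P H.x : Subgroup G) : Set G) = _
    rw [h3]
    exact (Subgroup.map_normalizer_eq_of_bijective _ (MulAut.conj c).bijective).symm
  have h1 := SCP.card_N h
  rw [Nat.card_congr ((SCP.N S.u).equivMapOfInjective (MulAut.conj c).toMonoidHom
    (MulAut.conj c).injective).toEquiv, ← h4, SCP.card_N H.hx, H.he] at h1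
  exact (Nat.eq_of_mul_eq_mul_left (Fact.out : p.Prime).pos h1).symm

include H in
/-- An element of even order has order prime to `p`. -/
theorem Hyps.even_reg {g : G} (hg : 2 ∣ orderOf g) : ¬ p ∣ orderOf g := fun h => by
  rw [Few.ord_eq_p H.hx h] at hg
  have := (Nat.prime_dvd_prime_iff_eq Nat.prime_two (Fact.out : p.Prime)).1 hg
  have := H.hp3
  omega

include H in
theorem Hyps.cent_inv_not_dvd {z : G} (hz : orderOf z = 2) :
    ¬ p ∣ Nat.card (Subgroup.centralizer ({z} : Set G)) := by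
  intro h
  obtain ⟨y, hy⟩ := exists_prime_orderOf_dvd_card'
    (G := Subgroup.centralizer ({z} : Set G)) p h
  have hyo : orderOf (y : G) = p := by rw [Subgroup.orderOf_coe]; exact hy
  have h1 := Subgroup.orderOf_dvd_natCard (Subgroup.centralizer ({(y : G)} : Set G)) (x := z)
    (Subgroup.mem_centralizer_singleton_iff.2 (Subgroup.mem_centralizer_singleton_iff.1 y.2).symm)
  rw [Few.cent_card H.hx hyo, hz] at h1
  have := (Nat.prime_dvd_prime_iff_eq Nat.prime_two (Fact.out : p.Prime)).1 h1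
  have := H.hp3
  omega

include H in
/-- The values of a character on the normalizer of an element of order `p`. -/
theorem Hyps.dihedral {Ψ : G → ℂ} (hΨ : IsCharacter G Ψ) {n w z : ℤ} (h1 : Ψ 1 = n)
    (hw : ∀ g : G, orderOf g = p → Ψ g = w) (hz : ∀ g : G, orderOf g = 2 → Ψ g = z) :
    (∃ a : ℕ, n + ((p : ℤ) - 1) * w + p * z = 2 * p * a) ∧
      ∃ b : ℕ, n + ((p : ℤ) - 1) * w - p * z = 2 * p * b := by
  obtain ⟨S, hS, hSe⟩ := H.exists_self
  obtain ⟨⟨a, ha⟩, b, hb⟩ := PMinusOne.dihedral_sum S hS hSe hΨ hw (z := (z : ℂ)) fun g hg =>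
    hz g (by
      obtain ⟨c, rfl⟩ := isConj_iff.1 hg
      rw [← MulAut.conj_apply, MulEquiv.orderOf_eq, S.ht])
  rw [h1] at ha hb
  exact ⟨⟨a, Int.cast_injective (α := ℂ) (by push_cast; exact ha)⟩,
    b, Int.cast_injective (α := ℂ) (by push_cast; exact hb)⟩

variable (D : Neg G p)

include H in
/-- The exceptional characters add up to one at the elements of order `p`. -/
theorem Neg.sum_Y {g : G} (hg : orderOf g = p) : ∑ θ ∈ D.Y, (θ : G → ℂ) g = 1 := by
  classical
  have hp : p.Prime := Fact.out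
  have hg1 : g ≠ 1 := fun e => by rw [e, orderOf_one] at hg; exact hp.one_lt.ne hg
  have h := regular_expansion (G := G) g
  rw [if_neg hg1, ← Finset.sum_subset
    (Finset.subset_univ (insert (trivialIrr G) (insert D.χ D.Y))) (fun ψ _ hψ => by
      simp only [Finset.mem_insert, not_or] at hψ
      rw [D.vanish ψ hψ.1 hψ.2.1 hψ.2.2 g hg, mul_zero]),
    Finset.sum_insert (by simp [D.triv_ne, D.triv_not]), Finset.sum_insert D.χ_not,
    charDeg_spec' D.χ, D.deg, D.at_p g hg,
    Finset.sum_congr rfl (g := fun θ : IrrCharacter G => ((D.f : ℂ) - 1) * (θ : G → ℂ) g)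
      (fun θ hθ => by rw [D.vY θ hθ 1 H.one_reg, charDeg_spec' D.χ, D.deg]),
    ← Finset.mul_sum] at h
  simp only [trivialIrr] at h
  refine mul_left_cancel₀ (show ((D.f : ℂ) - 1) ≠ 0 from sub_ne_zero.2 ?_) ?_
  · have := D.two_le
    exact_mod_cast (show D.f ≠ 1 by omega)
  · linear_combination h

include H in
/-- The class equation at an involution. -/
theorem Neg.count_eq {g z : G} (hg : orderOf g = p) (hz : orderOf z = 2) {v : ℤ}
    (hv : (D.χ : G → ℂ) z = v) :
    (p : ℤ) * (Nat.card {k : G // IsConj g (z * (k * z * k⁻¹))} : ℤ) * ((D.f : ℤ) * ((D.f : ℤ) - 1)) =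
      (Nat.card G : ℤ) * ((D.f : ℤ) - v) ^ 2 := by
  classical
  have hzp : ¬ p ∣ orderOf z := H.even_reg (dvd_of_eq hz.symm)
  have h := Few.class_u H.hx hg z
  rw [← Finset.sum_subset (Finset.subset_univ (insert (trivialIrr G) (insert D.χ D.Y)))
      (fun ψ _ hψ => by
        simp only [Finset.mem_insert, not_or] at hψ
        rw [D.vanish ψ hψ.1 hψ.2.1 hψ.2.2 g hg, map_zero, zero_mul, zero_mul, zero_div]),
    Finset.sum_insert (by simp [D.triv_ne, D.triv_not]), Finset.sum_insert D.χ_not, hv,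
    D.at_p g hg, charDeg_spec' D.χ, D.deg,
    Finset.sum_congr rfl (g := fun θ : IrrCharacter G => conj ((θ : G → ℂ) g) *
      (((v : ℂ) - 1) * ((v : ℂ) - 1) / ((D.f : ℂ) - 1)))
      (fun θ hθ => by
        rw [D.vY θ hθ z hzp, D.vY θ hθ 1 H.one_reg, charDeg_spec' D.χ, D.deg, hv]; ring),
    ← Finset.sum_mul, ← map_sum, D.sum_Y H hg] at h
  simp only [trivialIrr, map_one, one_mul, div_one, map_neg] at h
  have hf : (D.f : ℂ) ≠ 0 := Nat.cast_ne_zero.2 (by have := D.two_le; omega)
  have hf1 : (D.f : ℂ) - 1 ≠ 0 := sub_ne_zero.2 (by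
    have := D.two_le
    exact_mod_cast (show D.f ≠ 1 by omega))
  field_simp at h
  refine Int.cast_injective (α := ℂ) ?_
  push_cast
  linear_combination h

include H in
/-- The involutions of `G`. -/
theorem Neg.facts [IsSimpleGroup G] : ∃ (v : ℤ) (c : ℕ), (∃ z : G, orderOf z = 2) ∧
    (∀ z w : G, orderOf z = 2 → orderOf w = 2 → IsConj z w) ∧
    (∀ z : G, orderOf z = 2 → (D.χ : G → ℂ) z = v ∧
      Nat.card (Subgroup.centralizer ({z} : Set G)) = c) ∧
    (p : ℤ) * (c : ℤ) ^ 2 * ((D.f : ℤ) * ((D.f : ℤ) - 1)) = (Nat.card G : ℤ) * ((D.f : ℤ) - v) ^ 2 ∧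
    (4 : ℤ) ∣ (D.f : ℤ) - v ∧ c.factorization 2 = (Nat.card G).factorization 2 ∧ c ∣ Nat.card G ∧
    ¬ p ∣ c ∧
    (∃ a : ℕ, (D.f : ℤ) - ((p : ℤ) - 1) + p * v = 2 * p * a) ∧
    (∃ b : ℕ, (D.f : ℤ) - ((p : ℤ) - 1) - p * v = 2 * p * b) := by
  classical
  have hp : p.Prime := Fact.out
  haveI : Fact (Nat.Prime 2) := ⟨Nat.prime_two⟩
  have hp2 : p ≠ 2 := by have := H.hp3; omega
  obtain ⟨S, hS, hSe⟩ := H.exists_self
  obtain ⟨v, hv, hv4⟩ := OrdP.involution_value H.na D.χ (x := S.t)
    (by rw [← S.ht, pow_orderOf_eq_one])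
  rw [D.deg] at hv4
  set c := Nat.card (Subgroup.centralizer ({S.t} : Set G)) with hc
  have hone : ∀ z : G, orderOf z = 2 → IsConj S.t z := by
    intro z hz
    by_contra hnc
    obtain ⟨w, hw, -⟩ := OrdP.involution_value H.na D.χ (x := z) (by rw [← hz, pow_orderOf_eq_one])
    have h := D.count_eq H S.hu hz hw
    haveI : IsEmpty {k : G // IsConj S.u (z * (k * z * k⁻¹))} :=
      ⟨fun k => S.count_zero hz hp2 hnc k.1 k.2⟩
    rw [Nat.card_of_isEmpty, Nat.cast_zero, mul_zero, zero_mul] at h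
    have hfw : (D.f : ℤ) = w := sub_eq_zero.1 (pow_eq_zero_iff two_ne_zero |>.1
      ((mul_eq_zero.1 h.symm).resolve_left (Int.natCast_ne_zero.2 Nat.card_pos.ne')))
    have hz1 : z = 1 := OrdP.eq_one_of_value (Ne.symm D.triv_ne)
      (by rw [hw, ← hfw, charDeg_spec', D.deg, Int.cast_natCast])
    rw [hz1, orderOf_one] at hz
    omega
  have hall : ∀ z : G, orderOf z = 2 → (D.χ : G → ℂ) z = v ∧
      Nat.card (Subgroup.centralizer ({z} : Set G)) = c := by
    intro z hz
    obtain ⟨k, rfl⟩ := isConj_iff.1 (hone z hz)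
    refine ⟨by rw [irr_classFun D.χ, hv], ?_⟩
    let e : Subgroup.centralizer ({S.t} : Set G) ≃* Subgroup.centralizer ({k * S.t * k⁻¹} : Set G) :=
      ((Subgroup.centralizer ({S.t} : Set G)).equivMapOfInjective (MulAut.conj k).toMonoidHom
        (MulAut.conj k).injective).trans (MulEquiv.subgroupCongr (by
        ext g
        rw [Subgroup.mem_map_equiv, MulAut.conj_symm_apply, Subgroup.mem_centralizer_singleton_iff,
          Subgroup.mem_centralizer_singleton_iff]
        constructor <;> intro h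
        · calc g * (k * S.t * k⁻¹) = k * (k⁻¹ * g * k * S.t) * k⁻¹ := by group
            _ = k * (S.t * (k⁻¹ * g * k)) * k⁻¹ := by rw [h]
            _ = _ := by group
        · calc k⁻¹ * g * k * S.t = k⁻¹ * (g * (k * S.t * k⁻¹)) * k := by group
            _ = k⁻¹ * (k * S.t * k⁻¹ * g) * k := by rw [h]
            _ = _ := by group))
    exact (Nat.card_congr e.toEquiv).symm
  have heq := D.count_eq H S.hu S.ht hv
  rw [S.count hp2, ← hc] at heq
  push_cast at heq
  have hcdvd : c ∣ Nat.card G := Subgroup.card_subgroup_dvd_card _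
  -- an involution in the centre of a Sylow subgroup
  have h2 : c.factorization 2 = (Nat.card G).factorization 2 := by
    refine le_antisymm ((Nat.factorization_le_iff_dvd
      (Nat.card_pos (α := Subgroup.centralizer ({S.t} : Set G))).ne' Nat.card_pos.ne').2 hcdvd 2) ?_
    let P : Sylow 2 G := default
    have hP2 : 2 ∣ Nat.card (P : Subgroup G) :=
      P.dvd_card_of_dvd_card (S.ht ▸ orderOf_dvd_natCard S.t)
    haveI : Nontrivial (P : Subgroup G) := Finite.one_lt_card_iff_nontrivial.1 (by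
      have := Nat.le_of_dvd Nat.card_pos hP2
      omega)
    haveI := (P.isPGroup').center_nontrivial
    obtain ⟨z, hz⟩ := exists_prime_orderOf_dvd_card' (G := Subgroup.center (P : Subgroup G)) 2 (by
      obtain ⟨n, hn⟩ := IsPGroup.iff_card.1 (P.isPGroup'.to_subgroup (Subgroup.center (P : Subgroup G)))
      have h1 : 1 < Nat.card (Subgroup.center (P : Subgroup G)) := Finite.one_lt_card
      rw [hn] at h1 ⊢
      exact dvd_pow_self 2 fun e => by rw [e, pow_zero] at h1; omega)
    have hzo : orderOf ((z : (P : Subgroup G)) : G) = 2 := by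
      rw [Subgroup.orderOf_coe, Subgroup.orderOf_coe, hz]
    have hle : (P : Subgroup G) ≤ Subgroup.centralizer ({((z : (P : Subgroup G)) : G)} : Set G) :=
      fun x hx => Subgroup.mem_centralizer_singleton_iff.2
        (congrArg Subtype.val (Subgroup.mem_center_iff.1 z.2 ⟨x, hx⟩))
    have hd := Subgroup.card_dvd_of_le hle
    rw [(hall _ hzo).2, P.card_eq_multiplicity] at hd
    exact (Nat.Prime.pow_dvd_iff_le_factorization Nat.prime_two
      (Nat.card_pos (α := Subgroup.centralizer ({S.t} : Set G))).ne').1 hd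
  obtain ⟨ha, hb⟩ := H.dihedral (IsIrr.isCharacter D.χ.2) (n := (D.f : ℤ)) (w := -1) (z := v)
    (by rw [charDeg_spec', D.deg, Int.cast_natCast]) (fun g hg => by rw [D.at_p g hg]; simp)
    (fun g hg => (hall g hg).1)
  refine ⟨v, c, ⟨S.t, S.ht⟩, fun z w hz hw => (hone z hz).symm.trans (hone w hw), hall,
    by linear_combination heq, hv4, h2, hcdvd, ?_, ?_, ?_⟩
  · rw [hc]; exact H.cent_inv_not_dvd S.ht
  · obtain ⟨a, ha⟩ := ha
    exact ⟨a, by linear_combination ha⟩
  · obtain ⟨b, hb⟩ := hb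
    exact ⟨b, by linear_combination hb⟩

end Cfsg.Agent.Block.ThreeP
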