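import Mathlib
import Cfsg.Agent.Lib.Block.ThreeP.Formula
import Cfsg.Agent.Lib.Block.ThreeP.Elem

/-!
General tools: fixed points, 2-singular elements, a norm bound for characters with prescribed values,
free 2-groups and the Sylow congruence.
-/

set_option autoImplicit false
set_option linter.unusedSectionVars false
set_option linter.style.haveILetI false

namespace Cfsg.Agent.Block.ThreeP

open scoped ComplexConjugate
open Cfsg Cfsg.Agent.Block Cfsg.Agent.Block.PermChar Cfsg.Agent.Char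

universe u v

section Group

variable {G : Type u} [Group G] [Finite G]

theorem orderOf_conj (c g : G) : orderOf (c * g * c⁻¹) = orderOf g :=
  MulEquiv.orderOf_eq (MulAut.conj c) g

/-- The involution among the powers of an element of even order. -/
theorem exists_inv_pow {g : G} (hg : 2 ∣ orderOf g) :
    ∃ n : ℕ, orderOf (g ^ n) = 2 :=
  ⟨orderOf g / 2, orderOf_pow_orderOf_div (orderOf_pos g).ne' hg⟩

/-- An involution in the centre of a non-trivial 2-group. -/
theorem exists_central_inv {P : Subgroup G} (hP : IsPGroup 2 P) (h1 : P ≠ ⊥) :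
    ∃ z ∈ P, orderOf z = 2 ∧ ∀ g ∈ P, g * z = z * g := by
  haveI : Fact (Nat.Prime 2) := ⟨Nat.prime_two⟩
  haveI : Nontrivial P := (Subgroup.nontrivial_iff_ne_bot P).2 h1
  haveI := hP.center_nontrivial
  obtain ⟨z, hz⟩ := exists_prime_orderOf_dvd_card' (G := Subgroup.center P) 2 (by
    obtain ⟨n, hn⟩ := IsPGroup.iff_card.1 (hP.to_subgroup (Subgroup.center P))
    have h2 : 1 < Nat.card (Subgroup.center P) := Finite.one_lt_card
    rw [hn] at h2 ⊢
    exact dvd_pow_self 2 fun e => by rw [e, pow_zero] at h2; omega)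
  exact ⟨((z : P) : G), (z : P).2, by rw [Subgroup.orderOf_coe, Subgroup.orderOf_coe, hz],
    fun g hg => congrArg Subtype.val (Subgroup.mem_center_iff.1 z.2 ⟨g, hg⟩)⟩

theorem exists_inv_mem {T : Subgroup G} (hT : IsPGroup 2 T) {t : G} (ht : t ∈ T) (h1 : t ≠ 1) :
    ∃ n : ℕ, t ^ n ∈ T ∧ orderOf (t ^ n) = 2 := by
  haveI : Fact (Nat.Prime 2) := ⟨Nat.prime_two⟩
  obtain ⟨k, hk⟩ := IsPGroup.iff_orderOf.1 hT ⟨t, ht⟩
  rw [Subgroup.orderOf_mk] at hk
  have hk0 : k ≠ 0 := fun e => h1 (orderOf_eq_one_iff.1 (by rw [hk, e, pow_zero]))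
  obtain ⟨n, hn⟩ := exists_inv_pow (g := t) (hk ▸ dvd_pow_self 2 hk0)
  exact ⟨n, T.pow_mem ht n, hn⟩

/-- The number of elements of odd order is odd. -/
theorem nodd_odd : Odd (nodd G) := by
  classical
  haveI : Fintype G := Fintype.ofFinite _
  haveI : Fact (Nat.Prime 2) := ⟨Nat.prime_two⟩
  rw [nodd, ← ZMod.natCast_ne_zero_iff_odd, Nat.card_eq_fintype_card, Fintype.card_subtype,
    Finset.card_eq_sum_ones, Nat.cast_sum]
  set s := Finset.univ.filter fun g : G => Odd (orderOf g) with hs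
  have h1 : (1 : G) ∈ s := Finset.mem_filter.2 ⟨Finset.mem_univ _, by simp⟩
  rw [← Finset.add_sum_erase _ _ h1, Finset.sum_involution (s := s.erase 1) (fun g _ => g⁻¹)
    (fun g _ => CharTwo.add_self_eq_zero _) (fun g hg _ e => ?_) (fun g hg => ?_) (fun g _ => inv_inv g), add_zero]
  · rw [Nat.cast_one]; exact one_ne_zero
  · obtain ⟨hg1, hg2⟩ := Finset.mem_erase.1 hg
    refine hg1 (orderOf_eq_one_iff.1 (Nat.eq_one_of_dvd_coprimes
      ((Nat.coprime_two_left).2 (Finset.mem_filter.1 hg2).2) ?_ dvd_rfl))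
    refine orderOf_dvd_of_pow_eq_one ?_
    have e1 : g * g = g * g⁻¹ := congrArg (g * ·) e.symm
    rw [pow_two, e1, mul_inv_cancel]
  · obtain ⟨hg1, hg2⟩ := Finset.mem_erase.1 hg
    exact Finset.mem_erase.2 ⟨inv_ne_one.2 hg1, Finset.mem_filter.2 ⟨Finset.mem_univ _, by
      rw [orderOf_inv]; exact (Finset.mem_filter.1 hg2).2⟩⟩

/-- The elements `s y` with `s` an involution and `y` of odd order commuting with it are 2-singular,
and none of them has order divisible by four. -/
theorem sing_count :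
    nodd G + Nat.card (Σ s : {s : G // orderOf s = 2},
      {y : Subgroup.centralizer ({s.1} : Set G) // Odd (orderOf y)}) ≤ Nat.card G ∧
    ((∃ g : G, 4 ∣ orderOf g) → nodd G + Nat.card (Σ s : {s : G // orderOf s = 2},
      {y : Subgroup.centralizer ({s.1} : Set G) // Odd (orderOf y)}) < Nat.card G) := by
  classical
  haveI : Fintype G := Fintype.ofFinite G
  have hcom : ∀ (s : {s : G // orderOf s = 2})
      (y : {y : Subgroup.centralizer ({s.1} : Set G) // Odd (orderOf y)}),
      Commute s.1 (y.1 : G) ∧ Odd (orderOf (y.1 : G)) ∧ orderOf (s.1 * (y.1 : G)) = 2 * orderOf (y.1 : G) :=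
    fun s y => by
      have h1 : Commute s.1 (y.1 : G) := (Subgroup.mem_centralizer_singleton_iff.1 y.1.2).symm
      have h2 : Odd (orderOf (y.1 : G)) := by rw [Subgroup.orderOf_coe]; exact y.2
      exact ⟨h1, h2, by rw [h1.orderOf_mul_eq_mul_orderOf_of_coprime
        (by rw [s.2]; exact (Nat.coprime_two_left).2 h2), s.2]⟩
  have hrec : ∀ (s : {s : G // orderOf s = 2})
      (y : {y : Subgroup.centralizer ({s.1} : Set G) // Odd (orderOf y)}),
      s.1 = (s.1 * (y.1 : G)) ^ orderOf (y.1 : G) := fun s y => by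
    rw [(hcom s y).1.mul_pow, pow_orderOf_eq_one, mul_one]
    obtain ⟨i, hi⟩ := (hcom s y).2.1
    have h2 := pow_orderOf_eq_one s.1
    rw [s.2] at h2
    rw [hi, pow_succ, pow_mul, h2, one_pow, one_mul]
  have hinj : Function.Injective fun w : Σ s : {s : G // orderOf s = 2},
      {y : Subgroup.centralizer ({s.1} : Set G) // Odd (orderOf y)} => w.1.1 * (w.2.1 : G) := by
    rintro ⟨s, y⟩ ⟨s', y'⟩ e
    simp only at e
    have hoy : orderOf (y.1 : G) = orderOf (y'.1 : G) := by
      have h := (hcom s y).2.2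
      rw [e, (hcom s' y').2.2] at h
      omega
    have hs : s = s' := Subtype.ext (by rw [hrec s y, hrec s' y', e, hoy])
    subst hs
    exact congrArg _ (Subtype.ext (Subtype.ext (mul_left_cancel e)))
  set W := Σ s : {s : G // orderOf s = 2},
      {y : Subgroup.centralizer ({s.1} : Set G) // Odd (orderOf y)}
  haveI : Fintype W := Fintype.ofFinite _
  set A := Finset.univ.filter fun g : G => Odd (orderOf g) with hA
  set B := Finset.univ.image (fun w : W => w.1.1 * (w.2.1 : G)) with hB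
  have hA' : A.card = nodd G := by
    rw [nodd, Nat.card_eq_fintype_card, Fintype.card_subtype]
  have hB' : B.card = Nat.card W := by
    rw [hB, Finset.card_image_of_injective _ hinj, Finset.card_univ, Nat.card_eq_fintype_card]
  have hmemB : ∀ g ∈ B, 2 ∣ orderOf g ∧ ¬ 4 ∣ orderOf g := by
    intro g hg
    obtain ⟨⟨s, y⟩, -, rfl⟩ := Finset.mem_image.1 hg
    obtain ⟨-, h2, h3⟩ := hcom s y
    rw [h3]
    refine ⟨dvd_mul_right 2 _, fun h4 => ?_⟩
    obtain ⟨k, hk⟩ := h4
    exact Nat.not_even_iff_odd.2 h2 ⟨k, by omega⟩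
  have hd : Disjoint A B := Finset.disjoint_left.2 fun g hgA hgB =>
    Nat.not_even_iff_odd.2 (Finset.mem_filter.1 hgA).2 (even_iff_two_dvd.2 (hmemB g hgB).1)
  rw [← hA', ← hB', ← Finset.card_union_of_disjoint hd, Nat.card_eq_fintype_card]
  refine ⟨Finset.card_le_univ _, ?_⟩
  rintro ⟨g, hg⟩
  refine Finset.card_lt_univ_of_notMem (x := g) fun h => ?_
  rcases Finset.mem_union.1 h with h | h
  · exact Nat.not_even_iff_odd.2 (Finset.mem_filter.1 h).2
      (even_iff_two_dvd.2 ((dvd_trans ⟨2, rfl⟩ hg)))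
  · exact (hmemB g h).2 hg

/-- The same count with one class of involutions. -/
theorem sing_count_one_class {z : G} (hz : orderOf z = 2)
    (hone : ∀ w : G, orderOf w = 2 → IsConj z w) {N : ℕ}
    (hN : N * Nat.card (Subgroup.centralizer ({z} : Set G)) = Nat.card G) :
    nodd G + N * nodd (Subgroup.centralizer ({z} : Set G)) ≤ Nat.card G ∧
    ((∃ g : G, 4 ∣ orderOf g) →
      nodd G + N * nodd (Subgroup.centralizer ({z} : Set G)) < Nat.card G) := by
  classical
  haveI : Fintype {s : G // orderOf s = 2} := Fintype.ofFinite _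
  have hI : Nat.card {s : G // orderOf s = 2} = N := by
    refine Nat.eq_of_mul_eq_mul_right
      (Nat.card_pos (α := Subgroup.centralizer ({z} : Set G))) ?_
    rw [hN, ← (Subgroup.centralizer ({z} : Set G)).index_mul_card,
      Subgroup.centralizer_eq_comap_stabilizer]
    congr 1
    refine Eq.trans ?_ ((Subgroup.index_comap_of_surjective _
      (f := (ConjAct.toConjAct (G := G)).toMonoidHom) (MulEquiv.surjective _)).trans
      (MulAction.index_stabilizer (ConjAct G) z)).symm
    rw [← Nat.card_coe_set_eq]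
    exact Nat.card_congr (Equiv.subtypeEquivRight fun t => by
      rw [ConjAct.mem_orbit_conjAct]
      exact ⟨fun ht => (hone t ht).symm, fun ht => by
        obtain ⟨c, hc⟩ := isConj_iff.1 ht.symm
        rw [← hc, orderOf_conj, hz]⟩)
  have h := sing_count (G := G)
  rw [Nat.card_sigma, Finset.sum_congr rfl (g := fun _ => nodd (Subgroup.centralizer ({z} : Set G)))
    fun s _ => ?_, Finset.sum_const, Finset.card_univ, ← Nat.card_eq_fintype_card, hI,
    smul_eq_mul] at h
  · exact h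
  · obtain ⟨c, hc⟩ := isConj_iff.1 (hone s.1 s.2)
    show nodd (Subgroup.centralizer ({s.1} : Set G)) = _
    rw [← hc]
    exact (centralizer_conj_card z c).1

theorem fix_pow {Ω : Type v} [MulAction G Ω] {g : G} {b : Ω} (h : g • b = b) (n : ℕ) : g ^ n • b = b :=
  MulAction.mem_stabilizer_iff.1
    (Subgroup.pow_mem (MulAction.stabilizer G b) (MulAction.mem_stabilizer_iff.2 h) n)

/-- A 2-group acting freely on an invariant set divides its cardinality. -/
theorem free_dvd {Ω : Type v} [MulAction G Ω] {T : Subgroup G} {X : Finset Ω}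
    (hTX : ∀ t ∈ T, ∀ a ∈ X, t • a ∈ X) (hfree : ∀ t ∈ T, ∀ a ∈ X, t • a = a → t = 1) :
    Nat.card T ∣ X.card := by
  classical
  letI : MulAction T {a // a ∈ X} :=
    { smul := fun t a => ⟨(t : G) • a.1, hTX _ t.2 _ a.2⟩
      one_smul := fun a => Subtype.ext (one_smul G a.1)
      mul_smul := fun s t a => Subtype.ext (mul_smul (s : G) (t : G) a.1) }
  haveI : Fintype (Quotient (MulAction.orbitRel T {a // a ∈ X})) := Fintype.ofFinite _
  have h : Nat.card {a // a ∈ X} = ∑ ω : Quotient (MulAction.orbitRel T {a // a ∈ X}),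
      Nat.card (MulAction.orbit T ω.out) := by
    rw [Nat.card_congr (MulAction.selfEquivSigmaOrbits T {a // a ∈ X}), Nat.card_sigma]
  rw [Nat.card_eq_fintype_card (α := {a // a ∈ X}), Fintype.card_coe] at h
  rw [h]
  refine Finset.dvd_sum fun ω _ => ?_
  have h1 := MulAction.index_stabilizer T ω.out
  rw [show MulAction.stabilizer T ω.out = ⊥ from (Subgroup.eq_bot_iff_forall _).2 fun t ht =>
    Subtype.ext (hfree _ t.2 _ ω.out.2 (congrArg Subtype.val (MulAction.mem_stabilizer_iff.1 ht))),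
    Subgroup.index_bot] at h1
  rw [Nat.card_coe_set_eq, ← h1]

end Group

variable {G : Type u} [Group G] [Fintype G] {Ω : Type v} [Fintype Ω] [MulAction G Ω] {p : ℕ}
  [Fact p.Prime]

/-- A bound for characters which agree up to sign with one function on a set. -/
theorem norm_bound (Z : Finset (IrrCharacter G)) (E : Finset G) (F : G → ℤ)
    (s : IrrCharacter G → ℤ) (hs : ∀ θ ∈ Z, s θ = 1 ∨ s θ = -1)
    (h : ∀ θ ∈ Z, ∀ g ∈ E, (θ : G → ℂ) g = (s θ : ℂ) * (F g : ℂ)) :
    (Z.card : ℤ) * ∑ g ∈ E, F g ^ 2 ≤ (Nat.card G : ℤ) := by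
  classical
  rcases Nat.eq_zero_or_pos Z.card with h0 | h0
  · rw [h0, Nat.cast_zero, zero_mul]; exact Int.natCast_nonneg _
  set W : G → ℂ := fun g => ∑ θ ∈ Z, (s θ : ℂ) * (θ : G → ℂ) g with hW
  have hWE : ∀ g ∈ E, W g = ((Z.card : ℤ) * F g : ℤ) := by
    intro g hg
    simp only [hW]
    rw [Finset.sum_congr rfl (g := fun _ => (F g : ℂ)) fun θ hθ => by
      rw [h θ hθ g hg]
      rcases hs θ hθ with e | e <;> rw [e] <;> push_cast <;> ring]
    simp
  have htot : ∑ g : G, Complex.normSq (W g) = (Z.card : ℝ) * (Nat.card G : ℝ) := by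
    apply Complex.ofReal_injective
    push_cast
    simp only [← Complex.mul_conj, hW, map_sum, map_mul, map_intCast, Finset.sum_mul, Finset.mul_sum]
    rw [Finset.sum_comm]
    rw [Finset.sum_congr rfl (g := fun θ : IrrCharacter G => (Nat.card G : ℂ)) fun θ hθ => ?_,
      Finset.sum_const, nsmul_eq_mul]
    rw [Finset.sum_comm, Finset.sum_eq_single θ (fun η _ hne => ?_) (fun hn => absurd hθ hn)]
    · have h1 := Cfsg.Agent.Char.classInner_self_irr θ.2
      rw [classInner, inv_mul_eq_iff_eq_mul₀ (Nat.cast_ne_zero.2 Nat.card_pos.ne'), mul_one] at h1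
      rw [← h1]
      refine Finset.sum_congr rfl fun g _ => ?_
      have h2 : (s θ : ℂ) * (s θ : ℂ) = 1 := by rcases hs θ hθ with e | e <;> rw [e] <;> simp
      linear_combination (θ : G → ℂ) g * conj ((θ : G → ℂ) g) * h2
    · have h1 := Cfsg.Agent.Char.classInner_irr_ne η.2 θ.2 fun e => hne (Subtype.ext e)
      rw [classInner, mul_eq_zero] at h1
      have h2 := h1.resolve_left (inv_ne_zero (Nat.cast_ne_zero.2 Nat.card_pos.ne'))
      calc ∑ g : G, (s η : ℂ) * (η : G → ℂ) g * ((s θ : ℂ) * conj ((θ : G → ℂ) g))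
          = (s η : ℂ) * (s θ : ℂ) * ∑ g : G, (η : G → ℂ) g * conj ((θ : G → ℂ) g) := by
            rw [Finset.mul_sum]; exact Finset.sum_congr rfl fun g _ => by ring
        _ = 0 := by rw [h2, mul_zero]
  have hle : ∑ g ∈ E, Complex.normSq (W g) ≤ ∑ g : G, Complex.normSq (W g) :=
    Finset.sum_le_sum_of_subset_of_nonneg (Finset.subset_univ _) fun _ _ _ => Complex.normSq_nonneg _
  rw [htot, Finset.sum_congr rfl (g := fun g => ((((Z.card : ℤ) * F g) ^ 2 : ℤ) : ℝ))
    (fun g hg => by rw [hWE g hg, ← Complex.ofReal_intCast, Complex.normSq_ofReal]; push_cast; ring),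
    ← Int.cast_sum] at hle
  have hle' : ∑ g ∈ E, ((Z.card : ℤ) * F g) ^ 2 ≤ (Z.card : ℤ) * (Nat.card G : ℤ) := by
    exact_mod_cast hle
  refine le_of_mul_le_mul_left ?_ (show (0 : ℤ) < Z.card by exact_mod_cast h0)
  calc (Z.card : ℤ) * ((Z.card : ℤ) * ∑ g ∈ E, F g ^ 2) = ∑ g ∈ E, ((Z.card : ℤ) * F g) ^ 2 := by
        rw [Finset.mul_sum, Finset.mul_sum]; exact Finset.sum_congr rfl fun g _ => by ring
    _ ≤ _ := hle'

/-- The number of fixed points. -/
noncomputable def nfix (Ω : Type v) [MulAction G Ω] (g : G) : ℕ := Nat.card (MulAction.fixedBy Ω g)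

theorem piFun_eq (g : G) : piFun G Ω g = (nfix Ω g : ℂ) := rfl

theorem nfix_conj (c g : G) : nfix Ω (c * g * c⁻¹) = nfix Ω g := by
  refine (Nat.card_congr ((MulAction.toPerm c).subtypeEquiv fun a => ?_)).symm
  show g • a = a ↔ (c * g * c⁻¹) • c • a = c • a
  rw [mul_smul, mul_smul, inv_smul_smul, smul_left_cancel_iff]

variable (H : Hyps G Ω p)

include H in
/-- Sylow's theorem for `p`. -/
theorem Hyps.congr_p : ∃ n : ℕ, Nat.card G = 2 * p * (p * n + 1) := by
  obtain ⟨Q, hQ⟩ := SCP.exists_sylow H.hx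
  have h1 := card_sylow_modEq_one p G
  have h2 : Nat.card (Sylow p G) = (SCP.N H.x).index := by
    rw [Sylow.card_eq_index_normalizer Q]
    show (Subgroup.normalizer ((Q : Subgroup G) : Set G)).index = _
    rw [hQ]
  rw [h2, Nat.ModEq, Nat.one_mod_eq_one.2 (Fact.out : p.Prime).one_lt.ne'] at h1
  refine ⟨(SCP.N H.x).index / p, ?_⟩
  have h3 : p * ((SCP.N H.x).index / p) + 1 = (SCP.N H.x).index := by
    conv_rhs => rw [← Nat.div_add_mod (SCP.N H.x).index p, h1]
  rw [h3, ← (SCP.N H.x).card_mul_index, SCP.card_N H.hx, H.he, mul_comm p 2]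

include H in
/-- A 2-group fixes a point. -/
theorem Hyps.exists_fix {S : Subgroup G} (hS : IsPGroup 2 S) : ∃ a : Ω, ∀ s ∈ S, s • a = a := by
  haveI : Fact (Nat.Prime 2) := ⟨Nat.prime_two⟩
  obtain ⟨a, ha⟩ := hS.nonempty_fixed_point_of_prime_not_dvd_card (α := Ω) fun h => by
    rw [Nat.card_eq_fintype_card, H.card] at h
    rcases (Nat.Prime.dvd_mul Nat.prime_two).1 h with h3 | h3
    · omega
    · have := (Nat.prime_dvd_prime_iff_eq Nat.prime_two (Fact.out : p.Prime)).1 h3
      have := H.hp3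
      omega
  exact ⟨a, fun s hs => ha ⟨s, hs⟩⟩

variable [DecidableEq Ω]

include H in
theorem Hyps.pi_two {χ : IrrCharacter G} (hχ : χ ≠ one₀ G) (h1 : mult G Ω (χ : G → ℂ) = 1)
    (hall : ∀ η : IrrCharacter G, η ≠ one₀ G → η ≠ χ → mult G Ω (η : G → ℂ) = 0) (g : G) :
    (nfix Ω g : ℂ) = 1 + (χ : G → ℂ) g := by
  classical
  haveI := H.trans
  haveI := H.nonempty
  rw [← piFun_eq, piFun_decomp, ← Finset.sum_subset (Finset.subset_univ {one₀ G, χ}) (fun η _ hη => by
    simp only [Finset.mem_insert, Finset.mem_singleton, not_or] at hη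
    rw [hall η hη.1 hη.2, zero_smul]), Finset.sum_pair (Ne.symm hχ), PermChar.mult_one, h1,
    one_smul, one_smul]
  rfl

include H in
theorem Hyps.pi_three {χ ψ : IrrCharacter G} (hχ : χ ≠ one₀ G) (hψ : ψ ≠ one₀ G) (hne : ψ ≠ χ)
    (h1 : mult G Ω (χ : G → ℂ) = 1) (h2 : mult G Ω (ψ : G → ℂ) = 1)
    (hall : ∀ η : IrrCharacter G, η ≠ one₀ G → η ≠ χ → η ≠ ψ → mult G Ω (η : G → ℂ) = 0) (g : G) :
    (nfix Ω g : ℂ) = 1 + (χ : G → ℂ) g + (ψ : G → ℂ) g := by
  classical
  haveI := H.trans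
  haveI := H.nonempty
  rw [← piFun_eq, piFun_decomp, ← Finset.sum_subset (Finset.subset_univ {one₀ G, χ, ψ})
    (fun η _ hη => by
      simp only [Finset.mem_insert, Finset.mem_singleton, not_or] at hη
      rw [hall η hη.1 hη.2.1 hη.2.2, zero_smul]),
    Finset.sum_insert (by simp [Ne.symm hχ, Ne.symm hψ]), Finset.sum_pair (Ne.symm hne),
    PermChar.mult_one, h1, h2, one_smul, one_smul, one_smul, add_assoc]
  rfl

end Cfsg.Agent.Block.ThreeP
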