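import Mathlib
import Cfsg.Agent.Lib.Block.ThreeP.Common
import Cfsg.Agent.Lib.Transfer.Burnside

/-!
Involutions fixing three points: the kernel on the fixed points of a central involution, and the
Sylow subgroup is not elementary abelian of order eight.
-/

set_option autoImplicit false
set_option linter.unusedSectionVars false
set_option linter.style.haveILetI false

namespace Cfsg.Agent.Block.ThreeP

universe u v

variable {G : Type u} [Group G] [Finite G] {Ω : Type v} [Fintype Ω] [MulAction G Ω]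

/-- The fixed points as a set. -/
noncomputable def fixSet (Ω : Type v) [Fintype Ω] [MulAction G Ω] (g : G) : Finset Ω :=
  letI := Classical.decEq Ω
  Finset.univ.filter fun a => g • a = a

theorem mem_fixSet {g : G} {a : Ω} : a ∈ fixSet Ω g ↔ g • a = a := by
  simp [fixSet]

theorem card_fixSet (g : G) : (fixSet Ω g).card = nfix Ω g := by
  classical
  rw [nfix, Nat.card_eq_fintype_card, fixSet]
  refine (Fintype.card_of_subtype _ fun a => ?_).symm
  simp [MulAction.mem_fixedBy]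

theorem fixSet_conj (c g : G) (a : Ω) : a ∈ fixSet Ω (c * g * c⁻¹) ↔ c⁻¹ • a ∈ fixSet Ω g := by
  rw [mem_fixSet, mem_fixSet, mul_smul, mul_smul, ← eq_inv_smul_iff]

/-- Three points, two of them fixed: so is the third. -/
theorem third_fixed {X : Finset Ω} (hX : X.card = 3) {g : G} (hg : ∀ a ∈ X, g • a ∈ X) {a b : Ω}
    (ha : a ∈ X) (hb : b ∈ X) (hab : a ≠ b) (hga : g • a = a) (hgb : g • b = b) :
    ∀ c ∈ X, g • c = c := by
  classical
  intro c hc
  by_cases hca : c = a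
  · rw [hca, hga]
  by_cases hcb : c = b
  · rw [hcb, hgb]
  by_contra hne
  have hsub : ({a, b, c, g • c} : Finset Ω) ⊆ X := by
    simp only [Finset.insert_subset_iff, Finset.singleton_subset_iff]
    exact ⟨ha, hb, hc, hg c hc⟩
  have h4 : ({a, b, c, g • c} : Finset Ω).card = 4 := by
    have h1 : g • c ≠ a := fun e => hca (smul_left_cancel g (e.trans hga.symm))
    have h2 : g • c ≠ b := fun e => hcb (smul_left_cancel g (e.trans hgb.symm))
    rw [Finset.card_insert_of_notMem (by simp [hab, Ne.symm hca, Ne.symm h1]),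
      Finset.card_insert_of_notMem (by simp [Ne.symm hcb, Ne.symm h2]),
      Finset.card_pair (Ne.symm hne)]
  have := Finset.card_le_card hsub
  omega

variable (h3 : ∀ w : G, orderOf w = 2 → nfix Ω w = 3)

include h3

theorem card_fix_inv {w : G} (hw : orderOf w = 2) : (fixSet Ω w).card = 3 := by
  rw [card_fixSet, h3 w hw]

/-- The kernel of a Sylow subgroup on the fixed points of its central involution. -/
theorem exists_kernel {S : Subgroup G} (hS : IsPGroup 2 S) {z : G} (hzS : z ∈ S) (hz : orderOf z = 2)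
    (hzc : ∀ g ∈ S, g * z = z * g) {α : Ω} (hα : ∀ s ∈ S, s • α = α) :
    ∃ S₀ : Subgroup G, S₀ ≤ S ∧ z ∈ S₀ ∧ Nat.card S ≤ 2 * Nat.card S₀ ∧
      (∀ s ∈ S, s ∈ S₀ ↔ ∀ a ∈ fixSet Ω z, s • a = a) ∧
      (∀ w ∈ S₀, orderOf w = 2 → fixSet Ω w = fixSet Ω z) ∧
      (∀ t ∈ S₀, t ≠ 1 → ∀ b : Ω, t • b = b → b ∈ fixSet Ω z) := by
  classical
  set T := fixSet Ω z with hT
  have hTc : T.card = 3 := card_fix_inv h3 hz
  have hαT : α ∈ T := mem_fixSet.2 (hα z hzS)
  obtain ⟨β, hβT, hβα⟩ := Finset.exists_mem_ne (by omega : 1 < T.card) α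
  have hperm : ∀ s ∈ S, ∀ a ∈ T, s • a ∈ T := fun s hs a ha => mem_fixSet.2 (by
    rw [← mul_smul, ← hzc s hs, mul_smul, mem_fixSet.1 ha])
  refine ⟨S ⊓ MulAction.stabilizer G β, inf_le_left, ⟨hzS, mem_fixSet.1 hβT⟩, ?_, ?_, ?_, ?_⟩
  · have h := (MulAction.stabilizer S β).card_mul_index
    rw [MulAction.index_stabilizer] at h
    have hle : (MulAction.orbit S β).ncard ≤ 2 := by
      have hsub : MulAction.orbit S β ⊆ ↑(T.erase α) := by
        rintro _ ⟨s, rfl⟩
        exact Finset.mem_coe.2 (Finset.mem_erase.2 ⟨fun e => hβα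
          (smul_left_cancel (s : G) ((show (s : G) • β = α from e).trans (hα _ s.2).symm)),
          hperm _ s.2 β hβT⟩)
      have h2 := Set.ncard_le_ncard hsub
      rw [Set.ncard_coe_finset, Finset.card_erase_of_mem hαT, hTc] at h2
      exact h2
    rw [← h, mul_comm 2]
    refine Nat.mul_le_mul (le_of_eq ?_) hle
    exact Nat.card_congr
      { toFun := fun g => ⟨(g.1 : G), g.1.2, g.2⟩
        invFun := fun g => ⟨⟨g.1, g.2.1⟩, g.2.2⟩
        left_inv := fun g => rfl
        right_inv := fun g => rfl }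
  · intro s hs
    refine ⟨fun h => ?_, fun h => ⟨hs, h β hβT⟩⟩
    exact third_fixed hTc (hperm s hs) hαT hβT (Ne.symm hβα) (hα s hs) h.2
  · intro w hw hw2
    refine (Finset.eq_of_subset_of_card_le (fun a ha => ?_) ?_).symm
    · exact mem_fixSet.2 (third_fixed hTc (hperm w hw.1) hαT hβT (Ne.symm hβα) (hα w hw.1) hw.2 a ha)
    · rw [hTc, card_fix_inv h3 hw2]
  · intro t ht ht1 b hb
    obtain ⟨n, hnS, hn⟩ := exists_inv_mem hS ht.1 ht1
    have hw : t ^ n ∈ S ⊓ MulAction.stabilizer G β := pow_mem ht n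
    have hsub : T ⊆ fixSet Ω (t ^ n) := fun a ha =>
      mem_fixSet.2 (third_fixed hTc (hperm _ hw.1) hαT hβT (Ne.symm hβα) (hα _ hw.1) hw.2 a ha)
    rw [Finset.eq_of_subset_of_card_le hsub (by rw [hTc, card_fix_inv h3 hn])]
    exact mem_fixSet.2 (fix_pow hb n)

/-- The Sylow subgroup is not elementary abelian of order eight. -/
theorem not_elementary (S : Sylow 2 G) (h8 : Nat.card (S : Subgroup G) = 8) {z : G}
    (hz : orderOf z = 2) {S₀ : Subgroup G} (hS₀ : S₀ ≤ (S : Subgroup G)) (hzS : z ∈ S₀)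
    (h4 : Nat.card S₀ = 4)
    (hfix : ∀ w ∈ S₀, orderOf w = 2 → fixSet Ω w = fixSet Ω z)
    (hker : ∀ s ∈ (S : Subgroup G), s ∈ S₀ ↔ ∀ a ∈ fixSet Ω z, s • a = a)
    (hone : ∀ w : G, orderOf w = 2 → IsConj z w) : ∃ s ∈ (S : Subgroup G), s * s ≠ 1 := by
  classical
  by_contra hcon
  push Not at hcon
  haveI : Fact (Nat.Prime 2) := ⟨Nat.prime_two⟩
  have hcomm : ∀ a ∈ (S : Subgroup G), ∀ b ∈ (S : Subgroup G), a * b = b * a := by
    intro a ha b hb
    have h1 := hcon _ (mul_mem ha hb)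
    calc a * b = a * (a * b * (a * b)) * b := by rw [h1, mul_one]
      _ = (a * a) * (b * a) * (b * b) := by group
      _ = b * a := by rw [hcon a ha, hcon b hb, one_mul, mul_one]
  obtain ⟨s, hs, hs0⟩ : ∃ s ∈ (S : Subgroup G), s ∉ S₀ := by
    by_contra hno
    push Not at hno
    have := Subgroup.card_le_of_le (show (S : Subgroup G) ≤ S₀ from hno)
    omega
  apply hs0
  rw [hker s hs]
  have hs1 : s ≠ 1 := fun e => hs0 (e ▸ one_mem _)
  have hs2 : orderOf s = 2 := orderOf_eq_prime (by rw [pow_two]; exact hcon s hs) hs1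
  obtain ⟨g, hg⟩ := isConj_iff.1 (hone s hs2)
  obtain ⟨n, hn, hn'⟩ := Cfsg.Agent.Transfer.exists_normalizer_conj_of_abelian S
    ⟨⟨fun x y => Subtype.ext (hcomm _ x.2 _ y.2)⟩⟩ (hS₀ hzS) (g := g) (hg ▸ hs)
  rw [hg] at hn'
  set U := S₀.map (MulAut.conj n).toMonoidHom with hU
  have hUS : U ≤ (S : Subgroup G) := by
    rintro _ ⟨a, ha, rfl⟩
    exact (Subgroup.mem_normalizer_iff.1 hn a).1 (hS₀ ha)
  have hUc : Nat.card U = 4 := by
    rw [← h4]
    exact (Nat.card_congr (S₀.equivMapOfInjective _ (MulAut.conj n).injective).toEquiv).symm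
  -- two subgroups of order four meet
  obtain ⟨w, hw0, hwU, hw1⟩ : ∃ w, w ∈ S₀ ∧ w ∈ U ∧ w ≠ 1 := by
    by_contra hno
    push Not at hno
    have hinj : Function.Injective (fun q : S₀ × U =>
        (⟨(q.1 : G) * q.2, mul_mem (hS₀ q.1.2) (hUS q.2.2)⟩ : (S : Subgroup G))) := by
      rintro ⟨a, b⟩ ⟨a', b'⟩ e
      have e' : (a : G) * b = a' * b' := congrArg Subtype.val e
      have h1 : (a' : G)⁻¹ * a = (b' : G) * (b : G)⁻¹ :=
        inv_mul_eq_iff_eq_mul.2 (eq_mul_inv_of_mul_eq e' |>.trans (mul_assoc _ _ _))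
      have h2 := hno _ (mul_mem (inv_mem a'.2) a.2) (h1 ▸ mul_mem b'.2 (inv_mem b.2))
      have hb := h1.symm.trans h2
      exact Prod.ext (Subtype.ext (inv_mul_eq_one.1 h2).symm)
        (Subtype.ext (mul_inv_eq_one.1 hb).symm)
    have := Nat.card_le_card_of_injective _ hinj
    rw [Nat.card_prod, h4, hUc, h8] at this
    omega
  obtain ⟨a, ha, rfl⟩ := hwU
  have ha1 : a ≠ 1 := fun e => hw1 (by rw [e, map_one])
  have ha2 : orderOf a = 2 := orderOf_eq_prime (by rw [pow_two]; exact hcon a (hS₀ ha)) ha1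
  have hw2 : orderOf (n * a * n⁻¹) = 2 := by rw [orderOf_conj, ha2]
  have hT : ∀ x : Ω, x ∈ fixSet Ω z ↔ n⁻¹ • x ∈ fixSet Ω z := fun x => by
    conv_lhs => rw [← hfix _ (show n * a * n⁻¹ ∈ S₀ from hw0) hw2]
    rw [fixSet_conj, hfix a ha ha2]
  intro x hx
  rw [← mem_fixSet, ← hn', fixSet_conj]
  exact (hT x).1 hx

end Cfsg.Agent.Block.ThreeP
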