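import Mathlib
import Cfsg.Agent.Lib.Block.ThreeP.Common
import Cfsg.Agent.Lib.Block.DegreeTwoPOrbital

/-!
Rank three: the eigenvalues of an orbital and the parameters.
-/

set_option autoImplicit false
set_option linter.unusedSectionVars false
set_option linter.style.haveILetI false

namespace Cfsg.Agent.Block.ThreeP

open scoped ComplexConjugate
open Cfsg Cfsg.Agent.Block Cfsg.Agent.Block.PermChar Cfsg.Agent.Char

universe u v

/-- A self-paired orbital of a group of rank three with a self-paired complement. -/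
structure Orb (G : Type u) [Group G] (Ω : Type v) [MulAction G Ω] where
  R : Ω → Ω → Prop
  symm : ∀ x y : Ω, R x y → R y x
  irr : ∀ x : Ω, ¬ R x x
  inv : ∀ (g : G) (x y : Ω), R (g • x) (g • y) ↔ R x y
  tr1 : ∀ x y x' y' : Ω, R x y → R x' y' → ∃ g : G, g • x = x' ∧ g • y = y'
  tr0 : ∀ x y x' y' : Ω, x ≠ y → ¬ R x y → x' ≠ y' → ¬ R x' y' →
    ∃ g : G, g • x = x' ∧ g • y = y'
  ne1 : ∃ x y : Ω, R x y
  ne0 : ∃ x y : Ω, x ≠ y ∧ ¬ R x y

variable {G : Type u} [Group G] [Fintype G] {Ω : Type v} [Fintype Ω] [MulAction G Ω]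

/-- The other orbital. -/
def Orb.compl (O : Orb G Ω) : Orb G Ω where
  R x y := x ≠ y ∧ ¬ O.R x y
  symm _ _ h := ⟨Ne.symm h.1, fun h' => h.2 (O.symm _ _ h')⟩
  irr _ h := h.1 rfl
  inv g x y := by rw [O.inv, Ne, smul_left_cancel_iff]
  tr1 x y x' y' h h' := O.tr0 x y x' y' h.1 h.2 h'.1 h'.2
  tr0 x y x' y' h1 h2 h3 h4 :=
    O.tr1 x y x' y' (not_not.1 fun hn => h2 ⟨h1, hn⟩) (not_not.1 fun hn => h4 ⟨h3, hn⟩)
  ne1 := O.ne0
  ne0 := by
    obtain ⟨x, y, h⟩ := O.ne1
    exact ⟨x, y, fun e => O.irr x (by rwa [← e] at h), fun h' => h'.2 h⟩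

theorem Orb.card_nbrs (O : Orb G Ω) [MulAction.IsPretransitive G Ω] (a x : Ω) :
    Nat.card {y // O.R x y} = Nat.card {y // O.R a y} := by
  obtain ⟨g, rfl⟩ := MulAction.exists_smul_eq G a x
  refine (Nat.card_congr ((MulAction.toPerm g).subtypeEquiv fun y => ?_)).symm
  exact (O.inv g a y).symm

theorem Orb.card_compl [DecidableEq Ω] (O : Orb G Ω) (x : Ω) :
    Nat.card {y // O.R x y} + Nat.card {y // O.compl.R x y} + 1 = Fintype.card Ω := by
  classical
  rw [Nat.card_eq_fintype_card, Nat.card_eq_fintype_card, Fintype.card_subtype, Fintype.card_subtype]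
  have h1 : (Finset.univ.filter fun y => O.compl.R x y) =
      ((Finset.univ.filter fun y => ¬ O.R x y)).erase x := by
    ext y
    simp only [Finset.mem_filter, Finset.mem_univ, true_and, Finset.mem_erase]
    exact ⟨fun h => ⟨Ne.symm h.1, h.2⟩, fun h => ⟨Ne.symm h.1, h.2⟩⟩
  have h2 : x ∈ Finset.univ.filter fun y => ¬ O.R x y :=
    Finset.mem_filter.2 ⟨Finset.mem_univ _, O.irr x⟩
  rw [h1, Finset.card_erase_of_mem h2, ← Finset.card_univ]
  have := Finset.card_filter_add_card_filter_not (s := (Finset.univ : Finset Ω)) (fun y => O.R x y)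
  have := Finset.card_pos.2 ⟨x, h2⟩
  omega

variable [DecidableEq Ω]

/-- The trace of a projection against a permutation matrix. -/
theorem trace_proj_pmat (χ : IrrCharacter G) (z : G) :
    (proj G Ω (χ : G → ℂ) * pmat G Ω z).trace = mult G Ω (χ : G → ℂ) * (χ : G → ℂ) z := by
  classical
  have hd := IsIrr.one_ne_zero χ.2
  have hG : (Nat.card G : ℂ) ≠ 0 := Nat.cast_ne_zero.2 Nat.card_pos.ne'
  have hshift : ∀ η : IrrCharacter G, ∑ g : G, conj ((χ : G → ℂ) g) * (η : G → ℂ) (g * z) =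
      if η = χ then (Nat.card G : ℂ) * (χ : G → ℂ) z / (χ : G → ℂ) 1 else 0 := by
    intro η
    by_cases h : η = χ
    · rw [if_pos h, h, sum_mul_conj_shift χ.2]
    · rw [if_neg h, sum_classFun_mul_apply η.2 (IsIrr.classFun (IsIrr.conj χ.2))]
      have h1 := classInner_irr_ne η.2 χ.2 fun e => h (Subtype.ext e)
      rw [classInner, mul_eq_zero] at h1
      rw [Finset.sum_congr rfl (fun g _ => mul_comm (conj ((χ : G → ℂ) g)) ((η : G → ℂ) g)),
        h1.resolve_left (inv_ne_zero hG), zero_div, zero_mul]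
  have hsum : ∑ g : G, conj ((χ : G → ℂ) g) * piFun G Ω (g * z) =
      mult G Ω (χ : G → ℂ) * ((Nat.card G : ℂ) * (χ : G → ℂ) z / (χ : G → ℂ) 1) := by
    have h1 : ∀ g : G, piFun G Ω g = ∑ η : IrrCharacter G, mult G Ω (η : G → ℂ) * (η : G → ℂ) g :=
      fun g => by
        conv_lhs => rw [piFun_decomp]
        simp only [Finset.sum_apply, Pi.smul_apply, smul_eq_mul]
    simp only [h1, Finset.mul_sum]
    rw [Finset.sum_comm, Finset.sum_eq_single χ]
    · rw [← if_pos (c := χ = χ) rfl (t := (Nat.card G : ℂ) * (χ : G → ℂ) z / (χ : G → ℂ) 1) (e := (0 : ℂ)),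
        ← hshift χ, Finset.mul_sum]
      exact Finset.sum_congr rfl fun g _ => by ring
    · intro η _ hne
      calc ∑ g : G, conj ((χ : G → ℂ) g) * (mult G Ω (η : G → ℂ) * (η : G → ℂ) (g * z))
          = mult G Ω (η : G → ℂ) * ∑ g : G, conj ((χ : G → ℂ) g) * (η : G → ℂ) (g * z) := by
            rw [Finset.mul_sum]; exact Finset.sum_congr rfl fun g _ => by ring
        _ = 0 := by rw [hshift, if_neg hne, mul_zero]
    · exact fun h => absurd (Finset.mem_univ χ) h
  rw [proj, Matrix.smul_mul, Matrix.trace_smul, Finset.sum_mul, Matrix.trace_sum, smul_eq_mul,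
    Finset.sum_congr rfl (g := fun g => conj ((χ : G → ℂ) g) * piFun G Ω (g * z))
      (fun g _ => by rw [Matrix.smul_mul, Matrix.trace_smul, smul_eq_mul, ← map_mul, trace_pmat]),
    hsum]
  field_simp

/-- The adjacency matrix. -/
noncomputable def Orb.adjZ (O : Orb G Ω) : Matrix Ω Ω ℤ :=
  letI := Classical.propDecidable
  Matrix.of fun x y => if O.R x y then 1 else 0

variable {p : ℕ} [Fact p.Prime] (H : Hyps G Ω p)

include H in
set_option maxHeartbeats 1000000 in
/-- The expansion of the adjacency matrix. -/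
theorem Orb.expand (O : Orb G Ω) {χ ψ : IrrCharacter G} (hχ : χ ≠ one₀ G) (hψ : ψ ≠ one₀ G)
    (h1 : mult G Ω (χ : G → ℂ) = 1) (h2 : mult G Ω (ψ : G → ℂ) = 1)
    (hall : ∀ η : IrrCharacter G, η ≠ one₀ G → η ≠ χ → η ≠ ψ → mult G Ω (η : G → ℂ) = 0) (a : Ω) :
    ∃ c₁ c₂ : ℂ, O.adjZ.map (Int.castRingHom ℂ) =
        (Nat.card {y // O.R a y} : ℂ) • proj G Ω ((one₀ G : IrrCharacter G) : G → ℂ) +
          c₁ • proj G Ω (χ : G → ℂ) + c₂ • proj G Ω (ψ : G → ℂ) ∧
      ∀ g : G, (Nat.card {x // O.R x (g • x)} : ℂ) =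
        (Nat.card {y // O.R a y} : ℂ) + c₁ * (χ : G → ℂ) g + c₂ * (ψ : G → ℂ) g := by
  classical
  haveI := H.trans
  haveI := H.nonempty
  set k := Nat.card {y // O.R a y} with hk
  set ι := one₀ G with hι
  have hfree : ∀ η : IrrCharacter G, mult G Ω (η : G → ℂ) = 0 ∨ mult G Ω (η : G → ℂ) = 1 := fun η => by
    by_cases e1 : η = ι
    · exact Or.inr (e1 ▸ PermChar.mult_one)
    by_cases e2 : η = χ
    · exact Or.inr (e2 ▸ h1)
    by_cases e3 : η = ψ
    · exact Or.inr (e3 ▸ h2)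
    exact Or.inl (hall η e1 e2 e3)
  let E : IrrCharacter G → Matrix Ω Ω ℂ := fun η => proj G Ω (η : G → ℂ)
  have hEE : ∀ η φ : IrrCharacter G, E η * E φ = if η = φ then E η else 0 := fun η φ => proj_mul η φ
  have hexp : ∀ M, Inv G Ω M → ∃ c₀ c₁ c₂ : ℂ, M = c₀ • E ι + c₁ • E χ + c₂ • E ψ := by
    intro M hM
    have hs := inv_mem_span hfree hM
    clear hM
    induction hs using Submodule.span_induction with
    | mem x hx =>
      obtain ⟨⟨φ, hφ⟩, rfl⟩ := hx
      by_cases e1 : φ = ι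
      · exact ⟨1, 0, 0, by subst e1; simp [E]⟩
      by_cases e2 : φ = χ
      · exact ⟨0, 1, 0, by subst e2; simp [E]⟩
      by_cases e3 : φ = ψ
      · exact ⟨0, 0, 1, by subst e3; simp [E]⟩
      exact absurd (hall φ e1 e2 e3) hφ
    | zero => exact ⟨0, 0, 0, by simp⟩
    | add x y _ _ hx hy =>
      obtain ⟨a₀, a₁, a₂, rfl⟩ := hx
      obtain ⟨b₀, b₁, b₂, rfl⟩ := hy
      exact ⟨a₀ + b₀, a₁ + b₁, a₂ + b₂, by simp only [add_smul]; abel⟩
    | smul c x _ hx =>
      obtain ⟨a₀, a₁, a₂, rfl⟩ := hx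
      exact ⟨c * a₀, c * a₁, c * a₂, by simp only [smul_add, smul_smul]⟩
  let A : Matrix Ω Ω ℂ := O.adjZ.map (Int.castRingHom ℂ)
  have hA : ∀ x y, A x y = if O.R x y then 1 else 0 := fun x y => by
    show (Int.castRingHom ℂ) (O.adjZ x y) = _
    simp only [Orb.adjZ, Matrix.of_apply]
    by_cases h : O.R x y <;> simp [h]
  have hAinv : Inv G Ω A := fun g x y => by
    rw [hA, hA]; exact if_congr (O.inv g x y) rfl rfl
  obtain ⟨c₀, c₁, c₂, hAe⟩ := hexp A hAinv
  -- the trace against a permutation matrix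
  have htr : ∀ g : G, (Nat.card {x // O.R x (g • x)} : ℂ) =
      c₀ + c₁ * (χ : G → ℂ) g + c₂ * (ψ : G → ℂ) g := by
    intro g
    have hT : (A * pmat G Ω g).trace = (Nat.card {x // O.R x (g • x)} : ℂ) := by
      simp only [Matrix.trace, Matrix.diag, Matrix.mul_apply, pmat_apply, mul_ite, mul_one, mul_zero]
      rw [Nat.card_eq_fintype_card, Fintype.card_subtype, ← Finset.sum_boole]
      refine Finset.sum_congr rfl fun x _ => ?_
      rw [Finset.sum_eq_single (g • x) (fun y _ hy => if_neg (Ne.symm hy))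
        (fun h => absurd (Finset.mem_univ _) h), if_pos rfl, hA]
    rw [← hT, hAe, Matrix.add_mul, Matrix.add_mul, Matrix.trace_add, Matrix.trace_add,
      Matrix.smul_mul, Matrix.smul_mul, Matrix.smul_mul, Matrix.trace_smul, Matrix.trace_smul,
      Matrix.trace_smul, trace_proj_pmat, trace_proj_pmat, trace_proj_pmat, h1, h2,
      PermChar.mult_one, one_mul, one_mul, one_mul, smul_eq_mul, smul_eq_mul, smul_eq_mul,
      show (ι : G → ℂ) g = 1 from rfl, mul_one]
  -- the valency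
  have hc₀ : c₀ = (k : ℂ) := by
    have hsum : ∀ η : IrrCharacter G, η ≠ ι → ∑ g : G, (η : G → ℂ) g = 0 := fun η hη => by
      have h := classInner_irr_ne η.2 ι.2 fun e => hη (Subtype.ext e)
      rw [classInner, mul_eq_zero] at h
      have h' := h.resolve_left (inv_ne_zero (Nat.cast_ne_zero.2 Nat.card_pos.ne'))
      simpa [hι, one₀] using h'
    have hcount : ∑ g : G, Nat.card {x // O.R x (g • x)} = Nat.card G * k := by
      have hx : ∀ x : Ω, (Finset.univ.filter fun g : G => O.R x (g • x)).card =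
          Nat.card (MulAction.stabilizer G x) * k := by
        intro x
        rw [hk, ← O.card_nbrs a x, Nat.card_eq_fintype_card (α := {y // O.R x y}), Fintype.card_subtype]
        rw [Finset.card_eq_sum_card_fiberwise (f := fun g : G => g • x)
          (t := Finset.univ.filter fun y => O.R x y)
          (fun g hg => Finset.mem_filter.2 ⟨Finset.mem_univ _, (Finset.mem_filter.1 hg).2⟩),
          Finset.sum_congr rfl (g := fun _ => Nat.card (MulAction.stabilizer G x)) fun y hy => ?_,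
          Finset.sum_const, smul_eq_mul, mul_comm]
        obtain ⟨g₀, rfl⟩ := MulAction.exists_smul_eq G x y
        rw [Finset.filter_filter, ← Fintype.card_subtype, ← Nat.card_eq_fintype_card]
        refine (Nat.card_congr ((Equiv.mulLeft g₀).subtypeEquiv fun g => ?_)).symm
        rw [Equiv.coe_mulLeft, mul_smul, MulAction.mem_stabilizer_iff]
        exact ⟨fun h => ⟨by simpa [mul_smul, h] using (Finset.mem_filter.1 hy).2, by rw [h]⟩,
          fun h => smul_left_cancel g₀ h.2⟩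
      have hswap : ∑ g : G, Nat.card {x // O.R x (g • x)} =
          ∑ x : Ω, (Finset.univ.filter fun g : G => O.R x (g • x)).card := by
        simp only [Nat.card_eq_fintype_card, Fintype.card_subtype, Finset.card_filter]
        exact Finset.sum_comm
      rw [hswap, Finset.sum_congr rfl fun x _ => hx x, ← Finset.sum_mul]
      congr 1
      refine Nat.eq_of_mul_eq_mul_right (show 0 < 3 * p by have := H.hp3; omega) ?_
      rw [Finset.sum_mul, Finset.sum_congr rfl fun x _ => H.stab_card x, Finset.sum_const,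
        Finset.card_univ, H.card, smul_eq_mul, mul_comm]
    have h := congrArg (Nat.cast : ℕ → ℂ) hcount
    push_cast at h
    rw [Finset.sum_congr rfl fun g _ => htr g, Finset.sum_add_distrib, Finset.sum_add_distrib,
      ← Finset.mul_sum, ← Finset.mul_sum, hsum χ hχ, hsum ψ hψ, mul_zero, mul_zero, add_zero,
      add_zero, Finset.sum_const, Finset.card_univ, nsmul_eq_mul, ← Nat.card_eq_fintype_card] at h
    exact mul_left_cancel₀ (Nat.cast_ne_zero.2 Nat.card_pos.ne') h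
  rw [hc₀] at hAe htr
  exact ⟨c₁, c₂, hAe, htr⟩

include H in
set_option maxHeartbeats 1000000 in
/-- The eigenvalues of an orbital. -/
theorem Orb.eigen (O : Orb G Ω) {χ ψ : IrrCharacter G} (hχ : χ ≠ one₀ G) (hψ : ψ ≠ one₀ G)
    (hne : ψ ≠ χ) (h1 : mult G Ω (χ : G → ℂ) = 1) (h2 : mult G Ω (ψ : G → ℂ) = 1)
    (hall : ∀ η : IrrCharacter G, η ≠ one₀ G → η ≠ χ → η ≠ ψ → mult G Ω (η : G → ℂ) = 0)
    (hdχ : charDegree (χ : G → ℂ) + 1 = 2 * p) (hdψ : charDegree (ψ : G → ℂ) = p) (a : Ω) :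
    ∃ r s : ℤ,
      (Nat.card {y // O.R a y} : ℤ) + r * (2 * p - 1) + s * p = 0 ∧
      (Nat.card {y // O.R a y} : ℤ) ^ 2 + r ^ 2 * (2 * p - 1) + s ^ 2 * p =
        3 * p * (Nat.card {y // O.R a y} : ℤ) ∧
      (∀ g : G, (Nat.card {x // O.R x (g • x)} : ℂ) =
        (Nat.card {y // O.R a y} : ℂ) + r * (χ : G → ℂ) g + s * (ψ : G → ℂ) g) ∧
      ∀ x y : Ω, O.R x y → (Nat.card {w // O.R x w ∧ O.R w y} : ℤ) =
        (Nat.card {y // O.R a y} : ℤ) + r * s + r + s := by
  classical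
  haveI := H.trans
  haveI := H.nonempty
  set k := Nat.card {y // O.R a y} with hk
  set ι := one₀ G with hι
  have hfree : ∀ η : IrrCharacter G, mult G Ω (η : G → ℂ) = 0 ∨ mult G Ω (η : G → ℂ) = 1 := fun η => by
    by_cases e1 : η = ι
    · exact Or.inr (e1 ▸ PermChar.mult_one)
    by_cases e2 : η = χ
    · exact Or.inr (e2 ▸ h1)
    by_cases e3 : η = ψ
    · exact Or.inr (e3 ▸ h2)
    exact Or.inl (hall η e1 e2 e3)
  let E : IrrCharacter G → Matrix Ω Ω ℂ := fun η => proj G Ω (η : G → ℂ)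
  have hEE : ∀ η φ : IrrCharacter G, E η * E φ = if η = φ then E η else 0 := fun η φ => proj_mul η φ
  let A : Matrix Ω Ω ℂ := O.adjZ.map (Int.castRingHom ℂ)
  have hA : ∀ x y, A x y = if O.R x y then 1 else 0 := fun x y => by
    show (Int.castRingHom ℂ) (O.adjZ x y) = _
    simp only [Orb.adjZ, Matrix.of_apply]
    by_cases h : O.R x y <;> simp [h]
  have hAinv : Inv G Ω A := fun g x y => by
    rw [hA, hA]; exact if_congr (O.inv g x y) rfl rfl
  obtain ⟨c₁, c₂, hAe', htr⟩ := O.expand H hχ hψ h1 h2 hall a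
  rw [← hk] at hAe' htr
  have hAe : A = (k : ℂ) • E ι + c₁ • E χ + c₂ • E ψ := hAe'
  have hfd : (χ : G → ℂ) 1 = 2 * (p : ℂ) - 1 := by
    rw [charDeg_spec']
    have h : ((charDegree (χ : G → ℂ) + 1 : ℕ) : ℂ) = ((2 * p : ℕ) : ℂ) := by rw [hdχ]
    push_cast at h
    linear_combination h
  have hpd : (ψ : G → ℂ) 1 = (p : ℂ) := by rw [charDeg_spec', hdψ]
  have hzero : (k : ℂ) + c₁ * (2 * (p : ℂ) - 1) + c₂ * (p : ℂ) = 0 := by
    have h := htr 1
    haveI : IsEmpty {x // O.R x ((1 : G) • x)} := ⟨fun x => O.irr x.1 (by simpa using x.2)⟩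
    rw [Nat.card_of_isEmpty, hfd, hpd, Nat.cast_zero] at h
    exact h.symm
  have hsq : A * A = ((k : ℂ) ^ 2) • E ι + (c₁ ^ 2) • E χ + (c₂ ^ 2) • E ψ := by
    rw [hAe]
    simp only [Matrix.add_mul, Matrix.mul_add, Matrix.smul_mul, Matrix.mul_smul, hEE, if_pos,
      if_neg hχ, if_neg (Ne.symm hχ), if_neg hψ, if_neg (Ne.symm hψ), if_neg hne, if_neg (Ne.symm hne),
      smul_zero, add_zero, zero_add, smul_smul, pow_two]
  have hAA : ∀ x y, (A * A) x y = (Nat.card {w // O.R x w ∧ O.R w y} : ℂ) := by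
    intro x y
    rw [Matrix.mul_apply, Nat.card_eq_fintype_card, Fintype.card_subtype, ← Finset.sum_boole]
    refine Finset.sum_congr rfl fun w _ => ?_
    rw [hA, hA]
    by_cases h1 : O.R x w <;> by_cases h2 : O.R w y <;> simp [h1, h2]
  have hdiag : ∀ x : Ω, Nat.card {w // O.R x w ∧ O.R w x} = k := fun x => by
    rw [hk, ← O.card_nbrs a x]
    exact Nat.card_congr (Equiv.subtypeEquivRight fun w => ⟨fun h => h.1, fun h => ⟨h, O.symm _ _ h⟩⟩)
  have hsquare : (k : ℂ) ^ 2 + c₁ ^ 2 * (2 * (p : ℂ) - 1) + c₂ ^ 2 * (p : ℂ) = 3 * (p : ℂ) * k := by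
    have h := congrArg Matrix.trace hsq
    have hl : (A * A).trace = 3 * (p : ℂ) * k := by
      simp only [Matrix.trace, Matrix.diag, hAA, hdiag, Finset.sum_const, Finset.card_univ, H.card,
        nsmul_eq_mul, Nat.cast_mul, Nat.cast_ofNat]
    rw [hl, Matrix.trace_add, Matrix.trace_add, Matrix.trace_smul, Matrix.trace_smul,
      Matrix.trace_smul, trace_proj, trace_proj, trace_proj, h1, h2, PermChar.mult_one, hfd, hpd,
      show (ι : G → ℂ) 1 = 1 from rfl] at h
    simp only [smul_eq_mul, mul_one] at h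
    exact h.symm
  -- the common neighbours
  obtain ⟨x₁, y₁, hxy₁⟩ := O.ne1
  obtain ⟨x₀, y₀, hxy₀, hxy₀'⟩ := O.ne0
  set lam := Nat.card {w // O.R x₁ w ∧ O.R w y₁} with hlam
  set mu := Nat.card {w // O.R x₀ w ∧ O.R w y₀} with hmu
  have hcn : ∀ x y : Ω, ∀ g : G, Nat.card {w // O.R (g • x) w ∧ O.R w (g • y)} =
      Nat.card {w // O.R x w ∧ O.R w y} := fun x y g =>
    (Nat.card_congr ((MulAction.toPerm g).subtypeEquiv fun w =>
      (and_congr (O.inv g x w) (O.inv g w y)).symm)).symm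
  have hlam' : ∀ x y, O.R x y → Nat.card {w // O.R x w ∧ O.R w y} = lam := fun x y h => by
    obtain ⟨g, rfl, rfl⟩ := O.tr1 _ _ _ _ hxy₁ h
    exact hcn _ _ g
  have hmu' : ∀ x y, x ≠ y → ¬ O.R x y → Nat.card {w // O.R x w ∧ O.R w y} = mu := fun x y h h' => by
    obtain ⟨g, rfl, rfl⟩ := O.tr0 _ _ _ _ hxy₀ hxy₀' h h'
    exact hcn _ _ g
  let J : Matrix Ω Ω ℂ := Matrix.of fun _ _ => 1
  have hrec : A * A = (k : ℂ) • 1 + (lam : ℂ) • A + (mu : ℂ) • (J - 1 - A) := by
    ext x y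
    rw [hAA]
    simp only [Matrix.add_apply, Matrix.smul_apply, Matrix.sub_apply, Matrix.one_apply, hA, J,
      Matrix.of_apply, smul_eq_mul]
    by_cases hxy : x = y
    · subst hxy
      rw [hdiag, if_pos rfl, if_neg (O.irr x)]
      ring
    · by_cases h : O.R x y
      · rw [hlam' x y h, if_neg hxy, if_pos h]; ring
      · rw [hmu' x y hxy h, if_neg hxy, if_neg h]; ring
  have hJE : ∀ η : IrrCharacter G, η ≠ ι → J * E η = 0 := by
    intro η hη
    ext x y
    have hz : ∑ g : G, conj ((η : G → ℂ) g) = 0 := by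
      have h := classInner_irr_ne ι.2 η.2 fun e => hη (Subtype.ext e).symm
      rw [classInner, mul_eq_zero] at h
      have h' := h.resolve_left (inv_ne_zero (Nat.cast_ne_zero.2 Nat.card_pos.ne'))
      simpa [hι, one₀] using h'
    simp only [E, proj, Matrix.mul_apply, Matrix.smul_apply, Matrix.sum_apply, pmat_apply, smul_eq_mul,
      mul_ite, mul_one, mul_zero, J, Matrix.of_apply, one_mul, Matrix.zero_apply]
    rw [← Finset.mul_sum, Finset.sum_comm]
    simp only [Finset.sum_ite_eq, Finset.mem_univ, if_true, hz, mul_zero]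
  have hscal : ∀ (η : IrrCharacter G) (c : ℂ), η ≠ ι → mult G Ω (η : G → ℂ) = 1 → A * E η = c • E η →
      c ^ 2 = (k : ℂ) + (lam : ℂ) * c + (mu : ℂ) * (-1 - c) := by
    intro η c hη hm hc
    have hl : A * A * E η = (c ^ 2) • E η := by
      rw [Matrix.mul_assoc, hc, Matrix.mul_smul, hc, smul_smul, pow_two]
    have hr : A * A * E η = ((k : ℂ) + (lam : ℂ) * c + (mu : ℂ) * (-1 - c)) • E η := by
      rw [hrec]
      simp only [Matrix.add_mul, Matrix.sub_mul, Matrix.smul_mul, Matrix.one_mul, hc, hJE η hη,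
        smul_sub, smul_zero, smul_smul, mul_sub, mul_neg, mul_one, add_smul, sub_smul, neg_smul]
      abel
    exact smul_left_injective ℂ (proj_ne_zero (by rw [hm]; exact one_ne_zero)) (hl.symm.trans hr)
  have hAχ : A * E χ = c₁ • E χ := by
    rw [hAe]
    simp only [Matrix.add_mul, Matrix.smul_mul, hEE, if_pos, if_neg (Ne.symm hχ), if_neg hne,
      smul_zero, add_zero, zero_add]
  have hAψ : A * E ψ = c₂ • E ψ := by
    rw [hAe]
    simp only [Matrix.add_mul, Matrix.smul_mul, hEE, if_pos, if_neg (Ne.symm hψ), if_neg (Ne.symm hne),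
      smul_zero, add_zero, zero_add]
  have hq1 := hscal χ c₁ hχ h1 hAχ
  have hq2 := hscal ψ c₂ hψ h2 hAψ
  have hint1 : IsIntegral ℤ c₁ :=
    TwoP.isIntegral_eigen O.adjZ (proj_ne_zero (by rw [h1]; exact one_ne_zero)) hAχ
  have hint2 : IsIntegral ℤ c₂ :=
    TwoP.isIntegral_eigen O.adjZ (proj_ne_zero (by rw [h2]; exact one_ne_zero)) hAψ
  -- the eigenvalues differ
  have hk0 : 0 < k := by
    rw [hk, ← O.card_nbrs a x₁]
    exact Nat.card_pos_iff.2 ⟨⟨⟨y₁, hxy₁⟩⟩, inferInstance⟩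
  have hk1 : k + 1 < 3 * p := by
    have h := O.card_compl x₀
    rw [H.card, O.card_nbrs a x₀, ← hk] at h
    have : 0 < Nat.card {y // O.compl.R x₀ y} :=
      Nat.card_pos_iff.2 ⟨⟨⟨y₀, hxy₀, hxy₀'⟩⟩, inferInstance⟩
    omega
  have hp3 := H.hp3
  have hdiff : c₁ ≠ c₂ := by
    intro e
    rw [← e] at hzero
    have h3 : c₁ = ((-(k : ℚ) / ((3 * p - 1 : ℕ) : ℚ) : ℚ) : ℂ) := by
      push_cast
      rw [Nat.cast_sub (by omega)]
      push_cast
      rw [eq_div_iff (sub_ne_zero.2 (by exact_mod_cast (show 3 * p ≠ 1 by omega)))]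
      linear_combination hzero
    obtain ⟨i, hi⟩ := int_of_isIntegral_rat (h3 ▸ hint1)
    rw [hi] at h3
    rw [h3] at hzero
    have h4 : ((k : ℤ) + i * (3 * p - 1) : ℤ) = 0 := Int.cast_injective (α := ℂ) (by
      push_cast; linear_combination hzero)
    have h5 : ((3 * p - 1 : ℕ) : ℤ) ∣ (k : ℤ) := ⟨-i, by
      rw [Nat.cast_sub (by omega)]; push_cast; linear_combination h4⟩
    have := Nat.le_of_dvd hk0 (Int.natCast_dvd_natCast.1 h5)
    omega
  have hsum : c₁ + c₂ = (lam : ℂ) - mu := by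
    refine mul_left_cancel₀ (sub_ne_zero.2 hdiff) ?_
    linear_combination hq1 - hq2
  have hr : ∃ r : ℤ, c₁ = r := by
    have h3 : c₁ = (((-(k : ℚ) - (p : ℚ) * ((lam : ℚ) - mu)) / ((p - 1 : ℕ) : ℚ) : ℚ) : ℂ) := by
      push_cast
      rw [Nat.cast_sub (by omega), Nat.cast_one,
        eq_div_iff (sub_ne_zero.2 (by exact_mod_cast (show p ≠ 1 by omega)))]
      linear_combination hzero - (p : ℂ) * hsum
    obtain ⟨i, hi⟩ := int_of_isIntegral_rat (h3 ▸ hint1)
    exact ⟨i, h3.trans hi⟩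
  obtain ⟨r, rfl⟩ := hr
  obtain ⟨s, rfl⟩ : ∃ s : ℤ, c₂ = s := ⟨(lam : ℤ) - mu - r, by push_cast; linear_combination hsum⟩
  refine ⟨r, s, ?_, ?_, fun g => htr g, fun x y h => ?_⟩
  · apply Int.cast_injective (α := ℂ)
    push_cast
    exact hzero
  · apply Int.cast_injective (α := ℂ)
    push_cast
    exact hsquare
  · rw [hlam' x y h]
    apply Int.cast_injective (α := ℂ)
    push_cast
    linear_combination hq1 - ((r : ℂ) + 1) * hsum

/-- An orbital of an involution in rank three. -/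
theorem exists_orb [FaithfulSMul G Ω] [MulAction.IsPretransitive G Ω]
    (hq : Nat.card (MulAction.orbitRel.Quotient G (Ω × Ω)) = 3) {z : G} (hz : orderOf z = 2) :
    Nonempty (Orb G Ω) := by
  classical
  haveI : Fintype (MulAction.orbitRel.Quotient G (Ω × Ω)) := Fintype.ofFinite _
  obtain ⟨a₀, hza⟩ : ∃ a₀ : Ω, z • a₀ ≠ a₀ := by
    by_contra hno
    push Not at hno
    have : z = 1 := FaithfulSMul.eq_of_smul_eq_smul (α := Ω) fun a => by rw [one_smul, hno]
    rw [this, orderOf_one] at hz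
    omega
  let Q : Ω → Ω → MulAction.orbitRel.Quotient G (Ω × Ω) := fun x y => Quotient.mk'' (x, y)
  have hQ : ∀ x y x' y', Q x y = Q x' y' ↔ ∃ g : G, g • x' = x ∧ g • y' = y := by
    intro x y x' y'
    refine ⟨fun h => ?_, fun ⟨g, e1, e2⟩ => Quotient.sound' ⟨g, Prod.ext e1 e2⟩⟩
    obtain ⟨g, hg⟩ := Quotient.exact' h
    exact ⟨g, congrArg Prod.fst hg, congrArg Prod.snd hg⟩
  have hQg : ∀ (g : G) x y, Q (g • x) (g • y) = Q x y := fun g x y =>
    (hQ _ _ _ _).2 ⟨g, rfl, rfl⟩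
  set q₀ := Q a₀ a₀ with hq₀
  have hd : ∀ x y, Q x y = q₀ ↔ x = y := by
    intro x y
    refine ⟨fun h => ?_, ?_⟩
    · obtain ⟨g, e1, e2⟩ := (hQ _ _ _ _).1 h
      exact e1.symm.trans e2
    · rintro rfl
      obtain ⟨g, hg⟩ := MulAction.exists_smul_eq G a₀ x
      exact (hQ _ _ _ _).2 ⟨g, hg, hg⟩
  set q₁ := Q a₀ (z • a₀) with hq₁
  have h01 : q₁ ≠ q₀ := fun h => hza ((hd _ _).1 h).symm
  obtain ⟨q₂, hq20, hq21, huniv⟩ : ∃ q₂, q₂ ≠ q₀ ∧ q₂ ≠ q₁ ∧ ∀ q, q = q₀ ∨ q = q₁ ∨ q = q₂ := by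
    have hc : (Finset.univ \ {q₀, q₁}).card = 1 := by
      rw [Finset.card_sdiff_of_subset (Finset.subset_univ _), Finset.card_univ,
        ← Nat.card_eq_fintype_card, hq, Finset.card_pair (Ne.symm h01)]
    obtain ⟨q₂, hq₂⟩ := Finset.card_eq_one.1 hc
    have hmem : q₂ ∈ Finset.univ \ {q₀, q₁} := hq₂ ▸ Finset.mem_singleton_self _
    simp only [Finset.mem_sdiff, Finset.mem_univ, true_and, Finset.mem_insert, Finset.mem_singleton,
      not_or] at hmem
    refine ⟨q₂, hmem.1, hmem.2, fun q => ?_⟩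
    by_cases h : q ∈ ({q₀, q₁} : Finset _)
    · simp only [Finset.mem_insert, Finset.mem_singleton] at h
      tauto
    · exact Or.inr (Or.inr (Finset.mem_singleton.1 (hq₂ ▸ Finset.mem_sdiff.2 ⟨Finset.mem_univ q, h⟩)))
  have hzz : z • z • a₀ = a₀ := by
    rw [← mul_smul, show z * z = 1 by rw [← pow_two, ← hz, pow_orderOf_eq_one], one_smul]
  refine ⟨?_⟩
  exact
    { R := fun x y => Q x y = q₁
      symm := fun x y h => by
        obtain ⟨g, e1, e2⟩ := (hQ _ _ _ _).1 h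
        exact (hQ _ _ _ _).2 ⟨g * z, by rw [mul_smul, e2], by rw [mul_smul, hzz, e1]⟩
      irr := fun x h => h01 (h.symm.trans ((hd x x).2 rfl))
      inv := fun g x y => by rw [hQg]
      tr1 := fun x y x' y' h h' => (hQ x' y' x y).1 (h'.trans h.symm)
      tr0 := fun x y x' y' e h e' h' => (hQ x' y' x y).1 <| by
        rcases huniv (Q x y) with h1 | h1 | h1
        · exact absurd ((hd _ _).1 h1) e
        · exact absurd h1 h
        rcases huniv (Q x' y') with h2 | h2 | h2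
        · exact absurd ((hd _ _).1 h2) e'
        · exact absurd h2 h'
        exact h2.trans h1.symm
      ne1 := ⟨a₀, z • a₀, rfl⟩
      ne0 := by
        obtain ⟨⟨x, y⟩, hxy⟩ := Quotient.exists_rep q₂
        have hQxy : Q x y = q₂ := hxy
        exact ⟨x, y, fun e => hq20 (hQxy.symm.trans ((hd x y).2 e)),
          fun e => hq21 (hQxy.symm.trans e)⟩ }

include H in
set_option maxHeartbeats 1000000 in
/-- The orbital with `k = p + r`. -/
theorem exists_par [FaithfulSMul G Ω] {χ ψ : IrrCharacter G} (hχ : χ ≠ one₀ G) (hψ : ψ ≠ one₀ G)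
    (hne : ψ ≠ χ) (h1 : mult G Ω (χ : G → ℂ) = 1) (h2 : mult G Ω (ψ : G → ℂ) = 1)
    (hall : ∀ η : IrrCharacter G, η ≠ one₀ G → η ≠ χ → η ≠ ψ → mult G Ω (η : G → ℂ) = 0)
    (hdχ : charDegree (χ : G → ℂ) + 1 = 2 * p) (hdψ : charDegree (ψ : G → ℂ) = p)
    {z : G} (hz : orderOf z = 2) :
    ∃ (O : Orb G Ω) (r : ℤ), 6 * r ^ 2 + 3 * r + 1 = 2 * p ∧
      (∀ a : Ω, (Nat.card {y // O.R a y} : ℤ) = p + r) ∧
      (∀ a : Ω, (Nat.card {y // O.compl.R a y} : ℤ) = 2 * p - 1 - r) ∧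
      (∀ g : G, (Nat.card {x // O.R x (g • x)} : ℂ) =
        ((p : ℂ) + r) + r * (χ : G → ℂ) g + (-2 * r - 1 : ℤ) * (ψ : G → ℂ) g) ∧
      ∀ x y : Ω, O.R x y → (Nat.card {w // O.R x w ∧ O.R w y} : ℤ) = p - 2 * r ^ 2 - r - 1 := by
  classical
  haveI := H.trans
  haveI := H.nonempty
  have hp3 := H.hp3
  -- the number of orbitals
  have hsum := sum_mult_sq (G := G) (Ω := Ω)
  rw [← Finset.sum_subset (Finset.subset_univ {one₀ G, χ, ψ}) (fun η _ hη => by
      simp only [Finset.mem_insert, Finset.mem_singleton, not_or] at hη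
      rw [hall η hη.1 hη.2.1 hη.2.2, zero_mul]),
    Finset.sum_insert (by simp [Ne.symm hχ, Ne.symm hψ]), Finset.sum_pair (Ne.symm hne),
    PermChar.mult_one, h1, h2, map_one, one_mul] at hsum
  have hq : Nat.card (MulAction.orbitRel.Quotient G (Ω × Ω)) = 3 := by
    have h : ((Nat.card (MulAction.orbitRel.Quotient G (Ω × Ω)) : ℕ) : ℂ) = ((3 : ℕ) : ℂ) := by
      rw [← hsum]; norm_num
    exact Nat.cast_injective h
  haveI : Fintype (MulAction.orbitRel.Quotient G (Ω × Ω)) := Fintype.ofFinite _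
  obtain ⟨a₀⟩ : Nonempty Ω := H.nonempty
  obtain ⟨O₁⟩ := exists_orb hq hz
  have key : ∀ O : Orb G Ω, ∃ r j : ℤ, (j = 1 ∨ j = 2) ∧
      (∀ a : Ω, (Nat.card {y // O.R a y} : ℤ) = r + p * j) ∧
      p * j * (3 - j) = 6 * r ^ 2 + 6 * r * j + j ^ 2 - 3 * r ∧
      (∀ g : G, (Nat.card {x // O.R x (g • x)} : ℂ) =
        ((r + p * j : ℤ) : ℂ) + r * (χ : G → ℂ) g + (-2 * r - j : ℤ) * (ψ : G → ℂ) g) ∧
      ∀ x y : Ω, O.R x y → (Nat.card {w // O.R x w ∧ O.R w y} : ℤ) =
        (r + p * j) + r * (-2 * r - j) + r + (-2 * r - j) := by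
    intro O
    obtain ⟨x₁, y₁, hxy₁⟩ := O.ne1
    obtain ⟨r, s, e1, e2, e3, e4⟩ := O.eigen H hχ hψ hne h1 h2 hall hdχ hdψ a₀
    set k : ℤ := (Nat.card {y // O.R a₀ y} : ℤ) with hk
    have hk0 : 1 ≤ k := by
      have : 0 < Nat.card {y // O.R a₀ y} := by
        rw [← O.card_nbrs a₀ x₁]; exact Nat.card_pos_iff.2 ⟨⟨⟨y₁, hxy₁⟩⟩, inferInstance⟩
      omega
    have hk1 : k ≤ 3 * p - 2 := by
      obtain ⟨x₀, y₀, hxy₀, hxy₀'⟩ := O.ne0
      have h := O.card_compl x₀
      rw [H.card, O.card_nbrs a₀ x₀] at h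
      have : 0 < Nat.card {y // O.compl.R x₀ y} :=
        Nat.card_pos_iff.2 ⟨⟨⟨y₀, hxy₀, hxy₀'⟩⟩, inferInstance⟩
      omega
    set j := -(2 * r + s) with hj
    have hs : s = -2 * r - j := by omega
    have hkj : k = r + p * j := by rw [hs] at e1; linear_combination e1
    have hp0 : (p : ℤ) ≠ 0 := by omega
    have heq : p * j * (3 - j) = 6 * r ^ 2 + 6 * r * j + j ^ 2 - 3 * r := by
      refine mul_left_cancel₀ hp0 ?_
      rw [hs, hkj] at e2
      linear_combination -e2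
    have hr : -(p : ℤ) < r ∧ r < p := by
      have h4 : 4 * (r ^ 2 * (2 * p - 1)) ≤ 9 * (p : ℤ) ^ 2 := by
        have i1 := mul_nonneg (sq_nonneg s) (show (0 : ℤ) ≤ p by omega)
        have i2 := sq_nonneg (2 * k - 3 * (p : ℤ))
        linarith
      have h5 : ¬ (p : ℤ) ^ 2 ≤ r ^ 2 := fun h => by
        have h6 := mul_le_mul_of_nonneg_right h (show (0 : ℤ) ≤ 2 * p - 1 by omega)
        have h7 : 13 * (p : ℤ) ^ 2 < (8 * p) * p ^ 2 :=
          mul_lt_mul_of_pos_right (show (13 : ℤ) < 8 * p by omega) (by positivity)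
        linarith
      constructor <;> by_contra hc <;> exact h5 (sq_le_sq.2 (by
        rw [Nat.abs_cast, le_abs]; omega))
    have hj' : j = 1 ∨ j = 2 := by
      have h0 : 0 ≤ j := by
        by_contra hc
        have := mul_le_mul_of_nonneg_left (show j ≤ -1 by omega) (show (0 : ℤ) ≤ p by omega)
        linarith [hr.1, hr.2]
      have h3 : j ≤ 3 := by
        by_contra hc
        have := mul_le_mul_of_nonneg_left (show 4 ≤ j by omega) (show (0 : ℤ) ≤ p by omega)
        linarith [hr.1, hr.2]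
      interval_cases j
      · exfalso
        have hr0 : 3 * r * (2 * r - 1) = 0 := by linear_combination -heq
        rcases mul_eq_zero.1 hr0 with h | h <;> omega
      · exact Or.inl rfl
      · exact Or.inr rfl
      · exfalso
        have hr0 : 3 * (r + 1) * (2 * r + 3) = 0 := by linear_combination -heq
        rcases mul_eq_zero.1 hr0 with h | h <;> omega
    refine ⟨r, j, hj', fun a => ?_, heq, fun g => ?_, fun x y h => ?_⟩
    · rw [O.card_nbrs a₀ a, ← hk, hkj]
    · rw [e3 g, ← hs, ← hkj, hk, Int.cast_natCast]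
    · rw [e4 x y h, hkj, ← hs]
  have fin : ∀ (O : Orb G Ω) (r : ℤ), (∀ a : Ω, (Nat.card {y // O.R a y} : ℤ) = r + p * 1) →
      ∀ a : Ω, (Nat.card {y // O.compl.R a y} : ℤ) = 2 * p - 1 - r := fun O r h a => by
    have h' := h a
    have := O.card_compl a
    rw [H.card] at this
    omega
  obtain ⟨r, j, hj, hk, heq, htr, hl⟩ := key O₁
  rcases hj with rfl | rfl
  · refine ⟨O₁, r, by linear_combination -heq, fun a => by rw [hk a]; ring, fin O₁ r hk,
      fun g => ?_, fun x y h => by rw [hl x y h]; ring⟩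
    rw [htr g]; push_cast; ring
  obtain ⟨r', j', hj', hk', heq', htr', hl'⟩ := key O₁.compl
  rcases hj' with rfl | rfl
  · refine ⟨O₁.compl, r', by linear_combination -heq', fun a => by rw [hk' a]; ring, fin O₁.compl r' hk',
      fun g => ?_, fun x y h => by rw [hl' x y h]; ring⟩
    rw [htr' g]; push_cast; ring
  exfalso
  have h := O₁.card_compl a₀
  rw [H.card] at h
  have hh : r + r' = -(p : ℤ) - 1 := by have := hk a₀; have := hk' a₀; omega
  rcases le_or_gt r r' with hle | hle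
  · nlinarith [show 2 * r ≤ -(p : ℤ) - 1 by omega]
  · nlinarith [show 2 * r' ≤ -(p : ℤ) - 1 by omega]

end Cfsg.Agent.Block.ThreeP
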