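import Mathlib
import Cfsg.Agent.Lib.Block.ThreeP.RankThree

/-!
The numbers in rank three, and no group has involutions fixing one point.
-/

set_option autoImplicit false
set_option linter.unusedSectionVars false
set_option linter.style.haveILetI false

namespace Cfsg.Agent.Block.ThreeP

open scoped ComplexConjugate
open Cfsg Cfsg.Agent.Block Cfsg.Agent.Block.PermChar Cfsg.Agent.Char

universe u v

variable {G : Type u} [Group G] [Fintype G] {Ω : Type v} [Fintype Ω] [MulAction G Ω] {p : ℕ}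
  [Fact p.Prime] (H : Hyps G Ω p) [DecidableEq Ω]

/-- The data in rank three. -/
structure Ctx (G : Type u) [Group G] [Fintype G] (Ω : Type v) [Fintype Ω] [MulAction G Ω] (p : ℕ)
    [Fact p.Prime] [DecidableEq Ω] where
  hyps : Hyps G Ω p
  D : Neg G p
  hf : D.f + 1 = 2 * p
  ψ : IrrCharacter G
  hψ : ψ ≠ one₀ G
  hne : ψ ≠ D.χ
  hdψ : charDegree (ψ : G → ℂ) = p
  hψp : ∀ g : G, orderOf g = p → (ψ : G → ℂ) g = 0
  h1 : mult G Ω (D.χ : G → ℂ) = 1
  h2 : mult G Ω (ψ : G → ℂ) = 1
  hall : ∀ η : IrrCharacter G, η ≠ one₀ G → η ≠ D.χ → η ≠ ψ → mult G Ω (η : G → ℂ) = 0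

/-- What is common to the two possible values at the involutions. -/
structure Nums (X : Ctx G Ω p) (w : ℤ) (c d k : ℕ) : Prop where
  hd : d + 1 = X.D.f
  hex : ∃ z : G, orderOf z = 2
  hone : ∀ z w : G, orderOf z = 2 → orderOf w = 2 → IsConj z w
  hzv : ∀ z : G, orderOf z = 2 → (X.D.χ : G → ℂ) z = 1 ∧ (X.ψ : G → ℂ) z = w ∧
    Nat.card (Subgroup.centralizer ({z} : Set G)) = c
  hc : c = d * k
  hG : Nat.card G = p * X.D.f * d * k ^ 2
  hk : Odd k
  hw : w = 1 ∨ w = -1
  hwp : (4 : ℤ) ∣ (p : ℤ) - w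
  hfix : ∀ z : G, orderOf z = 2 → (nfix Ω z : ℤ) = 2 + w

theorem Ctx.pi (X : Ctx G Ω p) (g : G) :
    (nfix Ω g : ℂ) = 1 + (X.D.χ : G → ℂ) g + (X.ψ : G → ℂ) g :=
  X.hyps.pi_three (Ne.symm X.D.triv_ne) X.hψ X.hne X.h1 X.h2 X.hall g

theorem Ctx.exists_nums [IsSimpleGroup G] (X : Ctx G Ω p) : ∃ w c d k, Nums X w c d k := by
  classical
  have hp : p.Prime := Fact.out
  have hp3 := X.hyps.hp3
  obtain ⟨v, c, hex, hone, hzv, heq, h4v, h2c, hcG, hpc, ⟨a, ha⟩, b, hb⟩ := X.D.facts X.hyps
  obtain ⟨z, hz⟩ := id hex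
  have hf : (X.D.f : ℤ) = 2 * p - 1 := by have := X.hf; omega
  have hf2 := X.D.two_le
  have hv : v = 1 := by
    rw [hf] at ha hb
    have hp0 : (p : ℤ) ≠ 0 := by omega
    have h1 : v + 1 = 2 * (a : ℤ) := mul_left_cancel₀ hp0 (by linear_combination ha)
    have h2 : 1 - v = 2 * (b : ℤ) := mul_left_cancel₀ hp0 (by linear_combination hb)
    rcases (show v = 1 ∨ v = -1 by omega) with h | h
    · exact h
    exfalso
    rw [h, hf] at heq
    have h3 : (p : ℤ) * (4 * p * Nat.card G) = (p : ℤ) * ((c : ℤ) ^ 2 * ((2 * p - 1) * (2 * p - 2))) := by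
      linear_combination -heq
    have h4 := mul_left_cancel₀ hp0 h3
    have hpp : Prime (p : ℤ) := Nat.prime_iff_prime_int.1 hp
    have hd : (p : ℤ) ∣ (c : ℤ) ^ 2 * ((2 * p - 1) * (2 * p - 2)) :=
      ⟨4 * Nat.card G, by rw [← h4]; ring⟩
    rcases hpp.dvd_mul.1 hd with h5 | h5
    · exact hpc (Int.natCast_dvd_natCast.1 (hpp.dvd_of_dvd_pow h5))
    rcases hpp.dvd_mul.1 h5 with h6 | h6
    · have h7 : (p : ℤ) ∣ 1 := by
        have := (Dvd.intro_left 2 rfl : (p : ℤ) ∣ 2 * p).sub h6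
        simpa using this
      have := Int.le_of_dvd one_pos h7
      omega
    · have h7 : (p : ℤ) ∣ 2 := by
        have := (Dvd.intro_left 2 rfl : (p : ℤ) ∣ 2 * p).sub h6
        simpa using this
      have := Int.le_of_dvd two_pos h7
      omega
  subst hv
  set d := X.D.f - 1 with hd
  have hd1 : d + 1 = X.D.f := by omega
  have heq' : p * c ^ 2 * X.D.f = Nat.card G * d := by
    have h1 : (X.D.f : ℤ) - 1 = (d : ℤ) := by omega
    rw [h1] at heq
    have h2 : ((p : ℤ) * (c : ℤ) ^ 2 * (X.D.f : ℤ)) * (d : ℤ) = ((Nat.card G : ℤ) * (d : ℤ)) * (d : ℤ) := by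
      linear_combination heq
    exact_mod_cast mul_right_cancel₀ (Int.natCast_ne_zero.2 (by omega)) h2
  obtain ⟨N, hN⟩ := id hcG
  have hc0 : 0 < c := (hzv z hz).2 ▸ Nat.card_pos
  have hNd : N * d = p * c * X.D.f := by
    refine Nat.eq_of_mul_eq_mul_left hc0 ?_
    rw [← mul_assoc, ← hN, ← heq']; ring
  have hpd : ¬ p ∣ d := by
    rintro ⟨i, hi⟩
    have h7 : p ∣ 2 := by
      have h1 : p ∣ 2 * p := dvd_mul_left p 2
      rw [show 2 * p = p * i + 2 by omega] at h1
      exact (Nat.dvd_add_right (dvd_mul_right p i)).1 h1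
    have := Nat.le_of_dvd two_pos h7
    omega
  have hcop : d.Coprime (p * X.D.f) := by
    refine Nat.Coprime.mul_right ((hp.coprime_iff_not_dvd).2 hpd).symm ?_
    rw [← hd1]; simp
  obtain ⟨k, hk⟩ : d ∣ c := hcop.dvd_of_dvd_mul_left ⟨N, by rw [mul_comm d N, hNd]; ring⟩
  have hN' : N = p * X.D.f * k := by
    refine Nat.eq_of_mul_eq_mul_right (show 0 < d by omega) ?_
    rw [hNd, hk]; ring
  have hG : Nat.card G = p * X.D.f * d * k ^ 2 := by rw [hN, hN', hk]; ring
  have hk0 : k ≠ 0 := fun e => by rw [hk, e, mul_zero] at hc0; omega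
  have hkodd : Odd k := by
    rw [← Nat.not_even_iff_odd, even_iff_two_dvd]
    intro h2
    have h3 := (Nat.prime_two.dvd_iff_one_le_factorization hk0).1 h2
    have hpo : Odd (p * X.D.f) := (hp.odd_of_ne_two (by omega)).mul ⟨p - 1, by omega⟩
    rw [hk, hG, Nat.factorization_mul (by omega) hk0,
      Nat.factorization_mul (mul_ne_zero hpo.pos.ne' (by omega)) (pow_ne_zero _ hk0),
      Nat.factorization_mul hpo.pos.ne' (by omega), Finsupp.add_apply, Finsupp.add_apply,
      Finsupp.add_apply, Nat.factorization_eq_zero_of_not_dvd (n := p * X.D.f) (fun h =>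
        Nat.not_even_iff_odd.2 hpo (even_iff_two_dvd.2 h)), Nat.factorization_pow,
      Finsupp.smul_apply, smul_eq_mul] at h2c
    omega
  obtain ⟨w, hw, hw4⟩ := OrdP.involution_value X.hyps.na X.ψ (x := z) (by rw [← hz, pow_orderOf_eq_one])
  rw [X.hdψ] at hw4
  have hψall : ∀ g : G, orderOf g = 2 → (X.ψ : G → ℂ) g = w := fun g hg => by
    obtain ⟨e, rfl⟩ := isConj_iff.1 (hone z g hz hg)
    rw [irr_classFun X.ψ, hw]
  obtain ⟨⟨a', ha'⟩, b', hb'⟩ := X.hyps.dihedral (IsIrr.isCharacter X.ψ.2) (n := (p : ℤ)) (w := 0) (z := w)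
    (by rw [charDeg_spec', X.hdψ, Int.cast_natCast]) (fun g hg => by rw [X.hψp g hg, Int.cast_zero])
    hψall
  have hp0 : (p : ℤ) ≠ 0 := by omega
  have h1' : 1 + w = 2 * (a' : ℤ) := mul_left_cancel₀ hp0 (by linear_combination ha')
  have h2' : 1 - w = 2 * (b' : ℤ) := mul_left_cancel₀ hp0 (by linear_combination hb')
  refine ⟨w, c, d, k, hd1, hex, hone, fun g hg => ⟨?_, hψall g hg, (hzv g hg).2⟩, hk, hG, hkodd,
    by omega, hw4, fun g hg => ?_⟩
  · rw [(hzv g hg).1, Int.cast_one]
  · apply Int.cast_injective (α := ℂ)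
    rw [Int.cast_natCast, X.pi g, (hzv g hg).1, hψall g hg]
    push_cast; ring

/-- No group has involutions fixing one point. -/
theorem Nums.no_one [IsSimpleGroup G] [FaithfulSMul G Ω] {X : Ctx G Ω p} {w : ℤ} {c d k : ℕ}
    (N : Nums X w c d k) (hw : w = -1) : False := by
  classical
  subst hw
  have hp3 := X.hyps.hp3
  obtain ⟨z, hz⟩ := N.hex
  obtain ⟨O, r, hr, -, hl, htr, -⟩ := exists_par X.hyps (Ne.symm X.D.triv_ne) X.hψ X.hne X.h1 X.h2
    X.hall (by rw [X.D.deg]; exact X.hf) X.hdψ hz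
  set I := Finset.univ.filter fun g : G => orderOf g = 2 with hI
  -- the moved non-neighbours of an involution
  have hadj : (Nat.card {x // O.R x (z • x)} : ℤ) = p + 4 * r + 1 := by
    apply Int.cast_injective (α := ℂ)
    rw [Int.cast_natCast, htr z, (N.hzv z hz).1, (N.hzv z hz).2.1]
    push_cast; ring
  have hrow : ∀ g ∈ I, ((Finset.univ.filter fun x : Ω => O.compl.R x (g • x)).card : ℤ) =
      6 * r ^ 2 - r - 1 := by
    intro g hg
    obtain ⟨e, rfl⟩ := isConj_iff.1 (N.hone z g hz (Finset.mem_filter.1 hg).2)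
    have he : (Finset.univ.filter fun x : Ω => O.compl.R x ((e * z * e⁻¹) • x)).card =
        (Finset.univ.filter fun x : Ω => O.compl.R x (z • x)).card := by
      rw [← Fintype.card_subtype, ← Fintype.card_subtype]
      refine Fintype.card_congr ((MulAction.toPerm e⁻¹).subtypeEquiv fun x => ?_)
      show _ ↔ O.compl.R (e⁻¹ • x) (z • e⁻¹ • x)
      rw [← O.compl.inv e (e⁻¹ • x) (z • e⁻¹ • x), smul_inv_smul, mul_smul, mul_smul]
    rw [he]
    have hsplit := Finset.card_filter_add_card_filter_not (s := (Finset.univ : Finset Ω))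
      (fun x => O.R x (z • x))
    have hnot : (Finset.univ.filter fun x : Ω => ¬ O.R x (z • x)) =
        (Finset.univ.filter fun x : Ω => O.compl.R x (z • x)) ∪
          (Finset.univ.filter fun x : Ω => z • x = x) := by
      ext x
      simp only [Finset.mem_filter, Finset.mem_univ, true_and, Finset.mem_union]
      constructor
      · intro h
        by_cases h' : z • x = x
        · exact Or.inr h'
        · exact Or.inl ⟨Ne.symm h', h⟩
      · rintro (h | h)
        · exact h.2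
        · rw [h]; exact O.irr x
    rw [hnot, Finset.card_union_of_disjoint (Finset.disjoint_left.2 fun x hx hx' =>
      (Finset.mem_filter.1 hx).2.1 (Finset.mem_filter.1 hx').2.symm), Finset.card_univ,
      X.hyps.card, ← Fintype.card_subtype, ← Nat.card_eq_fintype_card] at hsplit
    have hfixz : ((Finset.univ.filter fun x : Ω => z • x = x).card : ℤ) = 1 := by
      rw [← Fintype.card_subtype, ← Nat.card_eq_fintype_card]
      exact (N.hfix z hz).trans (by norm_num)
    omega
  -- the swappers of a pair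
  obtain ⟨x₀, y₀, hxy⟩ := O.compl.ne1
  set q := (I.filter fun g : G => g • x₀ = y₀).card with hq
  have hIconj : ∀ e : G, ∀ g, g ∈ I ↔ e * g * e⁻¹ ∈ I := fun e g => by
    simp only [hI, Finset.mem_filter, Finset.mem_univ, true_and, orderOf_conj]
  have hcol : ∀ x y : Ω, O.compl.R x y → (I.filter fun g : G => g • x = y).card = q := by
    intro x y hxy'
    obtain ⟨e, rfl, rfl⟩ := O.compl.tr1 _ _ _ _ hxy hxy'
    rw [hq]
    refine (Finset.card_bij (fun g _ => e * g * e⁻¹) (fun g hg => ?_) (fun a _ b _ h => ?_)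
      fun g hg => ?_).symm
    · obtain ⟨h1, h2⟩ := Finset.mem_filter.1 hg
      exact Finset.mem_filter.2 ⟨(hIconj e g).1 h1, by rw [mul_smul, mul_smul, inv_smul_smul, h2]⟩
    · simpa using h
    · obtain ⟨h1, h2⟩ := Finset.mem_filter.1 hg
      refine ⟨e⁻¹ * g * e, Finset.mem_filter.2 ⟨?_, ?_⟩, by group⟩
      · rw [hIconj e, show e * (e⁻¹ * g * e) * e⁻¹ = g by group]; exact h1
      · rw [mul_smul, mul_smul, h2, inv_smul_smul]
  have hx : ∀ x : Ω, (I.filter fun g : G => O.compl.R x (g • x)).card =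
      (Finset.univ.filter fun y : Ω => O.compl.R x y).card * q := by
    intro x
    rw [Finset.card_eq_sum_card_fiberwise (f := fun g : G => g • x)
      (t := Finset.univ.filter fun y : Ω => O.compl.R x y)
      (fun g hg => Finset.mem_filter.2 ⟨Finset.mem_univ _, (Finset.mem_filter.1 hg).2⟩),
      Finset.sum_congr rfl (g := fun _ => q) fun y hy => ?_, Finset.sum_const, smul_eq_mul]
    rw [Finset.filter_filter, ← hcol x y (Finset.mem_filter.1 hy).2]
    congr 1
    refine Finset.filter_congr fun g _ => ⟨fun h => h.2, fun h => ⟨?_, h⟩⟩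
    show O.compl.R x (g • x)
    rw [h]; exact (Finset.mem_filter.1 hy).2
  have hswap : ∑ g ∈ I, (Finset.univ.filter fun x : Ω => O.compl.R x (g • x)).card =
      ∑ x : Ω, (I.filter fun g : G => O.compl.R x (g • x)).card := by
    simp only [Finset.card_filter]
    exact Finset.sum_comm
  have hmain := congrArg (Nat.cast : ℕ → ℤ) hswap
  push_cast at hmain
  rw [Finset.sum_congr rfl hrow, Finset.sum_const, nsmul_eq_mul,
    Finset.sum_congr rfl (g := fun _ => (2 * (p : ℤ) - 1 - r) * q) (fun x _ => by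
      rw [hx x, Nat.cast_mul, ← Fintype.card_subtype, ← Nat.card_eq_fintype_card, hl x]),
    Finset.sum_const, Finset.card_univ, X.hyps.card, nsmul_eq_mul] at hmain
  -- the number of involutions
  have hIc : I.card * c = Nat.card G := by
    rw [← (Subgroup.centralizer ({z} : Set G)).index_mul_card, (N.hzv z hz).2.2,
      Subgroup.centralizer_eq_comap_stabilizer]
    congr 1
    refine Eq.trans ?_ ((Subgroup.index_comap_of_surjective _
      (f := (ConjAct.toConjAct (G := G)).toMonoidHom) (MulEquiv.surjective _)).trans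
      (MulAction.index_stabilizer (ConjAct G) z)).symm
    rw [← Nat.card_coe_set_eq, hI, ← Fintype.card_subtype, ← Nat.card_eq_fintype_card]
    exact Nat.card_congr (Equiv.subtypeEquivRight fun t => by
      rw [ConjAct.mem_orbit_conjAct]
      exact ⟨fun ht => (N.hone z t hz ht).symm, fun ht => by
        obtain ⟨e, he⟩ := isConj_iff.1 ht.symm
        rw [← he, orderOf_conj, hz]⟩)
  have hI' : I.card = p * X.D.f * k := by
    refine Nat.eq_of_mul_eq_mul_right (show 0 < c from (N.hzv z hz).2.2 ▸ Nat.card_pos) ?_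
    rw [hIc, N.hG, N.hc]; ring
  have hf : (X.D.f : ℤ) = 2 * p - 1 := by have := X.hf; omega
  rw [hI'] at hmain
  push_cast at hmain
  rw [hf, ← hr] at hmain
  have hr0 : r ≠ 0 := fun e => by rw [e] at hr; omega
  have hne : (p : ℤ) * (3 * r * (3 * r + 1)) ≠ 0 :=
    mul_ne_zero (by omega) (mul_ne_zero (by omega) (by omega))
  have hfin : (2 * r + 1) * (2 * r - 1) * (k : ℤ) = 2 * (q : ℤ) := by
    refine mul_left_cancel₀ hne ?_
    linear_combination hmain
  obtain ⟨i, hi⟩ := N.hk
  rw [hi] at hfin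
  push_cast at hfin
  have hpar : (1 : ℤ) = 2 * (4 * r ^ 2 * (i : ℤ) + 2 * r ^ 2 - (i : ℤ) - q) := by linear_combination -hfin
  omega

end Cfsg.Agent.Block.ThreeP
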