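import Mathlib
import Cfsg.Agent.Lib.Block.ThreeP.RankFacts
import Cfsg.Agent.Lib.Block.ThreeP.Eight
import Cfsg.Agent.Lib.Block.Dihedral.Setup
import Cfsg.Agent.Lib.Fus.OrderEight
import Cfsg.Agent.Lib.Fus.SmallSimple
import Cfsg.Agent.S0201

/-!
Rank three with involutions fixing three points: the Sylow 2-subgroup is dihedral of order eight.
-/

set_option autoImplicit false
set_option linter.unusedSectionVars false
set_option linter.style.haveILetI false

namespace Cfsg.Agent.Block.ThreeP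

open scoped ComplexConjugate
open Cfsg Cfsg.Agent.Block Cfsg.Agent.Block.PermChar Cfsg.Agent.Char

universe u v

section Group

variable {G : Type u} [Group G] [Finite G]

/-- An abelian Sylow subgroup of order eight with one class of involutions and an element of order
four does not occur in a simple group. -/
theorem no_abelian_eight [IsSimpleGroup G] (hna : ¬ IsMulCommutative G) (S : Sylow 2 G)
    (h8 : Nat.card (S : Subgroup G) = 8)
    (hone : ∀ t w : G, orderOf t = 2 → orderOf w = 2 → IsConj t w)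
    {q : G} (hq : q ∈ (S : Subgroup G)) (hq2 : q * q ≠ 1)
    (hc : ∀ a ∈ (S : Subgroup G), ∀ b ∈ (S : Subgroup G), a * b = b * a) : False := by
  classical
  haveI : Fact (Nat.Prime 2) := ⟨Nat.prime_two⟩
  haveI hcS : IsMulCommutative (S : Subgroup G) :=
    ⟨⟨fun x y => Subtype.ext (hc _ x.2 _ y.2)⟩⟩
  -- every involution in `S` is a square there
  have hsq : ∀ t ∈ (S : Subgroup G), orderOf t = 2 → ∃ s ∈ (S : Subgroup G), s * s = t := by
    obtain ⟨s₁, hs₁, hs₁o⟩ : ∃ s ∈ (S : Subgroup G), orderOf (s * s) = 2 := by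
      obtain ⟨n, hn, hno⟩ := exists_inv_mem S.isPGroup' (mul_mem hq hq) hq2
      refine ⟨q ^ n, pow_mem hq n, ?_⟩
      rwa [← (Commute.refl q).mul_pow]
    intro t ht hto
    obtain ⟨g, hg⟩ := isConj_iff.1 (hone _ t hs₁o hto)
    obtain ⟨n, hn, hn'⟩ := Cfsg.Agent.Transfer.exists_normalizer_conj_of_abelian S hcS
      (mul_mem hs₁ hs₁) (g := g) (hg ▸ ht)
    refine ⟨n * s₁ * n⁻¹, (Subgroup.mem_normalizer_iff.1 hn s₁).1 hs₁, ?_⟩
    rw [hg] at hn'
    rw [← hn']
    group
  by_cases hu : ∀ a ∈ (S : Subgroup G), ∀ b ∈ (S : Subgroup G), orderOf a = 2 → orderOf b = 2 → a = b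
  · -- cyclic
    have hS : ∀ y ∈ (S : Subgroup G), orderOf y ∣ 8 := fun y hy => by
      have h := orderOf_dvd_natCard (⟨y, hy⟩ : (S : Subgroup G))
      rwa [Subgroup.orderOf_mk, h8] at h
    have hcyc : IsCyclic (S : Subgroup G) := by
      by_contra hnc
      have h4 : ∀ y ∈ (S : Subgroup G), y * y ≠ 1 → orderOf y = 4 := by
        intro y hy hyy
        obtain ⟨i, hi, hi'⟩ := (Nat.dvd_prime_pow Nat.prime_two).1
          (show orderOf y ∣ 2 ^ 3 from hS y hy)
        have h2 : i ≤ 1 → False := fun hle => hyy (by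
          rw [← pow_two, ← orderOf_dvd_iff_pow_eq_one, hi']
          exact (pow_dvd_pow 2 hle).trans (dvd_of_eq (pow_one 2)))
        interval_cases i
        · exact (h2 (by omega)).elim
        · exact (h2 (by omega)).elim
        · rw [hi']; norm_num
        · exact (hnc (isCyclic_of_orderOf_eq_card ⟨y, hy⟩ (by rw [Subgroup.orderOf_mk, hi', h8]; norm_num))).elim
      have hq4 := h4 q hq hq2
      have hz : orderOf (q * q) = 2 := by
        rw [← pow_two, orderOf_pow' q (by norm_num), hq4]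
        norm_num
      obtain ⟨y, hy, hyq⟩ : ∃ y ∈ (S : Subgroup G), y ∉ Subgroup.zpowers q := by
        by_contra hno
        push Not at hno
        have h := Subgroup.card_le_of_le (show (S : Subgroup G) ≤ Subgroup.zpowers q from hno)
        rw [h8, Nat.card_zpowers, hq4] at h
        omega
      have hinv : ∀ w ∈ (S : Subgroup G), w * w = 1 → w ∈ Subgroup.zpowers q := by
        intro w hw hww
        by_cases hw1 : w = 1
        · exact hw1 ▸ one_mem _
        rw [hu w hw (q * q) (mul_mem hq hq) (orderOf_eq_prime (by rw [pow_two]; exact hww) hw1) hz]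
        exact mul_mem (Subgroup.mem_zpowers q) (Subgroup.mem_zpowers q)
      have hy2 : y * y ≠ 1 := fun e => hyq (hinv y hy e)
      have hyo := h4 y hy hy2
      have hyy : y * y = q * q := hu _ (mul_mem hy hy) _ (mul_mem hq hq)
        (by rw [← pow_two, orderOf_pow' y (by norm_num), hyo]; norm_num) hz
      have h1 : (y * q⁻¹) * (y * q⁻¹) = 1 := by
        have hcy : Commute q⁻¹ y := (hc _ (inv_mem hq) _ hy)
        calc (y * q⁻¹) * (y * q⁻¹) = y * (q⁻¹ * y) * q⁻¹ := by group
          _ = (y * y) * (q⁻¹ * q⁻¹) := by rw [hcy.eq]; group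
          _ = 1 := by rw [hyy]; group
      have h2 := mul_mem (hinv _ (mul_mem hy (inv_mem hq)) h1) (Subgroup.mem_zpowers q)
      exact hyq (by simpa using h2)
    have hd : 2 ∣ Nat.card G := dvd_trans (by rw [h8]; norm_num) (Subgroup.card_subgroup_dvd_card (S : Subgroup G))
    have hN := IsCyclic.normalizer_le_centralizer (P := S) ((Nat.minFac_eq_two_iff _).2 hd) hcyc
    exact Fus.simple_no_complement hna hd
      ⟨S, (MonoidHom.transferSylow S hN).ker, inferInstance,
        MonoidHom.ker_transferSylow_isComplement' S hN⟩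
  · push Not at hu
    obtain ⟨a, ha, b, hb, hao, hbo, hab⟩ := hu
    let φ : (S : Subgroup G) →* (S : Subgroup G) :=
      MonoidHom.mk' (fun s => s * s) fun x y => by
        apply Subtype.ext
        have := hc _ x.2 _ y.2
        calc (x : G) * y * (x * y) = x * (y * x) * y := by group
          _ = (x * x) * (y * y) := by rw [← this]; group
    have hcard := φ.ker.index_mul_card
    rw [Subgroup.index_ker, h8] at hcard
    have hsub : ∀ t : (S : Subgroup G), orderOf (t : G) = 2 → t ∈ φ.ker ∧ t ∈ φ.range := by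
      intro t ht
      refine ⟨Subtype.ext ?_, ?_⟩
      · have h := pow_orderOf_eq_one (t : G)
        rw [ht, pow_two] at h
        exact h
      · obtain ⟨s, hs, hst⟩ := hsq t t.2 ht
        exact ⟨⟨s, hs⟩, Subtype.ext hst⟩
    have h3 : ∀ K : Subgroup (S : Subgroup G), (⟨a, ha⟩ : (S : Subgroup G)) ∈ K →
        (⟨b, hb⟩ : (S : Subgroup G)) ∈ K → 3 ≤ Nat.card K := by
      intro K haK hbK
      have h1 : ({1, ⟨a, ha⟩, ⟨b, hb⟩} : Finset (S : Subgroup G)).card = 3 := by
        have e1 : (⟨a, ha⟩ : (S : Subgroup G)) ≠ 1 := fun e => by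
          have : a = 1 := congrArg Subtype.val e
          rw [this, orderOf_one] at hao
          omega
        have e2 : (⟨b, hb⟩ : (S : Subgroup G)) ≠ 1 := fun e => by
          have : b = 1 := congrArg Subtype.val e
          rw [this, orderOf_one] at hbo
          omega
        rw [Finset.card_insert_of_notMem (by simp [Ne.symm e1, Ne.symm e2]),
          Finset.card_pair (fun e => hab (congrArg Subtype.val e))]
      rw [← h1, ← Set.ncard_coe_finset]
      refine le_of_le_of_eq (Set.ncard_le_ncard (t := (K : Set (S : Subgroup G))) fun x hx => ?_)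
        (Nat.card_coe_set_eq _).symm
      simp only [Finset.mem_coe, Finset.mem_insert, Finset.mem_singleton] at hx
      rcases hx with rfl | rfl | rfl
      exacts [one_mem _, haK, hbK]
    have h5 := Nat.mul_le_mul (h3 φ.range (hsub ⟨a, ha⟩ hao).2 (hsub ⟨b, hb⟩ hbo).2)
      (h3 φ.ker (hsub ⟨a, ha⟩ hao).1 (hsub ⟨b, hb⟩ hbo).1)
    omega

end Group

variable {G : Type u} [Group G] [Fintype G] {Ω : Type v} [Fintype Ω] [MulAction G Ω] {p : ℕ}
  [Fact p.Prime] [DecidableEq Ω]

/-- The Sylow subgroup in rank three. -/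
structure Eight (X : Ctx G Ω p) (h k : ℕ) (S : Sylow 2 G) (σ : G) (α : Ω) (S₀ : Subgroup G) :
    Prop where
  p_eq : p = 4 * h + 1
  odd_h : Odd h
  odd_k : Odd k
  f_eq : X.D.f = 8 * h + 1
  card_G : Nat.card G = p * (8 * h + 1) * (8 * h) * k ^ 2
  data : Dih.Data S σ 4
  one_class : ∀ s t : G, orderOf s = 2 → orderOf t = 2 → IsConj s t
  chi_inv : ∀ s : G, orderOf s = 2 → (X.D.χ : G → ℂ) s = 1
  psi_inv : ∀ s : G, orderOf s = 2 → (X.ψ : G → ℂ) s = 1
  fix_inv : ∀ s : G, orderOf s = 2 → nfix Ω s = 3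
  cent : ∀ s : G, orderOf s = 2 → Nat.card (Subgroup.centralizer ({s} : Set G)) = 8 * h * k
  fix_S : ∀ s ∈ (S : Subgroup G), s • α = α
  le : S₀ ≤ (S : Subgroup G)
  sq_mem : σ * σ ∈ S₀
  card_S₀ : Nat.card S₀ = 4
  ker : ∀ s ∈ (S : Subgroup G), s ∈ S₀ ↔ ∀ a ∈ fixSet Ω (σ * σ), s • a = a
  fix₀ : ∀ w ∈ S₀, orderOf w = 2 → fixSet Ω w = fixSet Ω (σ * σ)

theorem Nums.exists_eight [IsSimpleGroup G] [FaithfulSMul G Ω] {X : Ctx G Ω p} {w : ℤ} {c d k : ℕ}
    (N : Nums X w c d k) (hw : w = 1) :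
    ∃ h S σ α S₀, Eight X h k S σ α S₀ := by
  classical
  subst hw
  haveI : Fact (Nat.Prime 2) := ⟨Nat.prime_two⟩
  haveI := X.hyps.trans
  have hp : p.Prime := Fact.out
  have hp3 := X.hyps.hp3
  obtain ⟨z₀, hz₀⟩ := N.hex
  obtain ⟨O, r, hr, -, hl, -, hlam⟩ := exists_par X.hyps (Ne.symm X.D.triv_ne) X.hψ X.hne X.h1 X.h2
    X.hall (by rw [X.D.deg]; exact X.hf) X.hdψ hz₀
  -- the parameters
  obtain ⟨u, rfl⟩ : ∃ u : ℤ, r = 8 * u + 1 := by
    refine ⟨r / 8, ?_⟩
    obtain ⟨e, he⟩ := N.hwp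
    have h8 : (6 * (r % 8) ^ 2 + 3 * (r % 8) + 1) % 8 = 2 := by
      have h1 : 6 * r ^ 2 + 3 * r + 1 = 6 * (r % 8) ^ 2 + 3 * (r % 8) + 1 +
          8 * (6 * (r / 8) * (2 * (r % 8) + 8 * (r / 8)) + 3 * (r / 8)) := by
        have h2 := Int.emod_add_mul_ediv r 8
        linear_combination (-(6 * (r + (r % 8 + 8 * (r / 8))) + 3)) * h2
      omega
    have h9 : r % 8 = 1 := by
      have h0 := Int.emod_nonneg r (show (8 : ℤ) ≠ 0 by norm_num)
      have h7 := Int.emod_lt_of_pos r (show (0 : ℤ) < 8 by norm_num)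
      interval_cases (r % 8) <;> simp_all
    omega
  have hpu : (p : ℤ) = 4 * (48 * u ^ 2 + 15 * u + 1) + 1 := by nlinarith
  have hH : (0 : ℤ) < 48 * u ^ 2 + 15 * u + 1 := by omega
  obtain ⟨h, hh⟩ : ∃ h : ℕ, (h : ℤ) = 48 * u ^ 2 + 15 * u + 1 :=
    ⟨(48 * u ^ 2 + 15 * u + 1).toNat, Int.toNat_of_nonneg hH.le⟩
  have hph : p = 4 * h + 1 := by omega
  have hfh : X.D.f = 8 * h + 1 := by have := X.hf; omega
  have hdh : d = 8 * h := by have := N.hd; omega
  have hG : Nat.card G = p * (8 * h + 1) * (8 * h) * k ^ 2 := by rw [N.hG, hfh, hdh]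
  -- the Sylow subgroup
  have h3 : ∀ s : G, orderOf s = 2 → nfix Ω s = 3 := fun s hs => by
    have := N.hfix s hs
    omega
  set S : Sylow 2 G := default with hSdef
  obtain ⟨s, hs⟩ := IsPGroup.iff_card.1 S.isPGroup'
  have hsyl : ∀ i : ℕ, 2 ^ i ∣ Nat.card G → i ≤ s := by
    intro i hi
    have h1 : 2 ^ i ∣ Nat.card (S : Subgroup G) := S.pow_dvd_card_of_pow_dvd_card hi
    rw [hs] at h1
    exact (Nat.pow_dvd_pow_iff_le_right (by norm_num)).1 h1
  have hs3 : 3 ≤ s := hsyl 3 ⟨p * (8 * h + 1) * h * k ^ 2, by rw [hG]; ring⟩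
  obtain ⟨z, hzS, hz, hzc⟩ := exists_central_inv S.isPGroup' fun e => by
    rw [e, Subgroup.card_bot] at hs
    have := Nat.pow_le_pow_right (show 0 < 2 by norm_num) (show 1 ≤ s by omega)
    omega
  obtain ⟨α, hα⟩ := X.hyps.exists_fix S.isPGroup'
  obtain ⟨S₀, hS₀, hzS₀, hidx, hker, hfix0, hsemi⟩ := exists_kernel h3 S.isPGroup' hzS hz hzc hα
  obtain ⟨i, hi⟩ := IsPGroup.iff_card.1 (S.isPGroup'.to_le hS₀)
  have hsi : s ≤ i + 1 := by
    rw [hs, hi, ← pow_succ'] at hidx
    exact (Nat.pow_le_pow_iff_right (by norm_num)).1 hidx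
  set T := fixSet Ω z with hT
  have hTc : T.card = 3 := card_fix_inv h3 hz
  have hfixT : ∀ t ∈ S₀, ∀ a ∈ T, t • a = a := fun t ht => (hker t (hS₀ ht)).1 ht
  -- the fixed points are adjacent in pairs
  have hadj : ∀ a ∈ T, ∀ b ∈ T, a ≠ b → O.R a b := by
    intro a ha b hb hab
    by_contra hnot
    have hc : O.compl.R a b := ⟨hab, hnot⟩
    have horb : MulAction.orbit (MulAction.stabilizer G a) b = {y | O.compl.R a y} := by
      ext y
      constructor
      · rintro ⟨g, rfl⟩
        show O.compl.R a ((g : G) • b)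
        have hga : (g : G) • a = a := g.2
        have h1 := (O.compl.inv (g : G) a b).2 hc
        rwa [hga] at h1
      · intro hy
        obtain ⟨g, hga, hgb⟩ := O.compl.tr1 _ _ _ _ hc hy
        exact ⟨⟨g, hga⟩, hgb⟩
    have hcard := MulAction.card_orbit_mul_card_stabilizer_eq_card_group (MulAction.stabilizer G a) b
    rw [← Nat.card_eq_fintype_card, ← Nat.card_eq_fintype_card, ← Nat.card_eq_fintype_card,
      Nat.card_congr (Equiv.setCongr horb)] at hcard
    have h8l : 8 ∣ Nat.card {y // O.compl.R a y} := by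
      have := hl a
      zify
      exact ⟨48 * u ^ 2 + 14 * u + 1, by rw [this, hpu]; ring⟩
    let g : S₀ →* MulAction.stabilizer (MulAction.stabilizer G a) b :=
      { toFun := fun t => ⟨⟨t, hfixT t t.2 a ha⟩, hfixT t t.2 b hb⟩
        map_one' := rfl
        map_mul' := fun _ _ => rfl }
    have h2 : 2 ^ i ∣ Nat.card (MulAction.stabilizer (MulAction.stabilizer G a) b) :=
      hi ▸ Subgroup.card_dvd_of_injective g (fun x y e =>
        Subtype.ext (congrArg (fun q => ((q : MulAction.stabilizer G a) : G)) (congrArg Subtype.val e)))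
    have h3' : 2 ^ (i + 3) ∣ Nat.card G := by
      refine dvd_trans ?_ (Subgroup.card_subgroup_dvd_card (MulAction.stabilizer G a))
      rw [← hcard, pow_add, mul_comm]
      exact Nat.mul_dvd_mul h8l h2
    have := hsyl _ h3'
    omega
  -- the kernel acts freely on common neighbours
  obtain ⟨a, b, e, hab, hae, hbe, hTabe⟩ := Finset.card_eq_three.1 hTc
  have haT : a ∈ T := by rw [hTabe]; simp
  have hbT : b ∈ T := by rw [hTabe]; simp
  have heT : e ∈ T := by rw [hTabe]; simp
  set L := (Finset.univ.filter fun y : Ω => O.R a y ∧ O.R y b).erase e with hL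
  have heL : e ∈ Finset.univ.filter fun y : Ω => O.R a y ∧ O.R y b :=
    Finset.mem_filter.2 ⟨Finset.mem_univ _, hadj a haT e heT hae, hadj e heT b hbT (Ne.symm hbe)⟩
  have hLfree : Nat.card S₀ ∣ L.card := by
    refine free_dvd (T := S₀) (fun t ht y hy => ?_) fun t ht y hy hfx => ?_
    · obtain ⟨hye, hy'⟩ := Finset.mem_erase.1 hy
      obtain ⟨-, hy1, hy2⟩ := Finset.mem_filter.1 hy'
      refine Finset.mem_erase.2 ⟨fun h' => hye (smul_left_cancel t (h'.trans (hfixT t ht e heT).symm)),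
        Finset.mem_filter.2 ⟨Finset.mem_univ _, ?_, ?_⟩⟩
      · rw [← hfixT t ht a haT, O.inv]; exact hy1
      · rw [← hfixT t ht b hbT, O.inv]; exact hy2
    · by_contra ht1
      have hyT : y ∈ T := hsemi t ht ht1 y hfx
      obtain ⟨hye, hy'⟩ := Finset.mem_erase.1 hy
      obtain ⟨-, hy1, hy2⟩ := Finset.mem_filter.1 hy'
      rw [hTabe] at hyT
      simp only [Finset.mem_insert, Finset.mem_singleton] at hyT
      rcases hyT with rfl | rfl | rfl
      exacts [O.irr _ hy1, O.irr _ hy2, hye rfl]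
  have hLc : (L.card : ℤ) = 4 * (u * (16 * u + 5)) := by
    have h1 := hlam a b (hadj a haT b hbT hab)
    rw [Nat.card_eq_fintype_card, Fintype.card_subtype] at h1
    rw [hL, Finset.card_erase_of_mem heL, Nat.cast_sub (Finset.card_pos.2 ⟨e, heL⟩), h1, hpu,
      Nat.cast_one]
    ring
  have hoddh : Odd h := by
    rw [← Nat.not_even_iff_odd]
    rintro ⟨h', rfl⟩
    have hs4 : 4 ≤ s := hsyl 4 ⟨p * (8 * (h' + h') + 1) * h' * k ^ 2, by rw [hG]; ring⟩
    have h8 : (8 : ℤ) ∣ 4 * (u * (16 * u + 5)) := by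
      rw [← hLc]
      have h1 : 2 ^ 3 ∣ L.card := (pow_dvd_pow 2 (show 3 ≤ i by omega)).trans (hi ▸ hLfree)
      exact_mod_cast h1
    have hu : Even u := by
      have h2 : (2 : ℤ) ∣ u * (16 * u + 5) := by omega
      rcases Int.prime_two.dvd_mul.1 h2 with h3 | h3
      · exact even_iff_two_dvd.2 h3
      · omega
    obtain ⟨u', rfl⟩ := hu
    push_cast at hh
    have : (2 : ℤ) * h' = 2 * (96 * u' ^ 2 + 15 * u') + 1 := by linear_combination hh
    omega
  have hd0 : 2 ^ i ∣ 3 * p - 3 := by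
    have h := free_dvd (T := S₀) (X := Finset.univ \ T)
      (fun t ht y hy => Finset.mem_sdiff.2 ⟨Finset.mem_univ _, fun hta => (Finset.mem_sdiff.1 hy).2 (by
        have hfx := hfixT t ht _ hta
        rwa [smul_left_cancel t hfx] at hta)⟩)
      (fun t ht y hy e' => by
        by_contra ht1
        exact (Finset.mem_sdiff.1 hy).2 (hsemi t ht ht1 y e'))
    rwa [Finset.card_sdiff_of_subset (Finset.subset_univ _), Finset.card_univ, X.hyps.card, hTc, hi] at h
  have hi2 : i = 2 := by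
    have h4 : 2 ^ i ∣ 2 ^ 2 * (3 * h) := by
      convert hd0 using 1
      omega
    have := (Nat.pow_dvd_pow_iff_le_right (show 1 < 2 by norm_num)).1
      ((Nat.Coprime.pow_left i ((Nat.coprime_two_left).2
        ((show Odd 3 from ⟨1, by norm_num⟩).mul hoddh))).dvd_of_dvd_mul_right h4)
    omega
  have hs' : s = 3 := by omega
  subst hi2 hs'
  rw [show (2 : ℕ) ^ 2 = 4 by norm_num] at hi
  rw [show (2 : ℕ) ^ 3 = 8 by norm_num] at hs
  obtain ⟨q, hqS, hq⟩ := not_elementary h3 S hs hz hS₀ hzS₀ hi hfix0 hker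
    (fun w hw => N.hone z w hz hw)
  have hnab : ¬ ∀ x y : (S : Subgroup G), x * y = y * x := fun hab' =>
    no_abelian_eight X.hyps.na S hs N.hone hqS hq fun x hx y hy =>
      congrArg Subtype.val (hab' ⟨x, hx⟩ ⟨y, hy⟩)
  rcases Fus.dihedral_or_quaternion_of_card_eight hs hnab with he | he
  · obtain ⟨eD⟩ := he
    set σ : G := (eD.symm (DihedralGroup.r 1) : G) with hσ
    have hσo : orderOf σ = 4 := by
      rw [hσ, Subgroup.orderOf_coe, MulEquiv.orderOf_eq, DihedralGroup.orderOf_r_one]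
    have hdata : Dih.Data S σ (2 ^ (3 - 1)) := Dih.data_of_equiv S le_rfl eD (SetLike.coe_mem _) hσo
    have hzσ : z = σ * σ := by
      rcases hdata.cases z hzS with hmem | ⟨-, -, hinv⟩
      · obtain ⟨n, hn⟩ := Subgroup.mem_zpowers_iff.1 hmem
        have h1 := pow_orderOf_eq_one z
        rw [hz, pow_two, ← hn, ← zpow_add, ← orderOf_dvd_iff_zpow_eq_one, hσo] at h1
        obtain ⟨i', hi'⟩ : (2 : ℤ) ∣ n := by omega
        rcases Int.even_or_odd i' with ⟨l, rfl⟩ | ⟨l, rfl⟩
        · exfalso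
          have h0 : z = 1 := by
            rw [← hn, ← orderOf_dvd_iff_zpow_eq_one, hσo]
            exact ⟨l, by push_cast; omega⟩
          rw [h0, orderOf_one] at hz
          omega
        · rw [← hn, hi', show 2 * (2 * l + 1) = ((4 : ℕ) : ℤ) * l + 2 by push_cast; ring, zpow_add,
            zpow_mul, zpow_natCast, ← hσo, pow_orderOf_eq_one, one_zpow, one_mul, zpow_two]
      · exfalso
        rw [← hzc σ (SetLike.coe_mem _), mul_inv_cancel_right] at hinv
        have h1 : σ ^ 2 = 1 := by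
          rw [pow_two]
          nth_rewrite 2 [hinv]
          exact mul_inv_cancel _
        have := Nat.le_of_dvd two_pos (orderOf_dvd_of_pow_eq_one h1)
        omega
    subst hzσ
    exact ⟨h, S, σ, α, S₀, hph, hoddh, N.hk, hfh, hG, hdata, N.hone,
      fun g hg => (N.hzv g hg).1, fun g hg => by rw [(N.hzv g hg).2.1, Int.cast_one], h3,
      fun g hg => by rw [(N.hzv g hg).2.2, N.hc, hdh], hα, hS₀, hzS₀, hi, hker, hfix0⟩
  · exfalso
    obtain ⟨eQ⟩ := he
    have hd : 2 ∣ Nat.card G := dvd_trans (by rw [hs]; norm_num) (Subgroup.card_subgroup_dvd_card (S : Subgroup G))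
    have hcen := Cfsg.Agent.S0201.result S 0 eQ fun M hM hodd =>
      (IsSimpleGroup.eq_bot_or_eq_top_of_normal M hM).resolve_right fun e => by
        rw [e, Subgroup.card_top] at hodd
        exact Nat.not_even_iff_odd.2 hodd (even_iff_two_dvd.2 hd)
    rcases IsSimpleGroup.eq_bot_or_eq_top_of_normal (Subgroup.center G) inferInstance with e | e
    · rw [e, Subgroup.card_bot] at hcen; omega
    · exact X.hyps.na ⟨⟨fun x y => (Subgroup.mem_center_iff.1 (e ▸ Subgroup.mem_top y) x)⟩⟩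

end Cfsg.Agent.Block.ThreeP
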