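import Mathlib
import Cfsg.Agent.Lib.Block.ThreeP.RankThreeD8
import Cfsg.Agent.Lib.Block.Dihedral.OrderFormula
import Cfsg.Agent.Lib.Block.PrincipalColumn

/-!
Rank three: the principal 2-block of a group with a dihedral Sylow subgroup of order eight, and the
local numbers.
-/

set_option autoImplicit false
set_option linter.unusedSectionVars false
set_option linter.style.haveILetI false

namespace Cfsg.Agent.Block.ThreeP

open scoped ComplexConjugate
open Cfsg Cfsg.Agent.Block Cfsg.Agent.Block.PermChar Cfsg.Agent.Char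

universe u v

variable {G : Type u} [Group G] [Fintype G] {Ω : Type v} [Fintype Ω] [MulAction G Ω] {p : ℕ}
  [Fact p.Prime] [DecidableEq Ω]

theorem sum_irr_zero {χ : IrrCharacter G} (hχ : χ ≠ one₀ G) : ∑ g : G, (χ : G → ℂ) g = 0 := by
  have h := Cfsg.Agent.Char.classInner_irr_ne χ.2 (one₀ G).2 fun e => hχ (Subtype.ext e)
  rw [classInner, mul_eq_zero] at h
  have h2 := h.resolve_left (inv_ne_zero (Nat.cast_ne_zero.2 Nat.card_pos.ne'))
  calc ∑ g : G, (χ : G → ℂ) g
      = ∑ g : G, (χ : G → ℂ) g * conj (((one₀ G : IrrCharacter G) : G → ℂ) g) :=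
        Finset.sum_congr rfl fun g _ => by simp [one₀, trivialIrr]
    _ = 0 := h2

variable {X : Ctx G Ω p} {h k : ℕ} {S : Sylow 2 G} {σ : G} {α : Ω} {S₀ : Subgroup G}
  (E : Eight X h k S σ α S₀)

include E in
theorem Eight.h_pos : 0 < h := E.odd_h.pos

include E in
/-- At the 2-singular elements `χ` is one. -/
theorem Eight.chi_sing {g : G} (hg : 2 ∣ orderOf g) : (X.D.χ : G → ℂ) g = 1 := by
  classical
  have hp3 := X.hyps.hp3
  obtain ⟨θ, hθ⟩ : X.D.Y.Nonempty := Finset.card_pos.1 (by have := X.D.hY; omega)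
  have hd : charDegree (θ : G → ℂ) = 8 * h := by
    apply Nat.cast_injective (R := ℂ)
    rw [← charDeg_spec' θ, X.D.vY θ hθ 1 X.hyps.one_reg, charDeg_spec', X.D.deg, E.f_eq]
    push_cast; ring
  have h0 := Few.vanish (l := 2) Nat.prime_two θ (r := p * (8 * h + 1) * k ^ 2)
    (by rw [hd, E.card_G]; ring) (fun hd2 => by
      have ho : Odd (p * (8 * h + 1) * k ^ 2) :=
        (((Fact.out : p.Prime).odd_of_ne_two (by omega)).mul ⟨4 * h, by ring⟩).mul E.odd_k.pow
      exact Nat.not_even_iff_odd.2 ho (even_iff_two_dvd.2 hd2)) hg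
  rw [X.D.vY θ hθ g (X.hyps.even_reg hg)] at h0
  exact sub_eq_zero.1 h0

include E in
theorem Eight.principal {M : Ideal AlgInt} (hM : IsPModular 2 M) :
    X.D.χ ∈ principalBlock M G ∧ X.ψ ∈ principalBlock M G := by
  classical
  haveI : Fact (Nat.Prime 2) := ⟨Nat.prime_two⟩
  set s := Finset.univ.filter (fun g : G => 2 ∣ orderOf g) with hs
  have hreg : ∀ η : IrrCharacter G, η ≠ one₀ G →
      PrinCol.regTot 2 (η : G → ℂ) = -∑ g ∈ s, (η : G → ℂ) g := by
    intro η hη
    have h1 := Finset.sum_filter_add_sum_filter_not Finset.univ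
      (fun g : G => 2 ∣ orderOf g) (η : G → ℂ)
    rw [sum_irr_zero hη] at h1
    rw [PrinCol.regTot]
    linear_combination h1
  have hJ : orderOf (σ * σ) = 2 := by
    rw [← pow_two, orderOf_pow' σ (by norm_num), E.data.order]; norm_num
  constructor
  · rw [PrinCol.mem_principal_iff hM, hreg _ (Ne.symm X.D.triv_ne),
      Finset.sum_congr rfl fun g hg => E.chi_sing (Finset.mem_filter.1 hg).2, Finset.sum_const,
      nsmul_one, neg_ne_zero, Nat.cast_ne_zero]
    exact Finset.card_ne_zero_of_mem (Finset.mem_filter.2 ⟨Finset.mem_univ _, hJ.symm.dvd⟩)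
  · rw [PrinCol.mem_principal_iff hM, hreg _ X.hψ, neg_ne_zero,
      Finset.sum_congr rfl (g := fun g => (((nfix Ω g : ℤ) - 2 : ℤ) : ℂ)) fun g hg => by
        have h1 := X.pi g
        rw [E.chi_sing (Finset.mem_filter.1 hg).2] at h1
        push_cast
        linear_combination -h1,
      ← Int.cast_sum, Int.cast_ne_zero]
    intro h0
    -- the sum is odd
    have hI : (∑ g ∈ s.filter (fun g : G => orderOf g = 2), (nfix Ω g : ZMod 2)) = 1 := by
      rw [Finset.sum_congr rfl (g := fun _ => (1 : ZMod 2)) (fun g hg => by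
        rw [E.fix_inv g (Finset.mem_filter.1 hg).2]; rfl), Finset.sum_const, nsmul_one,
        ZMod.natCast_eq_one_iff_odd]
      have hc : (s.filter fun g : G => orderOf g = 2).card = Nat.card {g : G // orderOf g = 2} := by
        rw [Nat.card_eq_fintype_card, Fintype.card_subtype, hs, Finset.filter_filter]
        exact congrArg Finset.card (Finset.filter_congr fun g _ =>
          ⟨fun hh => hh.2, fun hh => ⟨hh.symm.dvd, hh⟩⟩)
      rw [hc]
      have hN : Nat.card {g : G // orderOf g = 2} * (8 * h * k) = Nat.card G := by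
        rw [← E.cent _ hJ, ← (Subgroup.centralizer ({σ * σ} : Set G)).index_mul_card,
          Subgroup.centralizer_eq_comap_stabilizer]
        congr 1
        refine Eq.trans ?_ ((Subgroup.index_comap_of_surjective _
          (f := (ConjAct.toConjAct (G := G)).toMonoidHom) (MulEquiv.surjective _)).trans
          (MulAction.index_stabilizer (ConjAct G) (σ * σ))).symm
        rw [← Nat.card_coe_set_eq]
        exact Nat.card_congr (Equiv.subtypeEquivRight fun t => by
          rw [ConjAct.mem_orbit_conjAct]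
          exact ⟨fun ht => (E.one_class _ _ hJ ht).symm, fun ht => by
            obtain ⟨c, hc⟩ := isConj_iff.1 ht.symm
            rw [← hc, orderOf_conj, hJ]⟩)
      have hN' : Nat.card {g : G // orderOf g = 2} = p * (8 * h + 1) * k := by
        refine Nat.eq_of_mul_eq_mul_right
          (show 0 < 8 * h * k from Nat.mul_pos (Nat.mul_pos (by norm_num) E.h_pos) E.odd_k.pos) ?_
        rw [hN, E.card_G]; ring
      rw [hN']
      have hp3 := X.hyps.hp3
      exact (((Fact.out : p.Prime).odd_of_ne_two (by omega)).mul ⟨4 * h, by ring⟩).mul E.odd_k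
    have hrest : (∑ g ∈ s.filter (fun g : G => ¬ orderOf g = 2), (nfix Ω g : ZMod 2)) = 0 := by
      refine Finset.sum_involution (fun g _ => g⁻¹) (fun g _ => ?_) (fun g hg _ e => ?_)
        (fun g hg => ?_) fun g _ => inv_inv g
      · rw [show nfix Ω g⁻¹ = nfix Ω g by rw [nfix, nfix, MulAction.fixedBy_inv]]
        exact CharTwo.add_self_eq_zero _
      · obtain ⟨hg1, hg2⟩ := Finset.mem_filter.1 hg
        refine hg2 (orderOf_eq_prime ?_ ?_)
        · rw [pow_two]; nth_rewrite 1 [← e]; exact inv_mul_cancel g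
        · intro e1
          have h1 := (Finset.mem_filter.1 hg1).2
          rw [e1, orderOf_one] at h1
          omega
      · obtain ⟨hg1, hg2⟩ := Finset.mem_filter.1 hg
        exact Finset.mem_filter.2 ⟨Finset.mem_filter.2 ⟨Finset.mem_univ _, by
          rw [orderOf_inv]; exact (Finset.mem_filter.1 hg1).2⟩, by rw [orderOf_inv]; exact hg2⟩
    have h1 : ((∑ g ∈ s, ((nfix Ω g : ℤ) - 2) : ℤ) : ZMod 2) = 0 := by rw [h0, Int.cast_zero]
    push_cast at h1
    rw [Finset.sum_congr rfl (g := fun g => (nfix Ω g : ZMod 2)) (fun g _ => by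
        rw [show (2 : ZMod 2) = 0 from rfl, sub_zero]),
      ← Finset.sum_filter_add_sum_filter_not s (fun g : G => orderOf g = 2), hI, hrest, add_zero] at h1
    exact one_ne_zero h1

/-- The local numbers. -/
structure Local (X : Ctx G Ω p) (h k : ℕ) (S : Sylow 2 G) (σ : G) (α : Ω) (S₀ : Subgroup G)
    (τ : G) (L : Subgroup G) (A : ℕ) : Prop where
  eight : Eight X h k S σ α S₀
  σ_not : σ ∉ S₀
  τ_mem : τ ∈ S₀
  τ_order : orderOf τ = 2
  τ_refl : τ * σ * τ⁻¹ = σ⁻¹
  odd2 : Dih.Odd2 L (Subgroup.centralizer ({σ * σ} : Set G)) (S : Subgroup G)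
  card_L : Nat.card L = h * k
  k_eq : k = A ^ 2
  inter : Nat.card ↥(L ⊓ Subgroup.centralizer ({τ} : Set G)) = A

include E in
theorem Eight.exists_local : ∃ τ L A, Local X h k S σ α S₀ τ L A := by
  classical
  haveI : Fact (Nat.Prime 2) := ⟨Nat.prime_two⟩
  obtain ⟨M, hM⟩ := exists_isPModular 2 Nat.prime_two
  obtain ⟨hχB, hψB⟩ := E.principal hM
  have hd := E.data
  have hm : 4 = 2 * (1 + 1) := rfl
  have e2 : σ ^ (1 + 1) = σ * σ := by rw [pow_succ, pow_one]
  set J := σ * σ with hJdef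
  have hJ : orderOf J = 2 := by rw [← e2]; exact hd.orderOf_half hm
  have hJJ : J * J = 1 := by rw [← pow_two, ← hJ, pow_orderOf_eq_one]
  have hh := E.h_pos
  have hk := E.odd_k.pos
  have hp0 : (p : ℂ) ≠ 0 := Nat.cast_ne_zero.2 (Fact.out : p.Prime).ne_zero
  obtain ⟨a, b, c, η, d1, d2, d3, hd1, hd2, hd3, hinj, hao, hbo, hco, hab, hac, hbc, hη, hset,
    -, hv, hrel⟩ := Dih.dihedral_block hM hd hm one_pos (by norm_num) Complex.isPrimitiveRoot_I
  obtain ⟨va1, vb1, vc1, ve1⟩ := hv 1 one_pos (by norm_num)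
  obtain ⟨va2, vb2, vc2, ve2⟩ := hv 2 two_pos (by norm_num)
  rw [pow_one] at va1 vb1 vc1
  rw [pow_two σ, ← hJdef] at va2 vb2 vc2
  replace ve1 : (η 0 : G → ℂ) σ = 0 := by
    have e := ve1 0
    simpa [Complex.inv_I] using e
  replace ve2 : (η 0 : G → ℂ) J = -(2 * (d1 : ℂ)) := by
    have e := ve2 0
    rw [pow_two σ, ← hJdef] at e
    rw [e]; simp; ring
  norm_num at vb1 vb2 vc1 vc2
  have hσ2 : 2 ∣ orderOf σ := by rw [hd.order]; norm_num
  have hχJ : (X.D.χ : G → ℂ) J = 1 := E.chi_sing hJ.symm.dvd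
  have hχσ : (X.D.χ : G → ℂ) σ = 1 := E.chi_sing hσ2
  have hψJ := E.psi_inv J hJ
  have hsame : ∀ (d : ℤ) (v : ℂ), v = (d : ℂ) → v = -(d : ℂ) → v = 0 := fun d v h1 h2 => by
    linear_combination (h1 + h2) / 2
  -- `χ` is the first character
  obtain ⟨haχ, hd11⟩ : a = X.D.χ ∧ d1 = 1 := by
    rcases hset ▸ hχB with e | e | e | e | ⟨j, e⟩
    · exact absurd e.symm X.D.triv_ne
    · refine ⟨e.symm, Int.cast_injective (α := ℂ) ?_⟩
      rw [← va1, ← e, hχσ, Int.cast_one]
    · exfalso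
      rw [← e] at vb1 vb2
      rw [hχσ] at vb1
      rw [hχJ] at vb2
      exact one_ne_zero (hsame d2 1 vb1 vb2)
    · exfalso
      rw [← e] at vc1 vc2
      rw [hχσ] at vc1
      rw [hχJ] at vc2
      exact one_ne_zero (hsame d3 1 vc1 vc2)
    · exfalso
      obtain rfl : j = 0 := Subsingleton.elim _ _
      rw [← e, hχσ] at ve1
      exact one_ne_zero ve1
  subst haχ hd11
  have ha0 : ((X.D.χ : G → ℂ) 1) = (8 * (h : ℂ) + 1) := by
    rw [charDeg_spec', X.D.deg, E.f_eq]; push_cast; ring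
  have hψ1 : ((X.ψ : G → ℂ) 1) = (p : ℂ) := by rw [charDeg_spec', X.hdψ]
  obtain ⟨hrel1, hrel2⟩ := hrel 1 (by simp) 0
  rw [ha0] at hrel1 hrel2
  have hf : (8 * (h : ℂ) + 1) + 1 = 2 * (p : ℂ) := by
    rw [E.p_eq]; push_cast; ring
  -- `ψ` is one of the next two
  have hpd : ∀ (ξ : IrrCharacter G) (d : ℤ), (d = 1 ∨ d = -1) → -(d : ℂ) * (ξ : G → ℂ) 1 = p →
      d = -1 ∧ (ξ : G → ℂ) 1 = p := by
    intro ξ d hd' e
    rcases hd' with rfl | rfl
    · exfalso
      rw [charDeg_spec'] at e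
      have h1 : (((charDegree (ξ : G → ℂ) + p : ℕ)) : ℂ) = ((0 : ℕ) : ℂ) := by
        push_cast at e ⊢; linear_combination -e
      have h2 := Nat.cast_injective h1
      have := (Fact.out : p.Prime).pos
      omega
    · exact ⟨rfl, by simpa using e⟩
  obtain ⟨rfl, rfl, hb0, hc0, hψσ⟩ : d2 = -1 ∧ d3 = -1 ∧ (b : G → ℂ) 1 = p ∧ (c : G → ℂ) 1 = p ∧
      (X.ψ : G → ℂ) σ = -1 := by
    have hneg : ∀ d : ℤ, (1 : ℂ) = -(d : ℂ) → d = -1 := fun d e =>
      Int.cast_injective (α := ℂ) (by push_cast; linear_combination e)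
    rcases hset ▸ hψB with e | e | e | e | ⟨j, e⟩
    · exact absurd e X.hψ
    · exact absurd e X.hne
    · rw [← e] at vb1 vb2
      rw [hψJ] at vb2
      obtain rfl := hneg d2 vb2
      rw [← e, hψ1] at hrel1
      push_cast at hrel1
      obtain ⟨e3, e4⟩ := hpd c d3 hd3 (by linear_combination hf - hrel1)
      exact ⟨rfl, e3, e ▸ hψ1, e4, by rw [vb1]; norm_num⟩
    · rw [← e] at vc1 vc2
      rw [hψJ] at vc2
      obtain rfl := hneg d3 vc2
      rw [← e, hψ1] at hrel1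
      push_cast at hrel1
      obtain ⟨e3, e4⟩ := hpd b d2 hd2 (by linear_combination hf - hrel1)
      exact ⟨e3, rfl, e4, e ▸ hψ1, by rw [vc1]; norm_num⟩
    · exfalso
      obtain rfl : j = 0 := Subsingleton.elim _ _
      rw [← e, hψJ] at ve2
      push_cast at ve2
      norm_num at ve2
  have he0 : (η 0 : G → ℂ) 1 = 2 * (p : ℂ) := by
    push_cast at hrel2
    linear_combination hf - hrel2
  -- the rotation moves the kernel
  have hnfix : nfix Ω σ = 1 := by
    have e := X.pi σ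
    rw [hχσ, hψσ] at e
    exact_mod_cast (by rw [e]; norm_num : (nfix Ω σ : ℂ) = ((1 : ℕ) : ℂ))
  have hσS₀ : σ ∉ S₀ := fun hσ => by
    have hsub : fixSet Ω (σ * σ) ⊆ fixSet Ω σ := fun x hx =>
      mem_fixSet.2 ((E.ker σ hd.mem).1 hσ x hx)
    have := Finset.card_le_card hsub
    rw [card_fixSet, card_fixSet, E.fix_inv _ hJ, hnfix] at this
    omega
  obtain ⟨τ, hτ0, hτσ'⟩ : ∃ τ ∈ S₀, τ ∉ Subgroup.zpowers σ := by
    by_contra hno
    push Not at hno
    have h1 : S₀ = Subgroup.zpowers σ := Subgroup.eq_of_le_of_card_ge hno (by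
      rw [hd.card_zpowers, E.card_S₀])
    exact hσS₀ (h1 ▸ Subgroup.mem_zpowers σ)
  have hτS := E.le hτ0
  obtain ⟨hττ, hτ1, hτσ⟩ := (hd.cases τ hτS).resolve_left hτσ'
  have hτo : orderOf τ = 2 := orderOf_eq_prime (by rw [pow_two]; exact hττ) hτ1
  -- the odd part
  obtain ⟨L, o⟩ := hd.exists_odd2 hm
  rw [e2] at o
  cases nonempty_fintype L
  cases nonempty_fintype ↥(S : Subgroup G)
  have hL : Nat.card L = h * k := by
    have h1 := o.card
    rw [E.cent J hJ, hd.card] at h1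
    refine Nat.eq_of_mul_eq_mul_right (show 0 < 2 * 4 by norm_num) ?_
    rw [← h1]; ring
  have hLC : ∀ l : L, (l : G) * J = J * l := fun l =>
    Subgroup.mem_centralizer_singleton_iff.1 (o.le l.2)
  have hbot : ∀ x : G, x ∈ L → x ∈ (S : Subgroup G) → x = 1 := fun x hx hx' => by
    have h0 : x ∈ L ⊓ (S : Subgroup G) := ⟨hx, hx'⟩
    rwa [o.disj, Subgroup.mem_bot] at h0
  have hI0 : ∀ x ∈ Subgroup.zpowers σ, x ≠ J → Dih.invCount L x = 0 := by
    intro x hx hxJ
    rw [Dih.invCount, Nat.card_eq_zero]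
    refine .inl ⟨fun l => ?_⟩
    obtain ⟨hsq, hne⟩ := orderOf_eq_prime_iff.1 l.2
    have hxP := hd.zpowers_le hx
    have hmem : x * x ∈ L := by
      have e : x * x = (x * ((l.1 : L) : G) * x⁻¹)⁻¹ * ((l.1 : L) : G)⁻¹ *
          ((((l.1 : L) : G) * x) ^ 2) * 1 := by rw [_root_.pow_two]; group
      rw [e, hsq, mul_one, mul_one]
      have hu : x * ((l.1 : L) : G) * x⁻¹ ∈ L :=
        (Subgroup.mem_normalizer_iff.1 (o.norm (o.ple hxP)) _).1 l.1.2
      exact L.mul_mem (L.inv_mem hu) (L.inv_mem l.1.2)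
    rcases hd.rotation_involution hm hx (hbot _ hmem (mul_mem hxP hxP)) with e | e
    · subst e
      rw [mul_one] at hsq hne
      exact o.odd ((orderOf_eq_prime hsq hne) ▸ Subgroup.orderOf_dvd_natCard _ l.1.2)
    · exact hxJ (e.trans e2)
  set a' := Dih.invCount L τ with ha'
  set b' := Dih.invCount L (τ * σ) with hb'
  have hσN : σ⁻¹ ∈ Subgroup.normalizer (L : Set G) := o.norm (o.ple (inv_mem hd.mem))
  have hIref : ∀ i, Dih.invCount L (τ * σ ^ i) = if Even i then a' else b' := by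
    intro i
    induction i using Nat.twoStepInduction with
    | zero => simp [a']
    | one => simp [b']
    | more i ih _ =>
      have hts : τ * σ = σ⁻¹ * τ := mul_inv_eq_iff_eq_mul.1 hτσ
      rw [show τ * σ ^ (i + 2) = σ⁻¹ * (τ * σ ^ i) * σ⁻¹⁻¹ by
        rw [show i + 2 = 1 + i + 1 by omega, pow_succ, pow_add, pow_one, inv_inv, ← mul_assoc τ,
          ← mul_assoc τ σ, hts]
        group, Dih.invCount_conj L hσN, ih]
      simp [Nat.even_add]
  have hrot0 : ∀ d i, σ ^ d ≠ 1 →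
      Dih.invCount L (σ ^ i) * Dih.invCount L (σ ^ i * σ ^ d) = 0 := by
    intro d i hd'
    by_cases hi : σ ^ i = J
    · rw [hI0 _ (mul_mem (hd.gen_pow_mem _) (hd.gen_pow_mem _)) fun e =>
        hd' (mul_left_cancel (e.trans (by rw [hi, mul_one] : J = σ ^ i * 1))), mul_zero]
    · rw [hI0 _ (hd.gen_pow_mem _) hi, zero_mul]
  have hpairs : ∀ d, σ ^ d ≠ 1 →
      ∑ q : ↥(S : Subgroup G), (Dih.invCount L (q : G) : ℂ) * (Dih.invCount L ((q : G) * σ ^ d) : ℂ) =
      ∑ i ∈ Finset.range 4, ((if Even i then a' else b' : ℕ) : ℂ) *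
        ((if Even (i + d) then a' else b' : ℕ) : ℂ) := by
    intro d hd'
    rw [hd.sum_elements hτS hτσ (fun x => (Dih.invCount L x : ℂ) * (Dih.invCount L (x * σ ^ d) : ℂ)),
      Finset.sum_eq_zero fun i _ => by rw [← Nat.cast_mul, hrot0 d i hd', Nat.cast_zero], zero_add]
    refine Finset.sum_congr rfl fun i _ => ?_
    rw [mul_assoc, ← pow_add, hIref, hIref]
  -- the two equations
  have hidxJ : ∃ j : ℕ, (L.subgroupOf (Subgroup.centralizer ({J} : Set G))).index = 2 ^ j := by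
    refine ⟨3, ?_⟩
    have h1 := (L.subgroupOf (Subgroup.centralizer ({J} : Set G))).card_mul_index
    rw [Nat.card_congr (Subgroup.subgroupOfEquivOfLe o.le).toEquiv, o.card, hd.card] at h1
    exact Nat.eq_of_mul_eq_mul_left Nat.card_pos h1
  have hσJ : σ * J = J * σ := by rw [hJdef]; group
  have hCσ : Subgroup.centralizer ({σ} : Set G) ≤ Subgroup.centralizer ({J} : Set G) := fun x hx => by
    have h1 : Commute x σ := Subgroup.mem_centralizer_singleton_iff.1 hx
    exact Subgroup.mem_centralizer_singleton_iff.2 (hJdef ▸ (h1.mul_right h1).eq)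
  have hidxσ : ∃ j : ℕ, (L.subgroupOf (Subgroup.centralizer ({σ} : Set G))).index = 2 ^ j := by
    obtain ⟨j, hj⟩ := hidxJ
    have hdvd : L.relIndex (Subgroup.centralizer ({σ} : Set G)) ∣ 2 ^ j := by
      haveI : (L.subgroupOf (Subgroup.centralizer ({J} : Set G))).Normal :=
        ⟨fun x hx c => Subgroup.mem_subgroupOf.2
          ((Subgroup.mem_normalizer_iff.1 (o.norm c.2) _).1 (Subgroup.mem_subgroupOf.1 hx))⟩
      rw [← Subgroup.relIndex_subgroupOf hCσ, ← hj]
      exact Subgroup.relIndex_dvd_index_of_normal _ _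
    obtain ⟨i, -, hi⟩ := (Nat.dvd_prime_pow Nat.prime_two).1 hdvd
    exact ⟨i, hi⟩
  have hloc : ∀ d : ℕ, (∃ e : ℕ, σ ^ (d * e) = J) → ∀ x : G, ∀ l : L, orderOf x = 2 →
      orderOf (x * ((l : G) * (σ ^ d)⁻¹)) = 2 →
      x ∈ Subgroup.centralizer ({J} : Set G) := by
    rintro d ⟨e, he⟩ x l hx hb
    have hxi : x⁻¹ = x := inv_eq_of_mul_eq_one_left (by
      rw [← _root_.pow_two, ← hx, pow_orderOf_eq_one])
    set w := (l : G) * (σ ^ d)⁻¹ with hwdef
    have hinv : x * w * x⁻¹ = w⁻¹ := by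
      rw [eq_inv_iff_mul_eq_one, hxi]
      calc x * w * x * w = x * w * (x * w) := by group
        _ = 1 := by rw [← _root_.pow_two, ← hb, pow_orderOf_eq_one]
    set C := Subgroup.centralizer ({J} : Set G)
    have hmemC : w ∈ C := C.mul_mem (o.le l.2) (C.inv_mem (o.ple (pow_mem hd.mem d)))
    haveI hLn : (L.subgroupOf C).Normal :=
      ⟨fun y hy c => Subgroup.mem_subgroupOf.2
        ((Subgroup.mem_normalizer_iff.1 (o.norm c.2) _).1 (Subgroup.mem_subgroupOf.1 hy))⟩
    have hσdC : (σ ^ d)⁻¹ ∈ C := C.inv_mem (o.ple (pow_mem hd.mem d))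
    have hq : QuotientGroup.mk' (L.subgroupOf C) ⟨w, hmemC⟩ =
        QuotientGroup.mk' (L.subgroupOf C) ⟨(σ ^ d)⁻¹, hσdC⟩ := by
      refine QuotientGroup.eq_iff_div_mem.2 ?_
      simp [Subgroup.mem_subgroupOf, hwdef, div_eq_mul_inv]
    have hwe : ∃ l0 : L, w ^ e = (l0 : G) * J := by
      have hq' := congrArg (fun y => y ^ e) hq
      simp only [← map_pow] at hq'
      have hdd := QuotientGroup.eq_iff_div_mem.1 hq'
      simp only [Subgroup.mem_subgroupOf, div_eq_mul_inv, Subgroup.coe_mul, Subgroup.coe_inv,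
        SubmonoidClass.coe_pow, inv_pow, inv_inv, ← pow_mul, he] at hdd
      refine ⟨⟨_, hdd⟩, ?_⟩
      show w ^ e = w ^ e * J * J
      rw [mul_assoc, hJJ, mul_one]
    obtain ⟨l0, hl0⟩ := hwe
    have hpow : w ^ (e * Nat.card L) = J := by
      rw [pow_mul, hl0, (show Commute (l0 : G) J from hLC l0).mul_pow,
        show ((l0 : G)) ^ Nat.card L = 1 by
          rw [← SubmonoidClass.coe_pow, pow_card_eq_one', OneMemClass.coe_one], one_mul]
      obtain ⟨q, hq⟩ : Odd (Nat.card L) := Nat.not_even_iff_odd.1 fun hh => o.odd hh.two_dvd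
      rw [hq, pow_add, pow_mul, _root_.pow_two, hJJ, one_pow, one_mul, pow_one]
    refine Subgroup.mem_centralizer_singleton_iff.2 (mul_inv_eq_iff_eq_mul.1 ?_)
    rw [← hpow, ← conj_pow, hinv, inv_pow, hpow]
    exact inv_eq_of_mul_eq_one_left hJJ
  have hJinv : J⁻¹ = σ ^ 2 := by rw [inv_eq_of_mul_eq_one_left hJJ, pow_two]
  have hσinv : σ⁻¹ = σ ^ 3 := inv_eq_of_mul_eq_one_left (by
    rw [← pow_succ, show 3 + 1 = 4 from rfl, ← hd.order, pow_orderOf_eq_one])
  have hone : ∀ z : G, orderOf z = 2 → IsConj J z := fun z hz => E.one_class J z hJ hz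
  have eqJ := Dih.coset_equation hM o hJ hone ⟨1, by rw [hJ, pow_one]⟩
    (hJdef ▸ mul_mem hd.mem hd.mem) le_rfl hidxJ
    (by
      have h0 := hloc 2 ⟨1, by rw [mul_one, pow_two]⟩
      rwa [pow_two] at h0)
  have eqσ := Dih.coset_equation hM o hJ hone ⟨2, by rw [hd.order]; norm_num⟩ hd.mem hCσ hidxσ
    (by simpa using hloc 1 ⟨2, by rw [one_mul, pow_two]⟩)
  have s2 : ∑ i ∈ Finset.range 4, ((if Even i then a' else b' : ℕ) : ℂ) *
      ((if Even (i + 2) then a' else b' : ℕ) : ℂ) = 2 * ((a' : ℂ) ^ 2 + (b' : ℂ) ^ 2) := by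
    norm_num [Finset.sum_range_succ, Nat.even_iff]; ring
  have s3 : ∑ i ∈ Finset.range 4, ((if Even i then a' else b' : ℕ) : ℂ) *
      ((if Even (i + 3) then a' else b' : ℕ) : ℂ) = 4 * ((a' : ℂ) * b') := by
    norm_num [Finset.sum_range_succ, Nat.even_iff]; ring
  rw [hJinv, hpairs 2 (pow_ne_one_of_lt_orderOf (by norm_num) (by rw [hd.order]; norm_num)), s2] at eqJ
  rw [hσinv, hpairs 3 (pow_ne_one_of_lt_orderOf (by norm_num) (by rw [hd.order]; norm_num)), s3] at eqσ
  have hblock : ∀ F : IrrCharacter G → ℂ, ∑ᶠ ξ ∈ principalBlock M G, F ξ =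
      F (trivialIrr G) + F X.D.χ + F b + F c + F (η 0) := fun F => by
    rw [finsum_mem_block, show Finset.univ.filter (fun ξ : IrrCharacter G =>
        ξ ∈ principalBlock M G) =
          insert (trivialIrr G) (insert X.D.χ (insert b ({c, η 0} : Finset (IrrCharacter G)))) by
        rw [hset]; ext ξ; simp [Fin.exists_fin_one, eq_comm],
      Finset.sum_insert (by simp [hao.symm, hbo.symm, hco.symm, ((hη 0).2.2.2).symm]),
      Finset.sum_insert (by simp [hab, hac, ((hη 0).1).symm]),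
      Finset.sum_insert (by simp [hbc, ((hη 0).2.1).symm]),
      Finset.sum_pair ((hη 0).2.2.1).symm]
    ring
  have t1 : ∀ g, ((trivialIrr G : IrrCharacter G) : G → ℂ) g = 1 := fun _ => rfl
  push_cast at vb1 vb2 vc1 vc2
  rw [hblock] at eqJ eqσ
  simp only [t1, va1, va2, vb1, vb2, vc1, vc2, ve1, ve2, ha0, hb0, hc0, he0, hL, E.cent J hJ,
    E.card_G] at eqJ eqσ
  have hsum : (p : ℂ) * (8 * (h : ℂ) + 1) * (1 + 1 / (8 * (h : ℂ) + 1) - 2 / (p : ℂ)) =
      32 * (h : ℂ) ^ 2 := by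
    have h0 : (8 * (h : ℂ) + 1) ≠ 0 := by exact_mod_cast (show 8 * h + 1 ≠ 0 by omega)
    field_simp
    rw [E.p_eq]; push_cast; ring
  have h0 : (8 * (h : ℂ) + 1) ≠ 0 := by exact_mod_cast (show 8 * h + 1 ≠ 0 by omega)
  push_cast at eqJ eqσ
  have hJ2 : a' ^ 2 + b' ^ 2 = 2 * h ^ 2 * k := by
    apply Nat.cast_injective (R := ℂ)
    push_cast
    refine mul_left_cancel₀ (show (128 * (h : ℂ) ^ 2 * (k : ℂ) ^ 2) ≠ 0 by
      exact_mod_cast (show 128 * h ^ 2 * k ^ 2 ≠ 0 by positivity)) ?_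
    linear_combination -eqJ + (8 * (h : ℂ) ^ 2 * (k : ℂ) ^ 3) * hsum
  have hJσ : a' * b' = h ^ 2 * k := by
    apply Nat.cast_injective (R := ℂ)
    push_cast
    refine mul_left_cancel₀ (show (256 * (h : ℂ) ^ 2 * (k : ℂ) ^ 2) ≠ 0 by
      exact_mod_cast (show 256 * h ^ 2 * k ^ 2 ≠ 0 by positivity)) ?_
    linear_combination -eqσ + (8 * (h : ℂ) ^ 2 * (k : ℂ) ^ 3) * hsum
  have hab' : a' = b' := by
    have h1 : ((a' : ℤ) - b') ^ 2 = 0 := by
      have e1 : (a' : ℤ) ^ 2 + (b' : ℤ) ^ 2 = 2 * (h : ℤ) ^ 2 * k := by exact_mod_cast hJ2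
      have e2 : (a' : ℤ) * b' = (h : ℤ) ^ 2 * k := by exact_mod_cast hJσ
      linear_combination e1 - 2 * e2
    have := pow_eq_zero_iff (n := 2) two_ne_zero |>.1 h1
    omega
  rw [← hab', ← pow_two] at hJσ
  obtain ⟨A, hA⟩ : h ∣ a' := (Nat.pow_dvd_pow_iff two_ne_zero).1 ⟨k, hJσ⟩
  have hkA : k = A ^ 2 := by
    refine Nat.eq_of_mul_eq_mul_left (show 0 < h ^ 2 by positivity) ?_
    rw [← hJσ, hA]; ring
  have hinter := Dih.invCount_mul L hττ (fun hh' => hτ1 (hbot τ hh' hτS))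
    (o.norm (o.ple hτS)) o.odd
  refine ⟨τ, L, A, E, hσS₀, hτ0, hτo, hτσ, o, hL, hkA, ?_⟩
  rw [← ha', hA, hL, hkA, pow_two] at hinter
  refine Nat.eq_of_mul_eq_mul_left (show 0 < h * A from Nat.mul_pos hh ?_) ?_
  · exact Nat.pos_of_ne_zero fun e => by rw [hkA, e] at hk; simp at hk
  · rw [hinter]; ring

end Cfsg.Agent.Block.ThreeP
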