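import Mathlib
import Cfsg.Agent.Lib.Block.ThreeP.Eight

/-!
The case `π = 1 + χ` with `χ` equal to two at the involutions: no group.
-/

set_option autoImplicit false
set_option linter.unusedSectionVars false
set_option linter.style.haveILetI false

namespace Cfsg.Agent.Block.ThreeP

open scoped ComplexConjugate
open Cfsg Cfsg.Agent.Block Cfsg.Agent.Block.PermChar Cfsg.Agent.Char

universe u v

variable {G : Type u} [Group G] [Fintype G] {Ω : Type v} [Fintype Ω] [MulAction G Ω] {p : ℕ}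
  [Fact p.Prime] (H : Hyps G Ω p)

theorem card_dvd_factorial [FaithfulSMul G Ω] : Nat.card G ∣ (Fintype.card Ω).factorial := by
  have h := Subgroup.card_dvd_of_injective (MulAction.toPermHom G Ω) MulAction.toPerm_injective
  rwa [Nat.card_perm, Nat.card_eq_fintype_card (α := Ω)] at h

/-- No group of order `3640 κ²` on fifteen points with involutions fixing three. -/
theorem no_thirteen [FaithfulSMul G Ω] (hΩ : Fintype.card Ω = 15)
    (h3 : ∀ w : G, orderOf w = 2 → nfix Ω w = 3) {κ : ℕ} (hG : Nat.card G = 3640 * κ ^ 2)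
    (hκ : κ = 3 ∨ κ = 27) : False := by
  classical
  haveI : Fact (Nat.Prime 13) := ⟨by norm_num⟩
  obtain ⟨u, hu⟩ := exists_prime_orderOf_dvd_card' (G := G) 13
    (hG ▸ dvd_mul_of_dvd_left (by norm_num) _)
  have horb : ∀ a : Ω, u • a ≠ a → (MulAction.orbit (Subgroup.zpowers u) a).ncard = 13 := by
    intro a ha
    rw [← MulAction.index_stabilizer]
    have h := Subgroup.index_dvd_card (MulAction.stabilizer (Subgroup.zpowers u) a)
    rw [Nat.card_zpowers, hu] at h
    refine ((Nat.dvd_prime (by norm_num)).1 h).resolve_left fun e => ha ?_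
    have : (⟨u, Subgroup.mem_zpowers u⟩ : Subgroup.zpowers u) ∈
        MulAction.stabilizer (Subgroup.zpowers u) a := Subgroup.index_eq_one.1 e ▸ Subgroup.mem_top _
    exact this
  obtain ⟨a, ha⟩ : ∃ a : Ω, u • a ≠ a := by
    by_contra hno
    push Not at hno
    have : u = 1 := FaithfulSMul.eq_of_smul_eq_smul (α := Ω) fun a => by rw [one_smul, hno]
    rw [this, orderOf_one] at hu
    omega
  set O := (MulAction.orbit (Subgroup.zpowers u) a).toFinset with hO
  have hOc : O.card = 13 := by rw [hO, ← Set.ncard_eq_toFinset_card', horb a ha]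
  have hmem : ∀ b : Ω, u • b ≠ b → b ∈ MulAction.orbit (Subgroup.zpowers u) a := by
    intro b hb
    by_contra hnb
    have hd : Disjoint (MulAction.orbit (Subgroup.zpowers u) a) (MulAction.orbit (Subgroup.zpowers u) b) := by
      rw [Set.disjoint_left]
      intro c hc hc'
      exact hnb (by
        rw [← MulAction.orbit_eq_iff.2 hc, MulAction.orbit_eq_iff.2 hc']
        exact MulAction.mem_orbit_self b)
    have h := Set.ncard_le_ncard (Set.subset_univ
      (MulAction.orbit (Subgroup.zpowers u) a ∪ MulAction.orbit (Subgroup.zpowers u) b))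
    rw [Set.ncard_union_eq hd, horb a ha, horb b hb, Set.ncard_univ, Nat.card_eq_fintype_card (α := Ω),
      hΩ] at h
    omega
  have hfixu : (Finset.univ \ O).card = 2 := by
    rw [Finset.card_sdiff_of_subset (Finset.subset_univ _), Finset.card_univ, hΩ, hOc]
  have hcent : Subgroup.centralizer ({u} : Set G) = Subgroup.zpowers u := by
    refine le_antisymm (fun g hg => ?_) (Subgroup.zpowers_le.2 (Subgroup.mem_centralizer_singleton_iff.2 rfl))
    have hgu : Commute g u := Subgroup.mem_centralizer_singleton_iff.1 hg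
    obtain ⟨⟨_, i, rfl⟩, hi⟩ := hmem (g • a) (fun e => ha (smul_left_cancel g (by
      rw [← mul_smul, hgu.eq, mul_smul, e])))
    have hi' : u ^ i • a = g • a := hi
    set h := (u ^ i)⁻¹ * g with hh
    have hha : h • a = a := by rw [hh, mul_smul, ← hi', inv_smul_smul]
    have hhu : Commute h u := (((Commute.refl u).zpow_left i).inv_left).mul_left hgu
    have hhO : ∀ b ∈ O, h • b = b := by
      intro b hb
      obtain ⟨⟨_, l, rfl⟩, rfl⟩ := Set.mem_toFinset.1 hb
      show h • u ^ l • a = u ^ l • a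
      rw [← mul_smul, (hhu.zpow_right l).eq, mul_smul, hha]
    have hh2 : h * h = 1 := by
      refine FaithfulSMul.eq_of_smul_eq_smul (α := Ω) fun b => ?_
      rw [one_smul, mul_smul]
      by_cases hb : b ∈ O
      · rw [hhO b hb, hhO b hb]
      by_contra hne
      have hbR : ∀ c : Ω, c ∉ O → h • c ∉ O := fun c hc hcO =>
        hc (smul_left_cancel h (hhO _ hcO) ▸ hcO)
      have h1 : h • b ≠ b := fun e => hne (by rw [e, e])
      have h2 : h • h • b ≠ h • b := fun e => h1 (smul_left_cancel h e)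
      have hsub : ({b, h • b, h • h • b} : Finset Ω) ⊆ Finset.univ \ O := by
        simp only [Finset.insert_subset_iff, Finset.singleton_subset_iff, Finset.mem_sdiff,
          Finset.mem_univ, true_and]
        exact ⟨hb, hbR _ hb, hbR _ (hbR _ hb)⟩
      have hc := Finset.card_le_card hsub
      rw [Finset.card_insert_of_notMem (by simp [Ne.symm h1, Ne.symm hne]),
        Finset.card_pair (Ne.symm h2), hfixu] at hc
      omega
    have hh1 : h = 1 := by
      by_contra hne
      have h2 := h3 h (orderOf_eq_prime (by rw [pow_two, hh2]) hne)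
      rw [← card_fixSet] at h2
      have := Finset.card_le_card (show O ⊆ fixSet Ω h from fun b hb => mem_fixSet.2 (hhO b hb))
      omega
    rw [show g = u ^ i from (inv_mul_eq_one.1 hh1).symm]
    exact Subgroup.zpow_mem_zpowers u i
  have hx : SCP.Hyp 13 u := ⟨hu, hcent⟩
  have hN := SCP.card_N hx
  have he := SCP.e_dvd hx
  obtain ⟨Q, hQ⟩ := SCP.exists_sylow hx
  have h1 := card_sylow_modEq_one 13 G
  have h2 : Nat.card (Sylow 13 G) = (SCP.N u).index := by
    rw [Sylow.card_eq_index_normalizer Q]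
    show (Subgroup.normalizer ((Q : Subgroup G) : Set G)).index = _
    rw [hQ]
  rw [h2, Nat.ModEq] at h1
  have hprod := (SCP.N u).card_mul_index
  rw [hN, hG] at hprod
  have hprod' : SCP.e u * (SCP.N u).index = 280 * κ ^ 2 := by
    refine Nat.eq_of_mul_eq_mul_left (by norm_num : 0 < 13) ?_
    rw [← mul_assoc, hprod]
    ring
  have he12 : SCP.e u ∣ 12 := he
  have hle := Nat.le_of_dvd (by norm_num) he12
  have h3' : (SCP.N u).index = 13 * ((SCP.N u).index / 13) + 1 := by omega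
  rw [h3', mul_add, ← mul_assoc] at hprod'
  rcases hκ with rfl | rfl <;> interval_cases SCP.e u <;> omega

include H in
set_option maxHeartbeats 1000000 in
/-- No group has `π = 1 + χ` with `χ (z) = 2`. -/
theorem no_plus [DecidableEq Ω] [IsSimpleGroup G] [FaithfulSMul G Ω] (D : Neg G p)
    (hf : D.f + 1 = 3 * p) (hm1 : mult G Ω (D.χ : G → ℂ) = 1)
    (hall : ∀ η : IrrCharacter G, η ≠ one₀ G → η ≠ D.χ → mult G Ω (η : G → ℂ) = 0)
    {v : ℤ} {c : ℕ} (hex : ∃ z : G, orderOf z = 2)
    (hone : ∀ z w : G, orderOf z = 2 → orderOf w = 2 → IsConj z w)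
    (hzv : ∀ z : G, orderOf z = 2 → (D.χ : G → ℂ) z = v ∧
      Nat.card (Subgroup.centralizer ({z} : Set G)) = c)
    (heq : (p : ℤ) * (c : ℤ) ^ 2 * ((D.f : ℤ) * ((D.f : ℤ) - 1)) =
      (Nat.card G : ℤ) * ((D.f : ℤ) - v) ^ 2)
    (h4v : (4 : ℤ) ∣ (D.f : ℤ) - v) (h2c : c.factorization 2 = (Nat.card G).factorization 2)
    (hv : v = 2) : False := by
  classical
  haveI : Fact (Nat.Prime 2) := ⟨Nat.prime_two⟩
  have hp : p.Prime := Fact.out
  have hp3 := H.hp3
  haveI := H.trans
  haveI := H.nonempty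
  subst hv
  have hpi := H.pi_two (Ne.symm D.triv_ne) hm1 hall
  have h3 : ∀ w : G, orderOf w = 2 → nfix Ω w = 3 := fun w hw => by
    apply Nat.cast_injective (R := ℂ)
    rw [hpi w, (hzv w hw).1]
    norm_num
  obtain ⟨z₀, hz₀⟩ := hex
  have hc0 : 0 < c := (hzv z₀ hz₀).2 ▸ Nat.card_pos
  have hG0 : 0 < Nat.card G := Nat.card_pos
  have hp4 : p % 4 = 1 := by
    obtain ⟨r, hr⟩ := h4v
    omega
  obtain ⟨e, w, hwodd, hpw⟩ := Nat.exists_eq_two_pow_mul_odd (show p - 1 ≠ 0 by omega)
  have he2 : 2 ≤ e := by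
    by_contra hlt
    obtain ⟨i, hi⟩ := hwodd
    interval_cases e <;> omega
  -- the order of the Sylow subgroup
  have heqN : p * c ^ 2 * (D.f * (D.f - 1)) = Nat.card G * (3 * (p - 1)) ^ 2 := by
    have hf2 := D.two_le
    have h1 : (D.f : ℤ) - 1 = ((D.f - 1 : ℕ) : ℤ) := by omega
    have h2 : (D.f : ℤ) - 2 = ((3 * (p - 1) : ℕ) : ℤ) := by omega
    rw [h1, h2] at heq
    exact_mod_cast heq
  have hfac : ∀ r : ℕ, Odd r → r.factorization 2 = 0 := fun r hr =>
    Nat.factorization_eq_zero_of_not_dvd fun h => Nat.not_even_iff_odd.2 hr (even_iff_two_dvd.2 h)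
  set s := (Nat.card G).factorization 2 with hs
  have hs1 : s + 1 = 2 * e := by
    have hfd : D.f = 2 * ((3 * p - 1) / 2) := by omega
    have hodd2 : Odd ((3 * p - 1) / 2) := ⟨(3 * p - 3) / 4, by omega⟩
    have hf1 : Odd (D.f - 1) := ⟨(D.f - 2) / 2, by omega⟩
    have hpo : Odd p := hp.odd_of_ne_two (by omega)
    have h := congrArg (fun n : ℕ => n.factorization 2) heqN
    rw [hpw, Nat.factorization_mul (mul_ne_zero hp.ne_zero (pow_ne_zero _ hc0.ne'))
        (mul_ne_zero (by omega) hf1.pos.ne'),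
      Nat.factorization_mul hp.ne_zero (pow_ne_zero _ hc0.ne'),
      Nat.factorization_mul (a := D.f) (by omega) hf1.pos.ne', hfd,
      Nat.factorization_mul two_ne_zero hodd2.pos.ne',
      Nat.factorization_mul hG0.ne' (pow_ne_zero _ (mul_ne_zero (by norm_num)
        (mul_ne_zero (by positivity) hwodd.pos.ne')))] at h
    simp only [Finsupp.add_apply, Nat.factorization_pow, Finsupp.smul_apply, smul_eq_mul,
      Nat.factorization_mul (show (3 : ℕ) ≠ 0 by norm_num)
        (mul_ne_zero (pow_ne_zero e two_ne_zero) hwodd.pos.ne'),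
      Nat.factorization_mul (pow_ne_zero e two_ne_zero) hwodd.pos.ne',
      Nat.Prime.factorization_self Nat.prime_two, hfac _ hpo, hfac _ hwodd, hfac _ hodd2,
      hfac 3 ⟨1, by norm_num⟩, h2c, ← hs] at h
    rw [← hfd, hfac _ hf1] at h
    omega
  let S : Sylow 2 G := default
  have hScard : Nat.card (S : Subgroup G) = 2 ^ s := by rw [S.card_eq_multiplicity]
  have hSbot : (S : Subgroup G) ≠ ⊥ := fun e' => by
    rw [e', Subgroup.card_bot] at hScard
    have := Nat.pow_le_pow_right (show 0 < 2 by norm_num) (show 1 ≤ s by omega)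
    omega
  obtain ⟨z, hzS, hz, hzc⟩ := exists_central_inv S.isPGroup' hSbot
  obtain ⟨α, hα⟩ := H.exists_fix S.isPGroup'
  obtain ⟨S₀, hS₀, hzS₀, hidx, hker, hfix0, hsemi⟩ := exists_kernel h3 S.isPGroup' hzS hz hzc hα
  have hd0 : Nat.card S₀ ∣ 3 * p - 3 := by
    have h := free_dvd (T := S₀) (X := Finset.univ \ fixSet Ω z)
      (fun t ht a ha => Finset.mem_sdiff.2 ⟨Finset.mem_univ _, fun hta => (Finset.mem_sdiff.1 ha).2 (by
        have hfx := (hker t (hS₀ ht)).1 ht _ hta
        rwa [smul_left_cancel t hfx] at hta)⟩)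
      (fun t ht a ha e' => by
        by_contra ht1
        exact (Finset.mem_sdiff.1 ha).2 (hsemi t ht ht1 a e'))
    rwa [Finset.card_sdiff_of_subset (Finset.subset_univ _), Finset.card_univ, H.card,
      card_fix_inv h3 hz] at h
  obtain ⟨i, hi⟩ := IsPGroup.iff_card.1 (S.isPGroup'.to_le hS₀)
  have hie : i ≤ e := by
    have h1 : 2 ^ i ∣ 2 ^ e * (3 * w) := by
      rw [← hi]
      convert hd0 using 1
      rw [mul_left_comm, ← hpw]
      omega
    exact (Nat.pow_dvd_pow_iff_le_right (by norm_num)).1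
      ((Nat.Coprime.pow_left i ((Nat.coprime_two_left).2
        ((show Odd (3 : ℕ) from ⟨1, by norm_num⟩).mul hwodd))).dvd_of_dvd_mul_right h1)
  have hsi : s ≤ i + 1 := by
    rw [hScard, hi, ← pow_succ'] at hidx
    exact (Nat.pow_le_pow_iff_right (by norm_num)).1 hidx
  obtain ⟨rfl, rfl, hs3⟩ : e = 2 ∧ i = 2 ∧ s = 3 := by omega
  rw [hs3] at hScard h2c
  replace hs : (Nat.card G).factorization 2 = 3 := hs.symm.trans hs3
  -- an element of order four
  obtain ⟨q, hqS, hq⟩ := not_elementary h3 S hScard hz hS₀ hzS₀ hi hfix0 hker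
    (fun w hw => hone z w hz hw)
  have h4 : ∃ g : G, 4 ∣ orderOf g := by
    obtain ⟨l, hl⟩ := IsPGroup.iff_orderOf.1 S.isPGroup' ⟨q, hqS⟩
    rw [Subgroup.orderOf_mk] at hl
    refine ⟨q, ?_⟩
    by_contra h4'
    have hl1 : l ≤ 1 := by
      by_contra hgt
      exact h4' (hl ▸ (show (4 : ℕ) = 2 ^ 2 by norm_num) ▸ pow_dvd_pow 2 (by omega))
    refine hq ?_
    rw [← pow_two]
    exact orderOf_dvd_iff_pow_eq_one.1 (hl ▸ (pow_dvd_pow 2 hl1).trans (dvd_of_eq (pow_one 2)))
  obtain ⟨m, hGm, hm⟩ : ∃ m, Nat.card G = 2 ^ 3 * m ∧ Odd m := by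
    refine ⟨Nat.card G / 2 ^ 3, (Nat.mul_div_cancel' ?_).symm, ?_⟩
    · rw [← hScard]; exact Subgroup.card_subgroup_dvd_card _
    · rw [← Nat.not_even_iff_odd, even_iff_two_dvd, show (3 : ℕ) = (Nat.card G).factorization 2 from hs.symm]
      exact Nat.not_dvd_ordCompl Nat.prime_two hG0.ne'
  set C := Subgroup.centralizer ({z} : Set G) with hC
  have hCc : Nat.card C = c := (hzv z hz).2
  obtain ⟨c', hc', hc'o⟩ : ∃ c', c = 2 ^ 3 * c' ∧ Odd c' := by
    refine ⟨c / 2 ^ 3, (Nat.mul_div_cancel' ?_).symm, ?_⟩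
    · rw [← h2c]; exact Nat.ordProj_dvd c 2
    · rw [← Nat.not_even_iff_odd, even_iff_two_dvd, ← h2c]
      exact Nat.not_dvd_ordCompl Nat.prime_two hc0.ne'
  obtain ⟨μ, hμ⟩ := dvd_nodd hGm hm
  obtain ⟨μz, hμz⟩ := dvd_nodd (G := C) (hCc.trans hc') hc'o
  obtain ⟨N, hN⟩ : c ∣ Nat.card G := hCc ▸ Subgroup.card_subgroup_dvd_card _
  have hNc' : N * c' = m := by
    refine Nat.eq_of_mul_eq_mul_left (show 0 < 2 ^ 3 by norm_num) ?_
    rw [← hGm, hN, hc']; ring
  have hN' : N * Nat.card C = Nat.card G := by rw [hCc, hN, mul_comm]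
  obtain ⟨-, hsing⟩ := sing_count_one_class hz (fun w hw => hone z w hz hw) hN'
  have hsing := hsing h4
  rw [← hC, hμ, hμz, ← mul_assoc, hNc', hGm, ← mul_add, mul_comm (2 ^ 3)] at hsing
  have hμ6 : μ + μz < 8 := Nat.lt_of_mul_lt_mul_left hsing
  have hμz0 : 0 < μz := Nat.pos_of_ne_zero fun e' => by
    have := nodd_pos (G := C)
    rw [hμz, e', mul_zero] at this
    omega
  set E := Finset.univ.filter fun g : G => 2 ∣ orderOf g with hE
  have hEn : E.card + nodd G = Nat.card G := by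
    have h1 : Finset.univ.filter (fun g : G => ¬ 2 ∣ orderOf g) =
        Finset.univ.filter fun g : G => Odd (orderOf g) :=
      Finset.filter_congr fun g _ => by rw [← even_iff_two_dvd, Nat.not_even_iff_odd]
    rw [hE, nodd, Nat.card_eq_fintype_card, Nat.card_eq_fintype_card, Fintype.card_subtype, ← h1,
      Finset.card_filter_add_card_filter_not, Finset.card_univ]
  have hF : ∀ g ∈ E, nfix Ω g ≠ 2 := by
    intro g hg h2
    obtain ⟨n, hn⟩ := exists_inv_pow (Finset.mem_filter.1 hg).2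
    rw [← card_fixSet] at h2
    obtain ⟨a, b, hab, he'⟩ := Finset.card_eq_two.1 h2
    have hsub : fixSet Ω g ⊆ fixSet Ω (g ^ n) := fun x hx =>
      mem_fixSet.2 (fix_pow (mem_fixSet.1 hx) n)
    have ha : a ∈ fixSet Ω g := by rw [he']; simp
    have hb : b ∈ fixSet Ω g := by rw [he']; simp
    have hall3 := third_fixed (card_fix_inv h3 hn) (g := g) (fun x hx => mem_fixSet.2 (by
      rw [← mul_smul, (Commute.self_pow g n).eq.symm, mul_smul, mem_fixSet.1 hx]))
      (hsub ha) (hsub hb) hab (mem_fixSet.1 ha) (mem_fixSet.1 hb)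
    have := Finset.card_le_card (show fixSet Ω (g ^ n) ⊆ fixSet Ω g from
      fun x hx => mem_fixSet.2 (hall3 x hx))
    rw [card_fix_inv h3 hn, h2] at this
    omega
  have hb : (D.Y.card : ℤ) * (E.card : ℤ) ≤ (Nat.card G : ℤ) := by
    refine le_trans (mul_le_mul_of_nonneg_left ?_ (Int.natCast_nonneg _))
      (norm_bound D.Y E (fun g => (nfix Ω g : ℤ) - 2) (fun _ => 1) (fun _ _ => Or.inl rfl) ?_)
    · calc (E.card : ℤ) = ∑ _g ∈ E, (1 : ℤ) := by simp
        _ ≤ _ := Finset.sum_le_sum fun g hg => by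
          have hne : (nfix Ω g : ℤ) - 2 ≠ 0 := fun h => hF g hg (by omega)
          have := pow_two_pos_of_ne_zero hne
          omega
    · intro θ hθ g hg
      rw [D.vY θ hθ g (H.even_reg (Finset.mem_filter.1 hg).2)]
      push_cast
      linear_combination -hpi g
  have hb' : D.Y.card * E.card ≤ Nat.card G := by exact_mod_cast hb
  rw [hGm, mul_comm (2 ^ 3) m] at hb' hEn
  rw [hμ] at hEn
  have ht : D.Y.card ≤ 4 := by
    have hge : 2 ≤ 8 - μ := by omega
    have hE2 : m * 2 ≤ E.card := by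
      have h1 : m * μ + m * 2 ≤ m * 2 ^ 3 := by
        rw [← mul_add]; exact Nat.mul_le_mul_left _ (by omega)
      omega
    have h2 : D.Y.card * (m * 2) ≤ m * 2 ^ 3 := le_trans (Nat.mul_le_mul_left _ hE2) hb'
    refine Nat.le_of_mul_le_mul_left (show m * 2 * D.Y.card ≤ m * 2 * 4 from ?_)
      (Nat.mul_pos hm.pos two_pos)
    calc m * 2 * D.Y.card = D.Y.card * (m * 2) := mul_comm _ _
      _ ≤ m * 2 ^ 3 := h2
      _ = m * 2 * 4 := by ring
  obtain rfl : p = 5 := by
    have := D.hY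
    have h9 : p ≠ 9 := fun e' => by subst e'; exact absurd hp (by norm_num)
    omega
  -- `p = 5`
  have hf14 : D.f = 14 := by omega
  rw [hf14] at heqN
  norm_num at heqN
  rw [← Nat.card_eq_fintype_card] at heqN
  have h72 : 72 * Nat.card G = 455 * c ^ 2 := by linarith
  rw [hc'] at h72
  obtain ⟨κ, rfl⟩ : 3 ∣ c' := by
    have h9 : 3 ∣ 455 * 64 * (c' * c') := ⟨24 * Nat.card G, by rw [show 3 * (24 * Nat.card G) = 72 * Nat.card G by ring, h72]; ring⟩
    have h3 := ((show Nat.Coprime 3 (455 * 64) by norm_num).dvd_of_dvd_mul_left h9)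
    exact (Nat.prime_three.dvd_mul.1 h3).elim id id
  have hG : Nat.card G = 3640 * κ ^ 2 := by
    have h1 : 72 * Nat.card G = 72 * (3640 * κ ^ 2) := by rw [h72]; ring
    omega
  have hκo : Odd κ := (Nat.odd_mul.1 hc'o).2
  have h3κ : 3 ∣ κ := by
    obtain ⟨a⟩ := H.nonempty
    have h := H.stab_card a
    rw [hG] at h
    have h1 : 3 ∣ 3640 * (κ * κ) := ⟨Nat.card (MulAction.stabilizer G a) * 5, by
      rw [← pow_two, ← h]; ring⟩
    exact (Nat.prime_three.dvd_mul.1 ((show Nat.Coprime 3 3640 by norm_num).dvd_of_dvd_mul_left h1)).elim id id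
  have h5κ : ¬ 5 ∣ κ := by
    rintro ⟨r, rfl⟩
    exact H.not_sq ⟨3640 * r ^ 2, by rw [hG]; ring⟩
  have hdiv : κ ^ 2 ∣ 56133 := by
    have h := card_dvd_factorial (G := G) (Ω := Ω)
    rw [H.card, hG, show Nat.factorial (3 * 5) = 3640 * (56133 * 6400) by decide] at h
    have h1 := Nat.dvd_of_mul_dvd_mul_left (by norm_num : 0 < 3640) h
    refine (Nat.Coprime.pow_left 2 ?_).dvd_of_dvd_mul_right h1
    rw [show (6400 : ℕ) = 2 ^ 8 * 5 ^ 2 by norm_num]
    exact Nat.Coprime.mul_right (Nat.Coprime.pow_right _ ((Nat.coprime_two_right).2 hκo))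
      (Nat.Coprime.pow_right _ (((Nat.prime_five).coprime_iff_not_dvd).2 h5κ).symm)
  have hmem : κ = 1 ∨ κ = 3 ∨ κ = 9 ∨ κ = 27 := by
    have hkey : ∀ d < 237, d * d ∣ 56133 → d = 1 ∨ d = 3 ∨ d = 9 ∨ d = 27 := by decide +kernel
    refine hkey κ ?_ (pow_two κ ▸ hdiv)
    by_contra hge
    have h1 := Nat.le_of_dvd (by norm_num) hdiv
    have h2 : 237 * 237 ≤ κ * κ := Nat.mul_le_mul (not_lt.1 hge) (not_lt.1 hge)
    rw [pow_two] at h1
    omega
  obtain ⟨n, hn⟩ := H.congr_p
  rw [hG] at hn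
  have hκ : κ = 3 ∨ κ = 27 := by
    have key : ∀ a b : ℕ, (a = 1 ∨ a = 9) → 3640 * (a * a) ≠ 10 * (5 * b + 1) := by
      rintro a b (rfl | rfl) <;> omega
    rcases hmem with h' | h' | h' | h'
    · exact absurd (by rw [← pow_two, hn]) (key κ n (Or.inl h'))
    · exact Or.inl h'
    · exact absurd (by rw [← pow_two, hn]) (key κ n (Or.inr h'))
    · exact Or.inr h'
  have h15 : Fintype.card Ω = 15 := H.card
  exact no_thirteen h15 h3 hG hκ

end Cfsg.Agent.Block.ThreeP
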