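import Mathlib
import Cfsg.Agent.Lib.Block.Dihedral.Order

/-!
A four group acting on a group of odd order: the order formula by counting involutions in cosets.
-/

set_option autoImplicit false
set_option linter.unusedSectionVars false
set_option linter.style.haveILetI false

namespace Cfsg.Agent.Block.ThreeP

universe u

variable {G : Type u} [Group G] [Fintype G] [DecidableEq G]

/-- The involutions of a coset of a group of odd order. -/
theorem coset_inv_count (N : Subgroup G) [DecidablePred (· ∈ N)] (hodd : Odd (Nat.card N)) {a : G}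
    (ha : a * a = 1) (haN : a ∉ N) (hn : a ∈ Subgroup.normalizer (N : Set G)) :
    (Finset.univ.filter fun g : G => g * g = 1 ∧ g * a ∈ N).card *
      Nat.card ↥(N ⊓ Subgroup.centralizer ({a} : Set G)) = Nat.card N := by
  refine Eq.trans ?_ (Dih.invCount_mul N ha haN hn
    fun h => Nat.not_even_iff_odd.2 hodd (even_iff_two_dvd.2 h))
  congr 1
  rw [Dih.invCount, ← Nat.card_eq_finsetCard]
  refine Nat.card_congr
    { toFun := fun g => ⟨⟨g.1 * a, (Finset.mem_filter.1 g.2).2.2⟩, ?_⟩
      invFun := fun l => ⟨((l.1 : N) : G) * a, Finset.mem_filter.2 ⟨Finset.mem_univ _, ?_, ?_⟩⟩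
      left_inv := fun g => Subtype.ext (by show g.1 * a * a = g.1; rw [mul_assoc, ha, mul_one])
      right_inv := fun l => Subtype.ext (Subtype.ext (by
        show ((l.1 : N) : G) * a * a = _; rw [mul_assoc, ha, mul_one])) }
  · show orderOf (g.1 * a * a) = 2
    rw [mul_assoc, ha, mul_one]
    obtain ⟨h1, h2⟩ := (Finset.mem_filter.1 g.2).2
    refine orderOf_eq_prime (by rw [pow_two]; exact h1) fun e => haN ?_
    rwa [e, one_mul] at h2
  · have := pow_orderOf_eq_one (((l.1 : N) : G) * a)
    rwa [l.2, pow_two] at this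
  · rw [mul_assoc, ha, mul_one]; exact (l.1).2

/-- The order formula for a four group acting on a group of odd order. -/
theorem four_count (N : Subgroup G) (hodd : Odd (Nat.card N)) {a b : G} (ha : orderOf a = 2)
    (hb : orderOf b = 2) (hab : a * b = b * a) (hne : a ≠ b)
    (han : a ∈ Subgroup.normalizer (N : Set G)) (hbn : b ∈ Subgroup.normalizer (N : Set G)) :
    Nat.card N * Nat.card ↥(N ⊓ Subgroup.centralizer ({a} : Set G) ⊓
        Subgroup.centralizer ({b} : Set G)) ^ 2 =
      Nat.card ↥(N ⊓ Subgroup.centralizer ({a} : Set G)) *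
        Nat.card ↥(N ⊓ Subgroup.centralizer ({b} : Set G)) *
        Nat.card ↥(N ⊓ Subgroup.centralizer ({a * b} : Set G)) := by
  classical
  have haa : a * a = 1 := by rw [← pow_two, ← ha, pow_orderOf_eq_one]
  have hbb : b * b = 1 := by rw [← pow_two, ← hb, pow_orderOf_eq_one]
  set c := a * b with hc
  have hcc : c * c = 1 := by
    calc a * b * (a * b) = a * (b * a) * b := by group
      _ = a * a * (b * b) := by rw [← hab, hc]; group
      _ = 1 := by rw [haa, hbb, one_mul]
  have hcn : c ∈ Subgroup.normalizer (N : Set G) := mul_mem han hbn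
  have hconj : ∀ x ∈ Subgroup.normalizer (N : Set G), ∀ m ∈ N, x * m * x⁻¹ ∈ N := fun x hx m hm =>
    (Subgroup.mem_normalizer_iff.1 hx m).1 hm
  obtain ⟨q, hq⟩ := hodd
  have hpowN : ∀ m ∈ N, m ^ Nat.card N = 1 := fun m hm =>
    orderOf_dvd_iff_pow_eq_one.1 (Subgroup.orderOf_dvd_natCard N hm)
  have hno2 : ∀ x : G, x * x = 1 → x ∈ N → x = 1 := by
    intro x hx hxN
    have h1 := hpowN x hxN
    rwa [hq, pow_succ, pow_mul, pow_two, hx, one_pow, one_mul] at h1
  have hne1 : ∀ x : G, orderOf x = 2 → x ∉ N := fun x hx hxN => by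
    rw [hno2 x (by rw [← pow_two, ← hx, pow_orderOf_eq_one]) hxN, orderOf_one] at hx
    omega
  have hcN : c ∉ N := fun h => hne (by
    have := hno2 c hcc h
    rw [hc, mul_eq_one_iff_eq_inv] at this
    rw [this]; exact inv_eq_of_mul_eq_one_left hbb)
  let I : G → Finset G := fun x => Finset.univ.filter fun g => g * g = 1 ∧ g * x ∈ N
  let J : G → G → Finset G := fun x z => (I x).filter fun g => g * z = z * g
  -- the involution of a product
  let Φ : G × G → G := fun w => (w.1 * w.2) ^ Nat.card N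
  have hprod : ∀ x ∈ I a, ∀ y ∈ I b, x * y * c ∈ N := by
    intro x hx y hy
    obtain ⟨-, -, hxa⟩ := Finset.mem_filter.1 hx
    obtain ⟨-, -, hyb⟩ := Finset.mem_filter.1 hy
    have e : x * y * c = (x * a) * (a * (y * b) * a⁻¹) := by
      calc x * y * c = x * (a * a) * y * (b * a) := by rw [haa, hab]; group
        _ = (x * a) * (a * (y * b) * a) := by group
        _ = _ := by rw [inv_eq_of_mul_eq_one_left haa]
    rw [e]
    exact mul_mem hxa (hconj a han _ hyb)
  have hΦ : ∀ x ∈ I a, ∀ y ∈ I b, Φ (x, y) ∈ I c ∧ x * Φ (x, y) = Φ (x, y) * x ∧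
      y * Φ (x, y) = Φ (x, y) * y := by
    intro x hx y hy
    obtain ⟨-, hxx, hxa⟩ := Finset.mem_filter.1 hx
    obtain ⟨-, hyy, hyb⟩ := Finset.mem_filter.1 hy
    set l := x * y * c with hl
    have hlN : l ∈ N := hprod x hx y hy
    have hxy : x * y = l * c := by rw [hl, mul_assoc (x * y), hcc, mul_one]
    have hsq : (x * y) ^ 2 ∈ N := by
      rw [pow_two, hxy, show l * c * (l * c) = l * (c * l * c⁻¹) * (c * c) by group, hcc, mul_one]
      exact mul_mem hlN (hconj c hcn _ hlN)
    set w := Φ (x, y) with hw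
    have hw' : w = (x * y) ^ Nat.card N := rfl
    have hww : w * w = 1 := by
      rw [hw', ← pow_add, ← two_mul, pow_mul]
      exact hpowN _ hsq
    have hwN : w * c ∈ N := by
      rw [hw', hq, pow_succ, pow_mul, mul_assoc]
      exact mul_mem (pow_mem hsq q) hlN
    have hwi : w⁻¹ = w := inv_eq_of_mul_eq_one_left hww
    have h1 : x * w * x⁻¹ = w := by
      conv_rhs => rw [← hwi, hw', ← inv_pow]
      rw [hw', ← conj_pow]
      congr 1
      rw [mul_inv_rev, inv_eq_of_mul_eq_one_left hxx, inv_eq_of_mul_eq_one_left hyy,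
        show x * (x * y) * x = x * x * (y * x) by group, hxx, one_mul]
    have h2 : y * w * y⁻¹ = w := by
      conv_rhs => rw [← hwi, hw', ← inv_pow]
      rw [hw', ← conj_pow]
      congr 1
      rw [mul_inv_rev, inv_eq_of_mul_eq_one_left hxx, inv_eq_of_mul_eq_one_left hyy,
        show y * (x * y) * y = y * x * (y * y) by group, hyy, mul_one]
    exact ⟨Finset.mem_filter.2 ⟨Finset.mem_univ _, hww, hwN⟩, mul_inv_eq_iff_eq_mul.1 h1,
      mul_inv_eq_iff_eq_mul.1 h2⟩
  -- the fibres
  have hfib : ∀ z ∈ I c, ((I a ×ˢ I b).filter fun w => Φ w = z) = J a z ×ˢ J b z := by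
    intro z hz
    obtain ⟨-, hzz, hzN⟩ := Finset.mem_filter.1 hz
    ext ⟨x, y⟩
    simp only [Finset.mem_filter, Finset.mem_product, J]
    constructor
    · rintro ⟨⟨hx, hy⟩, rfl⟩
      exact ⟨⟨hx, (hΦ x hx y hy).2.1⟩, hy, (hΦ x hx y hy).2.2⟩
    · rintro ⟨⟨hx, hxz⟩, hy, hyz⟩
      refine ⟨⟨hx, hy⟩, ?_⟩
      have hcomm : Commute (x * y) z := (show Commute x z from hxz).mul_left hyz
      set m := x * y * z with hm
      have hmN : m ∈ N := by
        have e : m = (x * y * c) * (z * c)⁻¹ * (z * z) := by rw [hm]; group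
        rw [e, hzz, mul_one]
        exact mul_mem (hprod x hx y hy) (inv_mem hzN)
      have hxy : x * y = m * z := by rw [hm, mul_assoc (x * y), hzz, mul_one]
      show (x * y) ^ Nat.card N = z
      have hmz : Commute m z := hcomm.mul_left (Commute.refl z)
      rw [hxy, hmz.mul_pow, hpowN m hmN, one_mul, hq, pow_succ, pow_mul, pow_two, hzz, one_pow,
        one_mul]
  have hconjN : ∀ n ∈ N, ∀ x ∈ Subgroup.normalizer (N : Set G), ∀ g,
      g * x ∈ N → n * g * n⁻¹ * x ∈ N := by
    intro n hn x hx g hg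
    have e : n * g * n⁻¹ * x = n * (g * x) * (x⁻¹ * n⁻¹ * x) := by group
    rw [e]
    refine mul_mem (mul_mem hn hg) ?_
    have := hconj x⁻¹ (inv_mem hx) _ (inv_mem hn)
    rwa [inv_inv] at this
  have hJ : ∀ x ∈ Subgroup.normalizer (N : Set G), ∀ z ∈ I c, (J x z).card = (J x c).card := by
    intro x hx z hz
    obtain ⟨-, hzz, hzN⟩ := Finset.mem_filter.1 hz
    set m := z * c with hm
    have hzm : z = m * c := by rw [hm, mul_assoc, hcc, mul_one]
    set n := m ^ (q + 1) with hn
    have hnN : n ∈ N := pow_mem hzN _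
    have hcm : c * m * c⁻¹ = m⁻¹ := by
      rw [eq_inv_iff_mul_eq_one, inv_eq_of_mul_eq_one_left hcc, hm]
      calc c * (z * c) * c * (z * c) = c * z * (c * c) * z * c := by group
        _ = c * (z * z) * c := by rw [hcc]; group
        _ = 1 := by rw [hzz, mul_one, hcc]
    have hnz : n * c * n⁻¹ = z := by
      have h1 : c * n⁻¹ * c⁻¹ = n := by
        rw [hn, ← inv_pow, ← conj_pow, show c * m⁻¹ * c⁻¹ = (c * m * c⁻¹)⁻¹ by group, hcm, inv_inv]
      calc n * c * n⁻¹ = n * (c * n⁻¹ * c⁻¹) * c := by group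
        _ = n * n * c := by rw [h1]
        _ = z := by
          rw [hn, ← pow_add, show q + 1 + (q + 1) = Nat.card N + 1 by omega, pow_succ, hpowN m hzN,
            one_mul, ← hzm]
    refine (Finset.card_bij (fun g _ => n * g * n⁻¹) (fun g hg => ?_)
      (fun g _ g' _ e => by simpa using e) fun g hg => ⟨n⁻¹ * g * n, ?_, by group⟩).symm
    · obtain ⟨h1, h2⟩ := Finset.mem_filter.1 hg
      obtain ⟨-, h3, h4⟩ := Finset.mem_filter.1 h1
      refine Finset.mem_filter.2 ⟨Finset.mem_filter.2 ⟨Finset.mem_univ _, ?_, hconjN n hnN x hx g h4⟩, ?_⟩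
      · rw [show n * g * n⁻¹ * (n * g * n⁻¹) = n * (g * g) * n⁻¹ by group, h3]; group
      · rw [← hnz]
        calc n * g * n⁻¹ * (n * c * n⁻¹) = n * (g * c) * n⁻¹ := by group
          _ = n * (c * g) * n⁻¹ := by rw [h2]
          _ = _ := by group
    · obtain ⟨h1, h2⟩ := Finset.mem_filter.1 hg
      obtain ⟨-, h3, h4⟩ := Finset.mem_filter.1 h1
      have h5 := hconjN n⁻¹ (inv_mem hnN) x hx g h4
      rw [inv_inv] at h5
      refine Finset.mem_filter.2 ⟨Finset.mem_filter.2 ⟨Finset.mem_univ _, ?_, h5⟩, ?_⟩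
      · rw [show n⁻¹ * g * n * (n⁻¹ * g * n) = n⁻¹ * (g * g) * n by group, h3]; group
      · rw [← hnz] at h2
        calc n⁻¹ * g * n * c = n⁻¹ * (g * (n * c * n⁻¹)) * n := by group
          _ = n⁻¹ * (n * c * n⁻¹ * g) * n := by rw [h2]
          _ = _ := by group
  have htot : (I a).card * (I b).card = (I c).card * ((J a c).card * (J b c).card) := by
    rw [← Finset.card_product, Finset.card_eq_sum_card_fiberwise (f := Φ) (t := I c)
      (fun w hw => (hΦ _ (Finset.mem_product.1 hw).1 _ (Finset.mem_product.1 hw).2).1)]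
    rw [Finset.sum_congr rfl fun z hz => by
      rw [hfib z hz, Finset.card_product, hJ a han z hz, hJ b hbn z hz], Finset.sum_const,
      smul_eq_mul]
  -- the centralizer of `c`
  set K := N ⊓ Subgroup.centralizer ({c} : Set G) with hK
  have hKodd : Odd (Nat.card K) :=
    Odd.of_dvd_nat ⟨q, hq⟩ (Subgroup.card_dvd_of_le inf_le_left)
  have hJK : ∀ x : G, x * c = c * x → J x c = Finset.univ.filter fun g => g * g = 1 ∧ g * x ∈ K := by
    intro x hxc
    ext g
    simp only [J, I, Finset.mem_filter, Finset.mem_univ, true_and, hK, Subgroup.mem_inf,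
      Subgroup.mem_centralizer_singleton_iff]
    constructor
    · rintro ⟨⟨h1, h2⟩, h3⟩
      exact ⟨h1, h2, ((show Commute g c from h3).mul_left hxc).eq⟩
    · rintro ⟨h1, h2, h3⟩
      refine ⟨⟨h1, h2⟩, ?_⟩
      have h4 : Commute (g * x * x⁻¹) c :=
        (show Commute (g * x) c from h3).mul_left (show Commute x c from hxc).inv_left
      rw [mul_inv_cancel_right] at h4
      exact h4.eq
  have hKn : ∀ x : G, x * c = c * x → x ∈ Subgroup.normalizer (N : Set G) →
      x ∈ Subgroup.normalizer (K : Set G) := by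
    intro x hxc hxn
    refine Subgroup.mem_normalizer_iff.2 fun m => ?_
    simp only [hK, Subgroup.mem_inf, Subgroup.mem_centralizer_singleton_iff]
    have hx' : Commute x c := hxc
    refine and_congr (Subgroup.mem_normalizer_iff.1 hxn m) ⟨fun h => ?_, fun h => ?_⟩
    · exact ((hx'.mul_left h).mul_left hx'.inv_left).eq
    · have h4 : Commute (x⁻¹ * (x * m * x⁻¹) * x) c :=
        (hx'.inv_left.mul_left (show Commute (x * m * x⁻¹) c from h)).mul_left hx'
      rw [show x⁻¹ * (x * m * x⁻¹) * x = m by group] at h4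
      exact h4.eq
  have hac : a * c = c * a := by rw [hc, mul_assoc a b a, ← hab]
  have hbc : b * c = c * b := by rw [hc, ← mul_assoc, ← hab, mul_assoc]
  have hKa : ∀ x : G, x ∉ N → x ∉ K := fun x hx h => hx (show x ∈ N ⊓ _ from h).1
  have e1 := coset_inv_count N ⟨q, hq⟩ haa (hne1 a ha) han
  have e2 := coset_inv_count N ⟨q, hq⟩ hbb (hne1 b hb) hbn
  have e3 := coset_inv_count N ⟨q, hq⟩ hcc hcN hcn
  have e4 := coset_inv_count K hKodd haa (hKa a (hne1 a ha)) (hKn a hac han)
  have e5 := coset_inv_count K hKodd hbb (hKa b (hne1 b hb)) (hKn b hbc hbn)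
  rw [← hJK a hac] at e4
  rw [← hJK b hbc] at e5
  have hD : ∀ x y : G, (y = a ∧ x = b) ∨ (y = b ∧ x = a) →
      Nat.card ↥(K ⊓ Subgroup.centralizer ({y} : Set G)) = Nat.card ↥(N ⊓ Subgroup.centralizer ({a} : Set G) ⊓
        Subgroup.centralizer ({b} : Set G)) := by
    intro x y hxy
    congr 2
    ext m
    simp only [hK, Subgroup.mem_inf, Subgroup.mem_centralizer_singleton_iff]
    rcases hxy with ⟨rfl, rfl⟩ | ⟨rfl, rfl⟩
    · constructor
      · rintro ⟨⟨h1, h2⟩, h3⟩
        refine ⟨⟨h1, h3⟩, ?_⟩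
        have h4 := (show Commute m y from h3).inv_right.mul_right (show Commute m c from h2)
        rw [hc, inv_mul_cancel_left] at h4
        exact h4.eq
      · rintro ⟨⟨h1, h2⟩, h3⟩
        exact ⟨⟨h1, ((show Commute m y from h2).mul_right h3).eq⟩, h2⟩
    · constructor
      · rintro ⟨⟨h1, h2⟩, h3⟩
        refine ⟨⟨h1, ?_⟩, h3⟩
        have h4 := (show Commute m c from h2).mul_right (show Commute m y from h3).inv_right
        rw [hc, mul_inv_cancel_right] at h4
        exact h4.eq
      · rintro ⟨⟨h1, h2⟩, h3⟩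
        exact ⟨⟨h1, ((show Commute m x from h2).mul_right h3).eq⟩, h3⟩
  rw [hD b a (Or.inl ⟨rfl, rfl⟩)] at e4
  rw [hD a b (Or.inr ⟨rfl, rfl⟩)] at e5
  set D := Nat.card ↥(N ⊓ Subgroup.centralizer ({a} : Set G) ⊓ Subgroup.centralizer ({b} : Set G))
  set na := Nat.card ↥(N ⊓ Subgroup.centralizer ({a} : Set G))
  set nb := Nat.card ↥(N ⊓ Subgroup.centralizer ({b} : Set G))
  set nc := Nat.card ↥(N ⊓ Subgroup.centralizer ({c} : Set G))
  change (I a).card * na = _ at e1
  change (I b).card * nb = _ at e2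
  change (I c).card * nc = _ at e3
  have hN0 : 0 < Nat.card N := Nat.card_pos
  have hnc0 : 0 < nc := Nat.card_pos
  refine Nat.eq_of_mul_eq_mul_left (Nat.mul_pos hN0 hnc0) ?_
  calc Nat.card N * nc * (Nat.card N * D ^ 2)
      = (Nat.card N * Nat.card N) * (nc * D ^ 2) := by ring
    _ = ((I a).card * (I b).card) * (na * nb) * (nc * D ^ 2) := by
        nth_rewrite 1 [← e1]; rw [← e2]; ring
    _ = ((I c).card * nc) * ((J a c).card * D) * ((J b c).card * D) * (na * nb) := by
        rw [htot]; ring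
    _ = Nat.card N * nc * (na * nb * nc) := by rw [e3, e4, e5]; ring

end Cfsg.Agent.Block.ThreeP
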