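import Mathlib
import Cfsg.Agent.Lib.Block.ThreeP.Blocks
import Cfsg.Agent.Lib.Block.ThreeP.FourCount
import Cfsg.Agent.Lib.Block.ThreeP.FPlus

/-!
Rank three with a dihedral Sylow subgroup: every involution centralizer fixes a point, the two point
stabilizer has a normal complement to its four group, and so `p = 5` and the order is `360 A⁴`.
-/

set_option autoImplicit false
set_option linter.unusedSectionVars false
set_option linter.style.haveILetI false

namespace Cfsg.Agent.Block.ThreeP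

open scoped ComplexConjugate
open Cfsg Cfsg.Agent.Block Cfsg.Agent.Block.PermChar Cfsg.Agent.Char

universe u v

variable {G : Type u} [Group G] [Fintype G] {Ω : Type v} [Fintype Ω] [MulAction G Ω] {p : ℕ}
  [Fact p.Prime] [DecidableEq Ω] {X : Ctx G Ω p} {h k : ℕ} {S : Sylow 2 G} {σ : G} {α : Ω}
  {S₀ : Subgroup G} {τ : G} {L : Subgroup G} {A : ℕ} (W : Local X h k S σ α S₀ τ L A)

include W in
theorem Local.order_J : orderOf (σ * σ) = 2 := by
  rw [← pow_two, orderOf_pow' σ (by norm_num), W.eight.data.order]; norm_num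

include W in
theorem Local.mem_L {y : G} (hy : y * (σ * σ) = σ * σ * y) (ho : Odd (orderOf y)) : y ∈ L := by
  haveI hn : (L.subgroupOf (Subgroup.centralizer ({σ * σ} : Set G))).Normal :=
    ⟨fun x hx c => Subgroup.mem_subgroupOf.2
      ((Subgroup.mem_normalizer_iff.1 (W.odd2.norm c.2) _).1 (Subgroup.mem_subgroupOf.1 hx))⟩
  set C := Subgroup.centralizer ({σ * σ} : Set G)
  have hidx : (L.subgroupOf C).index = 2 ^ 3 := by
    have h1 := (L.subgroupOf C).card_mul_index
    rw [Nat.card_congr (Subgroup.subgroupOfEquivOfLe W.odd2.le).toEquiv, W.odd2.card,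
      W.eight.data.card] at h1
    exact Nat.eq_of_mul_eq_mul_left Nat.card_pos h1
  refine Subgroup.mem_subgroupOf.1 (regular_mem_of_index_pPow (p := 2) hidx
    (y := (⟨y, Subgroup.mem_centralizer_singleton_iff.2 hy⟩ : C)) ?_)
  rw [Subgroup.orderOf_mk]
  exact fun h2 => Nat.not_even_iff_odd.2 ho (even_iff_two_dvd.2 h2)

include W in
theorem Local.odd_of_mem {y : G} (hy : y ∈ L) : Odd (orderOf y) := by
  refine Odd.of_dvd_nat ?_ (Subgroup.orderOf_dvd_natCard L hy)
  exact Nat.not_even_iff_odd.1 fun h2 => W.odd2.odd h2.two_dvd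

include W in
/-- The elements of `L` fix the three points. -/
theorem Local.fix_of_mem {y : G} (hy : y ∈ L) : ∀ a ∈ fixSet Ω (σ * σ), y • a = a := by
  classical
  haveI : Fact (Nat.Prime 2) := ⟨Nat.prime_two⟩
  obtain ⟨M, hM⟩ := exists_isPModular 2 Nat.prime_two
  set J := σ * σ with hJdef
  have hJ := W.order_J
  rw [← hJdef] at hJ
  have hc : Commute J y := (Subgroup.mem_centralizer_singleton_iff.1 (W.odd2.le hy)).symm
  have ho := W.odd_of_mem hy
  have hord : orderOf (J * y) = 2 * orderOf y := by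
    rw [hc.orderOf_mul_eq_mul_orderOf_of_coprime (by rw [hJ]; exact (Nat.coprime_two_left).2 ho), hJ]
  have hχ := W.eight.chi_sing (g := J * y) (by rw [hord]; exact dvd_mul_right 2 _)
  have hψ : (X.ψ : G → ℂ) (J * y) = 1 := by
    have e := W.eight.data.section_const hM ⟨1, by rw [hJ, pow_one]⟩ (W.eight.data.complement J hJ)
      (v := ⟨y, W.odd2.le hy⟩) (by
        rw [Subgroup.orderOf_mk]; exact fun h2 => Nat.not_even_iff_odd.2 ho (even_iff_two_dvd.2 h2))
      (W.eight.principal hM).2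
    exact e.trans (W.eight.psi_inv J hJ)
  have hn : nfix Ω (J * y) = 3 := by
    have e := X.pi (J * y)
    rw [hχ, hψ] at e
    exact_mod_cast (by rw [e]; norm_num : (nfix Ω (J * y) : ℂ) = ((3 : ℕ) : ℂ))
  obtain ⟨i, hi⟩ := ho
  have hpow : (J * y) ^ orderOf y = J := by
    rw [hc.mul_pow, pow_orderOf_eq_one, mul_one, hi, pow_succ, pow_mul]
    rw [← hJ, pow_orderOf_eq_one, one_pow, one_mul]
  have hsub : fixSet Ω (J * y) ⊆ fixSet Ω J := fun x hx =>
    mem_fixSet.2 (hpow ▸ fix_pow (mem_fixSet.1 hx) _)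
  have heq : fixSet Ω (J * y) = fixSet Ω J := Finset.eq_of_subset_of_card_le hsub (by
    rw [card_fixSet, card_fixSet, hn, W.eight.fix_inv J hJ])
  intro a ha
  have h1 := mem_fixSet.1 (heq.symm ▸ ha)
  rw [hc.eq, mul_smul, mem_fixSet.1 ha] at h1
  exact h1

include W in
theorem Local.fix_S_unique {a : Ω} (ha : ∀ s ∈ (S : Subgroup G), s • a = a) : a = α := by
  classical
  have hJ := W.order_J
  have hd := W.eight.data
  have haT : a ∈ fixSet Ω (σ * σ) := mem_fixSet.2 (ha _ (mul_mem hd.mem hd.mem))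
  have hαT : α ∈ fixSet Ω (σ * σ) := mem_fixSet.2 (W.eight.fix_S _ (mul_mem hd.mem hd.mem))
  by_contra hne
  refine W.σ_not ((W.eight.ker σ hd.mem).2 ?_)
  refine third_fixed (by rw [card_fixSet, W.eight.fix_inv _ hJ]) (g := σ) (fun x hx => mem_fixSet.2 ?_)
    haT hαT hne (ha σ hd.mem) (W.eight.fix_S σ hd.mem)
  rw [← mul_smul, show σ * σ * σ = σ * (σ * σ) from mul_assoc _ _ _, mul_smul, mem_fixSet.1 hx]

/-- A point fixed by the centralizer of `v`. -/
def IsApex (v : G) (a : Ω) : Prop := ∀ g : G, g * v = v * g → g • a = a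

theorem IsApex.conj {v : G} {a : Ω} (ha : IsApex v a) (g : G) : IsApex (g * v * g⁻¹) (g • a) := by
  intro x hx
  have h1 := ha (g⁻¹ * x * g) (by
    calc g⁻¹ * x * g * v = g⁻¹ * (x * (g * v * g⁻¹)) * g := by group
      _ = g⁻¹ * (g * v * g⁻¹ * x) * g := by rw [hx]
      _ = _ := by group)
  calc x • g • a = g • (g⁻¹ * x * g) • a := by rw [← mul_smul, ← mul_smul]; group
    _ = g • a := by rw [h1]

include W in
theorem Local.apex_J : IsApex (σ * σ) α := by
  intro g hg
  obtain ⟨⟨l, s⟩, e⟩ := W.odd2.mul_bijective.2 ⟨g, Subgroup.mem_centralizer_singleton_iff.2 hg⟩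
  have ev : (l : G) * s = g := congrArg Subtype.val e
  have hd := W.eight.data
  rw [← ev, mul_smul, W.eight.fix_S _ s.2,
    W.fix_of_mem l.2 α (mem_fixSet.2 (W.eight.fix_S _ (mul_mem hd.mem hd.mem)))]

include W in
theorem Local.apex_unique {v : G} (hv : orderOf v = 2) {a b : Ω} (ha : IsApex v a) (hb : IsApex v b) :
    a = b := by
  obtain ⟨g, rfl⟩ := isConj_iff.1 (W.eight.one_class (σ * σ) v W.order_J hv)
  have key : ∀ c : Ω, IsApex (g * (σ * σ) * g⁻¹) c → g⁻¹ • c = α := by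
    intro c hc
    refine W.fix_S_unique fun s hs => ?_
    have h1 := hc.conj g⁻¹
    rw [show g⁻¹ * (g * (σ * σ) * g⁻¹) * g⁻¹⁻¹ = σ * σ by group] at h1
    exact h1 s (Subgroup.mem_centralizer_singleton_iff.1 (W.odd2.ple hs))
  exact smul_left_cancel g⁻¹ ((key a ha).trans (key b hb).symm)

include W in
theorem Local.exists_apex {v : G} (hv : orderOf v = 2) : ∃ a : Ω, IsApex v a := by
  obtain ⟨g, rfl⟩ := isConj_iff.1 (W.eight.one_class (σ * σ) v W.order_J hv)
  exact ⟨g • α, W.apex_J.conj g⟩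

include W in
/-- The odd elements of the centralizer of an involution of `S₀`. -/
theorem Local.odd_cent {v : G} (hv : v ∈ S₀) (hvo : orderOf v = 2) :
    (∀ y : G, y * v = v * y → Odd (orderOf y) → ∀ a ∈ fixSet Ω (σ * σ), y • a = a) ∧
      Nat.card {y : G // y * v = v * y ∧ Odd (orderOf y)} = h * k := by
  obtain ⟨g, hg⟩ := isConj_iff.1 (W.eight.one_class (σ * σ) v W.order_J hvo)
  have hiff : ∀ y : G, (y * v = v * y ∧ Odd (orderOf y)) ↔ g⁻¹ * y * g ∈ L := by
    intro y
    have e : orderOf (g⁻¹ * y * g) = orderOf y := by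
      have := orderOf_conj g⁻¹ y
      rwa [inv_inv] at this
    constructor
    · rintro ⟨h1, h2⟩
      refine W.mem_L ?_ (e ▸ h2)
      calc g⁻¹ * y * g * (σ * σ) = g⁻¹ * (y * (g * (σ * σ) * g⁻¹)) * g := by group
        _ = g⁻¹ * (v * y) * g := by rw [hg, h1]
        _ = _ := by rw [← hg]; group
    · intro hy
      refine ⟨?_, e ▸ W.odd_of_mem hy⟩
      have h1 := Subgroup.mem_centralizer_singleton_iff.1 (W.odd2.le hy)
      calc y * v = g * (g⁻¹ * y * g * (σ * σ)) * g⁻¹ := by rw [← hg]; group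
        _ = g * (σ * σ * (g⁻¹ * y * g)) * g⁻¹ := by rw [h1]
        _ = _ := by rw [← hg]; group
  constructor
  · intro y hy ho a ha
    have hy' := W.fix_of_mem ((hiff y).1 ⟨hy, ho⟩) (g⁻¹ • a) (by
      rw [← W.eight.fix₀ v hv hvo, ← hg, fixSet_conj] at ha
      exact ha)
    rw [mul_smul, mul_smul, smul_inv_smul] at hy'
    exact smul_left_cancel g⁻¹ hy'
  · rw [← W.card_L]
    exact Nat.card_congr
      { toFun := fun y => ⟨g⁻¹ * y.1 * g, (hiff y.1).1 y.2⟩
        invFun := fun l => ⟨g * l.1 * g⁻¹, (hiff _).2 (by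
          rw [show g⁻¹ * (g * l.1 * g⁻¹) * g = l.1 by group]; exact l.2)⟩
        left_inv := fun y => Subtype.ext (by show g * (g⁻¹ * y.1 * g) * g⁻¹ = y.1; group)
        right_inv := fun l => Subtype.ext (by show g⁻¹ * (g * l.1 * g⁻¹) * g = l.1; group) }

include W in
/-- The involutions of `S₀` have different apexes. -/
theorem Local.apex_distinct : ∃ β γ : Ω, β ∈ fixSet Ω (σ * σ) ∧ γ ∈ fixSet Ω (σ * σ) ∧ β ≠ α ∧
    γ ≠ α ∧ β ≠ γ ∧ IsApex τ β ∧ IsApex (τ * (σ * σ)) γ := by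
  classical
  haveI : Fact (Nat.Prime 2) := ⟨Nat.prime_two⟩
  have hd := W.eight.data
  have hJ := W.order_J
  have hτS := W.eight.le W.τ_mem
  have hττ : τ * τ = 1 := by rw [← pow_two, ← W.τ_order, pow_orderOf_eq_one]
  have hts : τ * σ = σ⁻¹ * τ := mul_inv_eq_iff_eq_mul.1 W.τ_refl
  have hτJ : τ * (σ * σ) = σ * σ * τ :=
    Subgroup.mem_centralizer_singleton_iff.1 (W.odd2.ple hτS)
  have hσS₀ := W.σ_not
  have hρ : τ * σ ∈ (S : Subgroup G) := mul_mem hτS hd.mem
  have hρ0 : τ * σ ∉ S₀ := fun hh => hσS₀ (by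
    have := mul_mem W.τ_mem hh
    rwa [← mul_assoc, hττ, one_mul] at this)
  have hρρ : τ * σ * (τ * σ) = 1 := by
    calc τ * σ * (τ * σ) = τ * σ * τ⁻¹ * (τ * τ) * σ := by group
      _ = 1 := by rw [W.τ_refl, hττ]; group
  have hρo : orderOf (τ * σ) = 2 := orderOf_eq_prime (by rw [pow_two]; exact hρρ)
    fun e => hρ0 (e ▸ one_mem _)
  have hαT : α ∈ fixSet Ω (σ * σ) := mem_fixSet.2 (W.eight.fix_S _ (mul_mem hd.mem hd.mem))
  have hperm : ∀ s ∈ (S : Subgroup G), ∀ x ∈ fixSet Ω (σ * σ), s • x ∈ fixSet Ω (σ * σ) :=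
    fun s hs x hx => mem_fixSet.2 (by
      rw [← mul_smul, ← Subgroup.mem_centralizer_singleton_iff.1 (W.odd2.ple hs), mul_smul,
        mem_fixSet.1 hx])
  have hT3 : (fixSet Ω (σ * σ)).card = 3 := by rw [card_fixSet, W.eight.fix_inv _ hJ]
  have hmove : ∀ s ∈ (S : Subgroup G), s ∉ S₀ → ∀ x ∈ fixSet Ω (σ * σ), s • x = x → x = α := by
    intro s hs hs0 x hx hsx
    by_contra hne
    exact hs0 ((W.eight.ker s hs).2
      (third_fixed hT3 (hperm s hs) hx hαT hne hsx (W.eight.fix_S s hs)))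
  obtain ⟨β, hβ⟩ := W.exists_apex W.τ_order
  have hβT : β ∈ fixSet Ω (σ * σ) := mem_fixSet.2 (hβ _ hτJ.symm)
  have hγ0 := hβ.conj σ⁻¹
  have hγe : σ⁻¹ * τ * σ⁻¹⁻¹ = τ * (σ * σ) := by rw [inv_inv, ← hts, mul_assoc]
  rw [hγe] at hγ0
  have hβα : β ≠ α := by
    intro e
    subst e
    -- then every involution of `S` has apex `α`
    obtain ⟨a, ha⟩ := W.exists_apex hρo
    have haT : a ∈ fixSet Ω (σ * σ) := mem_fixSet.2 (ha _ (by
      have := Subgroup.mem_centralizer_singleton_iff.1 (W.odd2.ple hρ)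
      exact this.symm))
    obtain rfl : a = β := hmove _ hρ hρ0 a haT (ha _ rfl)
    have hσα : σ⁻¹ • a = a := W.eight.fix_S _ (inv_mem hd.mem)
    have hall : ∀ w ∈ (S : Subgroup G), orderOf w = 2 → IsApex w a := by
      intro w hw hwo
      rcases hd.cases w hw with hrot | hrefl
      · rcases hd.rotation_involution (r := 1) rfl hrot
          (by rw [← pow_two, ← hwo, pow_orderOf_eq_one]) with e | e
        · rw [e, orderOf_one] at hwo; omega
        · rw [e, show σ ^ (1 + 1) = σ * σ by rw [pow_succ, pow_one]]; exact W.apex_J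
      · -- a reflection is `τ σ ^ i`
        cases nonempty_fintype ↥(S : Subgroup G)
        obtain ⟨i, hi, rfl⟩ : ∃ i, i < 4 ∧ w = τ * σ ^ i := by
          have hmem : τ * w ∈ Subgroup.zpowers σ := by
            rcases hd.cases (τ * w) (mul_mem hτS hw) with h1 | ⟨-, -, h1⟩
            · exact h1
            · exfalso
              have e1 : w * σ * w⁻¹ = σ⁻¹ := hrefl.2.2
              have e2 : τ * w * σ * (τ * w)⁻¹ = σ := by
                calc τ * w * σ * (τ * w)⁻¹ = τ * (w * σ * w⁻¹) * τ⁻¹ := by group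
                  _ = (τ * σ * τ⁻¹)⁻¹ := by rw [e1]; group
                  _ = σ := by rw [W.τ_refl, inv_inv]
              have e3 : σ * σ = 1 := by
                nth_rewrite 2 [← e2]
                rw [h1, mul_inv_cancel]
              rw [e3, orderOf_one] at hJ
              omega
          obtain ⟨i, hi, e⟩ := Finset.mem_image.1 (mem_zpowers_iff_mem_range_orderOf.1 hmem)
          replace hi := Finset.mem_range.1 hi
          exact ⟨i, hd.order ▸ hi, by rw [e, ← mul_assoc, hττ, one_mul]⟩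
        interval_cases i
        · rwa [pow_zero, mul_one]
        · rwa [pow_one]
        · rw [pow_two]; rwa [hσα] at hγ0
        · have h3 := ha.conj σ⁻¹
          rw [hσα, inv_inv, show σ⁻¹ * (τ * σ) * σ = τ * σ ^ 3 by
            rw [pow_succ σ 2, pow_two, ← mul_assoc σ⁻¹, ← hts, ← mul_assoc, ← mul_assoc]] at h3
          exact h3
    obtain ⟨b, hbT, hba⟩ := Finset.exists_mem_ne (by omega : 1 < (fixSet Ω (σ * σ)).card) a
    haveI := X.hyps.trans
    obtain ⟨g, hg⟩ := MulAction.exists_smul_eq G a b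
    set H := MulAction.stabilizer G b with hH
    set R : Sylow 2 G := g • S with hR
    have hmemR : ∀ w, w ∈ (R : Subgroup G) ↔ g⁻¹ * w * g ∈ (S : Subgroup G) := fun w => by
      rw [hR, Sylow.coe_subgroup_smul, Subgroup.mem_pointwise_smul_iff_inv_smul_mem]
      simp [MulAut.smul_def, MulAut.conj_inv_apply]
    have hRH : (R : Subgroup G) ≤ H := fun w hw => by
      show w • b = b
      have h1 := W.eight.fix_S _ ((hmemR w).1 hw)
      rw [mul_smul, mul_smul, hg, inv_smul_eq_iff, hg] at h1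
      exact h1
    have hJH : σ * σ ∈ H := mem_fixSet.1 hbT
    obtain ⟨Q, hQ⟩ := (IsPGroup.of_card (p := 2) (n := 1)
      (by rw [Nat.card_zpowers, Subgroup.orderOf_mk, hJ, pow_one]) :
      IsPGroup 2 (Subgroup.zpowers (⟨σ * σ, hJH⟩ : H))).exists_le_sylow
    obtain ⟨c, hc⟩ := MulAction.exists_smul_eq H Q (R.subtype hRH)
    have hmem : c * ⟨σ * σ, hJH⟩ * c⁻¹ ∈ (R.subtype hRH : Subgroup H) := by
      rw [← hc]; exact ⟨_, hQ (Subgroup.mem_zpowers _), rfl⟩
    have hmem' : (c : G) * (σ * σ) * (c : G)⁻¹ ∈ (R : Subgroup G) := by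
      rw [Sylow.coe_subtype, Subgroup.mem_subgroupOf] at hmem
      simpa using hmem
    have hw2 := (hmemR _).1 hmem'
    have hap := (hall _ hw2 (by
      rw [show g⁻¹ * ((c : G) * (σ * σ) * (c : G)⁻¹) * g =
        g⁻¹ * ((c : G) * (σ * σ) * (c : G)⁻¹) * g⁻¹⁻¹ by group, orderOf_conj, orderOf_conj, hJ])).conj
        ((c : G)⁻¹ * g)
    rw [show (c : G)⁻¹ * g * (g⁻¹ * ((c : G) * (σ * σ) * (c : G)⁻¹) * g) * ((c : G)⁻¹ * g)⁻¹ =
      σ * σ by group, mul_smul, hg, show (c : G)⁻¹ • b = b from (inv_mem c.2 : (c : G)⁻¹ ∈ H)] at hap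
    exact hba (W.apex_unique hJ hap W.apex_J)
  have hσi : σ⁻¹ ∈ (S : Subgroup G) := inv_mem hd.mem
  refine ⟨β, σ⁻¹ • β, hβT, hperm _ hσi β hβT, hβα, fun e => hβα ?_, fun e => hβα ?_, hβ, hγ0⟩
  · exact smul_left_cancel σ⁻¹ (e.trans (W.eight.fix_S _ hσi).symm)
  · exact hmove σ⁻¹ hσi (fun hh => hσS₀ ((Subgroup.inv_mem_iff S₀).1 hh)) β hβT e.symm

include W in
theorem Local.k_pos : 0 < A := Nat.pos_of_ne_zero fun e => by
  have h0 := W.eight.odd_k.pos
  rw [W.k_eq, e] at h0
  simp at h0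

set_option maxHeartbeats 1600000 in
include W in
/-- The numbers. -/
theorem Local.numbers [FaithfulSMul G Ω] : p = 5 ∧ Nat.card G = 360 * A ^ 4 ∧ (A = 1 ∨ A = 3) := by
  classical
  haveI : Fact (Nat.Prime 2) := ⟨Nat.prime_two⟩
  haveI := X.hyps.trans
  have hd := W.eight.data
  have hJ := W.order_J
  obtain ⟨β, γ, hβT, hγT, hβα, hγα, hβγ, hβ, hγ⟩ := W.apex_distinct
  set J := σ * σ with hJdef
  have hαT : α ∈ fixSet Ω J := mem_fixSet.2 (W.eight.fix_S _ (mul_mem hd.mem hd.mem))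
  have hτS := W.eight.le W.τ_mem
  have hττ : τ * τ = 1 := by rw [← pow_two, ← W.τ_order, pow_orderOf_eq_one]
  have hJJ : J * J = 1 := by rw [← pow_two, ← hJ, pow_orderOf_eq_one]
  have hτJ : τ * J = J * τ := Subgroup.mem_centralizer_singleton_iff.1 (W.odd2.ple hτS)
  have hτJne : τ ≠ J := fun e => by
    have h1 := W.τ_refl
    rw [e, hJdef, show σ * σ * σ * (σ * σ)⁻¹ = σ by group, eq_inv_iff_mul_eq_one] at h1
    rw [hJdef, h1, orderOf_one] at hJ
    omega
  have hτJo : orderOf (τ * J) = 2 := by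
    refine orderOf_eq_prime ?_ fun e => hτJne ?_
    · rw [pow_two]
      calc τ * J * (τ * J) = τ * (J * τ) * J := by group
        _ = τ * τ * (J * J) := by rw [← hτJ]; group
        _ = 1 := by rw [hττ, hJJ, one_mul]
    · rw [mul_eq_one_iff_eq_inv] at e
      rw [e]; exact inv_eq_of_mul_eq_one_left hJJ
  set H := MulAction.stabilizer G α ⊓ MulAction.stabilizer G β with hH
  have hmemH : ∀ g, g ∈ H ↔ g • α = α ∧ g • β = β := fun g => Iff.rfl
  have hVH : S₀ ≤ H := fun t ht => (hmemH t).2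
    ⟨(W.eight.ker t (W.eight.le ht)).1 ht α hαT, (W.eight.ker t (W.eight.le ht)).1 ht β hβT⟩
  -- a four group is a Sylow subgroup
  have h8H : ¬ 8 ∣ Nat.card H := by
    intro h8
    obtain ⟨T⟩ : Nonempty (Sylow 2 H) := inferInstance
    have hT : 2 ^ 3 ≤ Nat.card (T : Subgroup H) :=
      Nat.le_of_dvd Nat.card_pos (T.pow_dvd_card_of_pow_dvd_card (show 2 ^ 3 ∣ Nat.card H from (by norm_num : (2 : ℕ) ^ 3 = 8) ▸ h8))
    obtain ⟨R, hR⟩ := (T.isPGroup'.map H.subtype).exists_le_sylow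
    obtain ⟨c, hc⟩ := MulAction.exists_smul_eq G R S
    have hRc : Nat.card (R : Subgroup G) = 8 := by
      rw [Sylow.card_eq_multiplicity R, ← Sylow.card_eq_multiplicity S, hd.card]
    have hRH : (R : Subgroup G) ≤ H := by
      have e : (T : Subgroup H).map H.subtype = (R : Subgroup G) := by
        refine Subgroup.eq_of_le_of_card_ge hR ?_
        rw [Nat.card_congr (Subgroup.equivMapOfInjective _ _ H.subtype_injective).symm.toEquiv, hRc]
        exact hT
      exact e ▸ Subgroup.map_subtype_le _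
    have hfix : ∀ a : Ω, (∀ w ∈ H, w • a = a) → c • a = α := fun a ha => W.fix_S_unique fun s hs => by
      rw [← hc, Sylow.coe_subgroup_smul, Subgroup.mem_pointwise_smul_iff_inv_smul_mem] at hs
      simp only [MulAut.smul_def, MulAut.conj_inv_apply] at hs
      have h1 := ha _ (hRH hs)
      rw [mul_smul, mul_smul, inv_smul_eq_iff] at h1
      exact h1
    exact hβα (smul_left_cancel c ((hfix β fun w hw => ((hmemH w).1 hw).2).trans
      (hfix α fun w hw => ((hmemH w).1 hw).1).symm))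
  set P : Subgroup H := S₀.subgroupOf H with hP
  have hPc : Nat.card P = 4 := by
    rw [hP, Nat.card_congr (Subgroup.subgroupOfEquivOfLe hVH).toEquiv, W.eight.card_S₀]
  have hHf : (Nat.card H).factorization 2 = 2 := by
    refine le_antisymm (Nat.le_of_not_lt fun hlt => h8H ?_) ?_
    · exact (Nat.Prime.pow_dvd_iff_le_factorization Nat.prime_two Nat.card_pos.ne').2 hlt
    · exact (Nat.Prime.pow_dvd_iff_le_factorization Nat.prime_two Nat.card_pos.ne').1
        (by have h1 := Subgroup.card_subgroup_dvd_card P; rw [hPc] at h1; exact h1)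
  let PS : Sylow 2 H := Sylow.ofCard P (by rw [hPc, hHf]; norm_num)
  have hPS : (PS : Subgroup H) = P := Sylow.coe_ofCard _ _
  -- the elements of `S₀`
  have hS₀elts : ∀ t ∈ S₀, t = 1 ∨ t = J ∨ t = τ ∨ t = τ * J := by
    intro t ht
    have hJ0 : J ∈ S₀ := W.eight.sq_mem
    have hsub : ({1, J, τ, τ * J} : Finset G) ⊆ Finset.univ.filter fun x => x ∈ S₀ := by
      intro x hx
      simp only [Finset.mem_insert, Finset.mem_singleton] at hx
      refine Finset.mem_filter.2 ⟨Finset.mem_univ _, ?_⟩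
      rcases hx with rfl | rfl | rfl | rfl
      exacts [one_mem _, hJ0, W.τ_mem, mul_mem W.τ_mem hJ0]
    have hc4 : ({1, J, τ, τ * J} : Finset G).card = 4 := by
      have e1 : J ≠ 1 := fun e => by rw [e, orderOf_one] at hJ; omega
      have e2 : τ ≠ 1 := fun e => by have := W.τ_order; rw [e, orderOf_one] at this; omega
      have e3 : τ * J ≠ 1 := fun e => by rw [e, orderOf_one] at hτJo; omega
      rw [Finset.card_insert_of_notMem (by simp [Ne.symm e1, Ne.symm e2, Ne.symm e3]),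
        Finset.card_insert_of_notMem (by
          simp only [Finset.mem_insert, Finset.mem_singleton, not_or]
          exact ⟨Ne.symm hτJne, fun e => e2 (mul_right_cancel (e.symm.trans (one_mul J).symm))⟩),
        Finset.card_pair fun e => e1 (mul_left_cancel ((mul_one τ).trans e)).symm]
    have he := Finset.eq_of_subset_of_card_le hsub (by
      rw [hc4, ← W.eight.card_S₀, Nat.card_eq_fintype_card, Fintype.card_subtype])
    have := he ▸ (Finset.mem_filter.2 ⟨Finset.mem_univ t, ht⟩ :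
      t ∈ Finset.univ.filter fun x => x ∈ S₀)
    simpa using this
  -- the normalizer centralizes
  have hNC : Subgroup.normalizer ((PS : Subgroup H) : Set H) ≤
      Subgroup.centralizer ((PS : Subgroup H) : Set H) := by
    intro x hx y hy
    rw [hPS] at hx hy
    obtain ⟨hxα, hxβ⟩ := (hmemH x).1 x.2
    have hconjS : ∀ t ∈ S₀, (x : G) * t * (x : G)⁻¹ ∈ S₀ := fun t ht => by
      have h1 := (Subgroup.mem_normalizer_iff.1 hx ⟨t, hVH ht⟩).1 (Subgroup.mem_subgroupOf.2 ht)
      exact Subgroup.mem_subgroupOf.1 h1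
    have hfixed : ∀ t ∈ S₀, orderOf t = 2 → ∀ a : Ω, IsApex t a → (x : G) • a = a →
        (∀ u ∈ S₀, orderOf u = 2 → IsApex u a → u = t) → (x : G) * t * (x : G)⁻¹ = t := by
      intro t ht hto a ha hxa huniq
      refine huniq _ (hconjS t ht) (by rw [orderOf_conj, hto]) ?_
      have := ha.conj (x : G)
      rwa [hxa] at this
    have huniq : ∀ u ∈ S₀, orderOf u = 2 → (IsApex u α → u = J) ∧ (IsApex u β → u = τ) := by
      intro u hu huo
      have h2 : orderOf (τ * J) = 2 := hτJo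
      rcases hS₀elts u hu with rfl | rfl | rfl | rfl
      · rw [orderOf_one] at huo; omega
      · exact ⟨fun _ => rfl, fun hu' => absurd (W.apex_unique hJ hu' W.apex_J) hβα⟩
      · exact ⟨fun hu' => absurd (W.apex_unique huo hβ hu') hβα, fun _ => rfl⟩
      · exact ⟨fun hu' => absurd (W.apex_unique huo hγ hu') hγα,
          fun hu' => absurd (W.apex_unique huo hu' hγ) hβγ⟩
    have hcJ : (x : G) * J * (x : G)⁻¹ = J :=
      hfixed J W.eight.sq_mem hJ α W.apex_J hxα fun u hu huo => (huniq u hu huo).1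
    have hcτ : (x : G) * τ * (x : G)⁻¹ = τ :=
      hfixed τ W.τ_mem W.τ_order β hβ hxβ fun u hu huo => (huniq u hu huo).2
    have hcy : (x : G) * y * (x : G)⁻¹ = y := by
      rcases hS₀elts (y : G) (Subgroup.mem_subgroupOf.1 hy) with e | e | e | e <;> rw [e]
      · group
      · exact hcJ
      · exact hcτ
      · rw [show (x : G) * (τ * J) * (x : G)⁻¹ = ((x : G) * τ * (x : G)⁻¹) * ((x : G) * J * (x : G)⁻¹)
          by group, hcτ, hcJ]
    exact Subtype.ext (mul_inv_eq_iff_eq_mul.1 hcy).symm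
  obtain ⟨N₀, hN₀n, hN₀c⟩ : ∃ N₀ : Subgroup H, N₀.Normal ∧
      Subgroup.IsComplement' N₀ (PS : Subgroup H) :=
    ⟨_, MonoidHom.normal_ker _, MonoidHom.ker_transferSylow_isComplement' PS hNC⟩
  obtain ⟨N, hN⟩ : ∃ N : Subgroup G, N = N₀.map H.subtype := ⟨_, rfl⟩
  have hNc : Nat.card N * 4 = Nat.card H := by
    rw [hN, Nat.card_congr (Subgroup.equivMapOfInjective _ _ H.subtype_injective).symm.toEquiv,
      ← hPc, ← hPS]
    exact hN₀c.card_mul
  have hNodd : Odd (Nat.card N) := by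
    rw [← Nat.not_even_iff_odd, even_iff_two_dvd]
    rintro ⟨i, hi⟩
    exact h8H ⟨i, by rw [← hNc, hi]; ring⟩
  have hidx : N₀.index = 2 ^ 2 := by
    rw [hN₀c.symm.index_eq_card, hPS, hPc]; norm_num
  have hmemN : ∀ y : G, y ∈ H → Odd (orderOf y) → y ∈ N := fun y hy ho => by
    rw [hN]
    refine ⟨⟨y, hy⟩, regular_mem_of_index_pPow (p := 2) hidx ?_, rfl⟩
    rw [Subgroup.orderOf_mk]
    exact fun h2 => Nat.not_even_iff_odd.2 ho (even_iff_two_dvd.2 h2)
  have hNn : ∀ t ∈ H, t ∈ Subgroup.normalizer (N : Set G) := by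
    intro t ht
    have key : ∀ s ∈ H, ∀ m ∈ N, s * m * s⁻¹ ∈ N := by
      rw [hN]
      rintro s hs _ ⟨m, hm, rfl⟩
      exact ⟨⟨s, hs⟩ * m * ⟨s, hs⟩⁻¹,
        hN₀n.conj_mem m hm _, rfl⟩
    refine Subgroup.mem_normalizer_iff.2 fun m => ⟨key t ht m, fun hm => ?_⟩
    have := key t⁻¹ (inv_mem ht) _ hm
    rwa [show t⁻¹ * (t * m * t⁻¹) * t⁻¹⁻¹ = m by group] at this
  have hcount : ∀ v ∈ S₀, orderOf v = 2 →
      Nat.card ↥(N ⊓ Subgroup.centralizer ({v} : Set G)) = h * k := by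
    intro v hv hvo
    rw [← (W.odd_cent hv hvo).2]
    refine Nat.card_congr (Equiv.subtypeEquivRight fun y => ?_)
    rw [Subgroup.mem_inf, Subgroup.mem_centralizer_singleton_iff]
    refine ⟨fun hy => ⟨hy.2, Odd.of_dvd_nat hNodd (Subgroup.orderOf_dvd_natCard N hy.1)⟩, fun hy =>
      ⟨hmemN y ?_ hy.2, hy.1⟩⟩
    exact (hmemH y).2 ⟨(W.odd_cent hv hvo).1 y hy.1 hy.2 α hαT, (W.odd_cent hv hvo).1 y hy.1 hy.2 β hβT⟩
  have hD : Nat.card ↥(N ⊓ Subgroup.centralizer ({J} : Set G) ⊓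
      Subgroup.centralizer ({τ} : Set G)) = A := by
    rw [← W.inter]
    refine congrArg (fun K : Subgroup G => Nat.card K) (Subgroup.ext fun y => ?_)
    simp only [Subgroup.mem_inf, Subgroup.mem_centralizer_singleton_iff]
    refine ⟨fun hy => ⟨W.mem_L hy.1.2 (Odd.of_dvd_nat hNodd (Subgroup.orderOf_dvd_natCard N hy.1.1)),
      hy.2⟩, fun hy => ?_⟩
    have hyJ := Subgroup.mem_centralizer_singleton_iff.1 (W.odd2.le hy.1)
    exact ⟨⟨hmemN y ((hmemH y).2 ⟨W.fix_of_mem hy.1 α hαT, W.fix_of_mem hy.1 β hβT⟩)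
      (W.odd_of_mem hy.1), hyJ⟩, hy.2⟩
  have hfour := four_count N hNodd hJ W.τ_order hτJ.symm (Ne.symm hτJne)
    (hNn J (hVH W.eight.sq_mem)) (hNn τ (hVH W.τ_mem))
  rw [hcount J W.eight.sq_mem hJ, hcount τ W.τ_mem W.τ_order,
    hcount (J * τ) (mul_mem W.eight.sq_mem W.τ_mem) (by rw [← hτJ]; exact hτJo), hD] at hfour
  have hA := W.k_pos
  have hNval : Nat.card N = h ^ 3 * A ^ 4 := by
    refine Nat.eq_of_mul_eq_mul_right (show 0 < A ^ 2 by positivity) ?_
    rw [hfour, W.k_eq]; ring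
  obtain ⟨j, hj⟩ : Nat.card H ∣ Nat.card (MulAction.stabilizer G α) :=
    Subgroup.card_dvd_of_le inf_le_left
  have hG := X.hyps.stab_card α
  rw [hj, ← hNc, hNval, W.eight.card_G, W.k_eq] at hG
  have hh := W.eight.h_pos
  have hp := W.eight.p_eq
  have hkey : 3 * j * h ^ 2 = 2 * (8 * h + 1) := by
    refine Nat.eq_of_mul_eq_mul_left
      (show 0 < 4 * p * h * A ^ 4 from Nat.mul_pos (Nat.mul_pos (Nat.mul_pos (by norm_num)
        (Fact.out : p.Prime).pos) hh) (by positivity)) ?_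
    linear_combination hG
  have hh1 : h = 1 := by
    have h1 : h ∣ 2 * (8 * h + 1) := ⟨3 * j * h, by rw [← hkey]; ring⟩
    have h2 : h ∣ 2 := by
      rw [show 2 * (8 * h + 1) = h * 16 + 2 by ring] at h1
      exact (Nat.dvd_add_right (dvd_mul_right h 16)).1 h1
    rcases (Nat.dvd_prime Nat.prime_two).1 h2 with e | e
    · exact e
    · have := W.eight.odd_h; rw [e] at this; exact absurd this (by decide)
  subst hh1
  have hp5 : p = 5 := by omega
  have hGc : Nat.card G = 360 * A ^ 4 := by rw [W.eight.card_G, W.k_eq, hp5]; ring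
  refine ⟨hp5, hGc, ?_⟩
  have hdiv := card_dvd_factorial (G := G) (Ω := Ω)
  rw [X.hyps.card, hp5, hGc, show Nat.factorial (3 * 5) = 360 * 3632428800 by decide] at hdiv
  have h4 := Nat.dvd_of_mul_dvd_mul_left (by norm_num : 0 < 360) hdiv
  have hAodd : A % 2 = 1 := by
    have := W.eight.odd_k
    rw [W.k_eq, Nat.odd_pow_iff two_ne_zero] at this
    exact Nat.odd_iff.1 this
  have hlt : A < 246 := by
    by_contra hge
    have h1 := Nat.le_of_dvd (by norm_num) h4
    have h2 : 246 ^ 4 ≤ A ^ 4 := Nat.pow_le_pow_left (not_lt.1 hge) 4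
    omega
  have key : ∀ a < 246, a ^ 4 ∣ 3632428800 → a % 2 = 1 → a = 1 ∨ a = 3 := by decide +kernel
  exact key A hlt h4 hAodd

end Cfsg.Agent.Block.ThreeP
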