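import Mathlib

/-!
An element of order three in a transitive group of odd order on five points is trivial.
-/

set_option autoImplicit false
set_option linter.style.haveILetI false

namespace Cfsg.Agent.Block.ThreeP

universe u v

/-- In a group of odd order acting transitively on five points the elements of order dividing three
fix every point. -/
theorem fix_five {O : Type u} [Group O] [Finite O] (hodd : Odd (Nat.card O)) {X : Type v} [Finite X]
    [MulAction O X] [MulAction.IsPretransitive O X] (hX : Nat.card X = 5) {y : O} (hy : y ^ 3 = 1)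
    (a : X) : y • a = a := by
  classical
  haveI : Fact (Nat.Prime 5) := ⟨by norm_num⟩
  haveI : Fact (Nat.Prime 3) := ⟨by norm_num⟩
  set φ := MulAction.toPermHom O X
  set R := φ.range with hR
  have hdvd : Nat.card R ∣ 120 := by
    have h := Subgroup.card_subgroup_dvd_card R
    rwa [Nat.card_perm, hX] at h
  have hoddR : Odd (Nat.card R) :=
    hodd.of_dvd_nat (Subgroup.card_range_dvd φ)
  have hdvd15 : Nat.card R ∣ 15 :=
    (Nat.Coprime.pow_right 3 ((Nat.coprime_two_right).2 hoddR)).dvd_of_dvd_mul_left
      (show Nat.card R ∣ 2 ^ 3 * 15 from hdvd)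
  haveI : MulAction.IsPretransitive R X := ⟨fun b c => by
    obtain ⟨g, hg⟩ := MulAction.exists_smul_eq O b c
    exact ⟨⟨φ g, g, rfl⟩, hg⟩⟩
  have h5 : 5 ∣ Nat.card R := by
    have h := (MulAction.stabilizer R a).card_mul_index
    rw [MulAction.index_stabilizer_of_transitive, hX] at h
    exact ⟨_, by rw [← h, mul_comm]⟩
  set w : R := ⟨φ y, y, rfl⟩ with hw
  have hw3 : w ^ 3 = 1 := Subtype.ext (by
    show φ y ^ 3 = 1
    rw [← map_pow, hy, map_one])
  suffices hwa : w • a = a by exact hwa
  by_contra hmove
  have hw1 : w ≠ 1 := fun e => hmove (by rw [e, one_smul])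
  have h15 : Nat.card R = 15 := by
    have hord : orderOf w = 3 := orderOf_eq_prime hw3 hw1
    have h3 : 3 ∣ Nat.card R := hord ▸ orderOf_dvd_natCard w
    exact Nat.dvd_antisymm hdvd15 ((by norm_num : Nat.Coprime 5 3).mul_dvd_of_dvd_of_dvd h5 h3)
  let Q : Sylow 5 R := default
  have hQc : Nat.card (Q : Subgroup R) = 5 := by
    rw [Q.card_eq_multiplicity, h15, show (15 : ℕ) = 5 * 3 by norm_num,
      Nat.factorization_mul (by norm_num) (by norm_num), Finsupp.add_apply,
      Nat.Prime.factorization_self (by norm_num), Nat.factorization_eq_zero_of_not_dvd (by norm_num)]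
    norm_num
  have hQn : (Q : Subgroup R).Normal := by
    rw [← Subgroup.normalizer_eq_top_iff, ← Subgroup.index_eq_one]
    show (Subgroup.normalizer ((Q : Subgroup R) : Set R)).index = 1
    have h1 := card_sylow_modEq_one 5 R
    have h2 : Nat.card (Sylow 5 R) ∣ 3 := by
      have := Sylow.card_dvd_index Q
      have hi := (Q : Subgroup R).card_mul_index
      rw [hQc, h15] at hi
      rwa [show (Q : Subgroup R).index = 3 by omega] at this
    refine (Sylow.card_eq_index_normalizer Q).symm.trans ?_
    rcases (Nat.dvd_prime (by norm_num : Nat.Prime 3)).1 h2 with e | e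
    · exact e
    · rw [e] at h1
      norm_num [Nat.ModEq] at h1
  haveI := hQn
  haveI : IsCyclic (Q : Subgroup R) := isCyclic_of_prime_card hQc
  -- an element of order three centralizes the group of order five
  have hcomm : ∀ b ∈ (Q : Subgroup R), w * b = b * w := by
    intro b hb
    let ψ : R →* MulAut (Q : Subgroup R) := MulAut.conjNormal
    have h1 : orderOf (ψ w) ∣ 3 := orderOf_dvd_of_pow_eq_one (by rw [← map_pow, hw3, map_one])
    have h2 : orderOf (ψ w) ∣ 4 := by
      have h := orderOf_dvd_natCard (ψ w)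
      rwa [IsCyclic.card_mulAut, hQc, Nat.totient_prime (by norm_num)] at h
    have h3 : ψ w = 1 := orderOf_eq_one_iff.1
      (Nat.eq_one_of_dvd_coprimes (by norm_num : Nat.Coprime 3 4) h1 h2)
    have h4 := congrArg (fun f : MulAut (Q : Subgroup R) => ((f ⟨b, hb⟩ : (Q : Subgroup R)) : R)) h3
    simp only [ψ, MulAut.conjNormal_apply, MulAut.one_apply] at h4
    exact mul_inv_eq_iff_eq_mul.1 h4
  -- `Q` is transitive
  obtain ⟨c, hc⟩ : ∃ c : X, w • c = c := by
    have hP : IsPGroup 3 (Subgroup.zpowers w) := IsPGroup.of_card (n := 1) (by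
      rw [Nat.card_zpowers, orderOf_eq_prime hw3 hw1, pow_one])
    obtain ⟨c, hc⟩ := hP.nonempty_fixed_point_of_prime_not_dvd_card (α := X) (by rw [hX]; norm_num)
    exact ⟨c, hc ⟨w, Subgroup.mem_zpowers w⟩⟩
  have horb : MulAction.orbit (Q : Subgroup R) c = Set.univ := by
    refine Set.eq_of_subset_of_ncard_le (Set.subset_univ _) ?_
    rw [Set.ncard_univ, hX, ← MulAction.index_stabilizer]
    have h1 : (MulAction.stabilizer (Q : Subgroup R) c).index ∣ 5 := by
      have := Subgroup.index_dvd_card (MulAction.stabilizer (Q : Subgroup R) c)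
      rwa [hQc] at this
    rcases (Nat.dvd_prime (by norm_num : Nat.Prime 5)).1 h1 with e | e
    · exfalso
      -- a normal subgroup fixing a point fixes all
      rw [Subgroup.index_eq_one] at e
      have hall : ∀ b ∈ (Q : Subgroup R), ∀ d : X, b • d = d := by
        intro b hb d
        obtain ⟨g, rfl⟩ := MulAction.exists_smul_eq R c d
        have h2 : (⟨g⁻¹ * b * g, hQn.conj_mem' b hb g⟩ : (Q : Subgroup R)) ∈
            MulAction.stabilizer (Q : Subgroup R) c := e ▸ Subgroup.mem_top _
        have h3 : (g⁻¹ * b * g) • c = c := h2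
        rw [mul_smul, mul_smul, inv_smul_eq_iff] at h3
        exact h3
      have hbot : (Q : Subgroup R) = ⊥ := (Subgroup.eq_bot_iff_forall _).2 fun b hb =>
        Subtype.ext (Equiv.ext fun d => hall b hb d)
      rw [hbot, Subgroup.card_bot] at hQc
      norm_num at hQc
    · rw [e]
  apply hmove
  obtain ⟨b, hb⟩ : a ∈ MulAction.orbit (Q : Subgroup R) c := horb ▸ Set.mem_univ a
  rw [← hb]
  show w • (b : R) • c = (b : R) • c
  rw [← mul_smul, hcomm b b.2, mul_smul, hc]

end Cfsg.Agent.Block.ThreeP
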