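import Mathlib
import Cfsg.Agent.Lib.Block.ThreeP.Common

/-!
Elementary abelian Sylow 2-subgroups with few elements of odd order in the centralizers of
involutions.
-/

set_option autoImplicit false
set_option linter.unusedSectionVars false
set_option linter.style.haveILetI false

namespace Cfsg.Agent.Block.ThreeP

universe u

variable {G : Type u} [Group G] [Finite G]

theorem comm_of_exp_two {S : Subgroup G} (hS : ∀ s ∈ S, s * s = 1) :
    ∀ a ∈ S, ∀ b ∈ S, a * b = b * a := by
  intro a ha b hb
  have h1 := hS _ (mul_mem ha hb)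
  calc a * b = a * (a * b * (a * b)) * b := by rw [h1, mul_one]
    _ = (a * a) * (b * a) * (b * b) := by group
    _ = b * a := by rw [hS a ha, hS b hb, one_mul, mul_one]

/-- The `S`-conjugates of the elements of an odd complement have odd order. -/
theorem coset_count (S L : Subgroup G) [S.Normal] [Fintype L] (hL : Odd (Nat.card L))
    (hd : Disjoint S L) :
    ∑ y : L, ((Subgroup.centralizer ({(y : G)} : Set G)).subgroupOf S).index ≤ nodd G := by
  classical
  set f : (Σ y : L, S ⧸ (Subgroup.centralizer ({(y : G)} : Set G)).subgroupOf S) →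
      {g : G // Odd (orderOf g)} := fun q =>
    ⟨(q.2.out : G) * (q.1 : G) * (q.2.out : G)⁻¹, by
      rw [orderOf_conj]
      exact hL.of_dvd_nat (by rw [Subgroup.orderOf_coe]; exact orderOf_dvd_natCard _)⟩ with hf
  have hinj : Function.Injective f := by
    rintro ⟨y, q⟩ ⟨y', q'⟩ e
    have e' : (q.out : G) * (y : G) * (q.out : G)⁻¹ = (q'.out : G) * (y' : G) * (q'.out : G)⁻¹ :=
      congrArg Subtype.val e
    have hmk : ∀ (y : G) (s : S), (QuotientGroup.mk ((s : G) * y * (s : G)⁻¹) : G ⧸ S) =
        QuotientGroup.mk y := fun y s => by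
      rw [QuotientGroup.eq]
      have h1 : y⁻¹ * (s : G)⁻¹ * y ∈ S := by
        simpa using (inferInstance : S.Normal).conj_mem _ (inv_mem s.2) y⁻¹
      have h2 := mul_mem s.2 h1
      rwa [show ((s : G) * y * (s : G)⁻¹)⁻¹ * y = (s : G) * (y⁻¹ * (s : G)⁻¹ * y) by group]
    have hy : y = y' := by
      have h1 : (QuotientGroup.mk (y : G) : G ⧸ S) = QuotientGroup.mk (y' : G) := by
        rw [← hmk (y : G) q.out, e', hmk]
      rw [QuotientGroup.eq] at h1
      have h2 : (y : G)⁻¹ * y' = 1 :=
        Subgroup.disjoint_def.1 hd h1 (mul_mem (inv_mem y.2) y'.2)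
      exact Subtype.ext (inv_mul_eq_one.1 h2)
    subst hy
    have hq : q = q' := by
      rw [← q.out_eq', ← q'.out_eq', QuotientGroup.eq, Subgroup.mem_subgroupOf,
        Subgroup.coe_mul, Subgroup.coe_inv, Subgroup.mem_centralizer_singleton_iff]
      calc (q.out : G)⁻¹ * (q'.out : G) * (y : G)
          = (q.out : G)⁻¹ * ((q'.out : G) * (y : G) * (q'.out : G)⁻¹) * (q'.out : G) := by group
        _ = (y : G) * ((q.out : G)⁻¹ * (q'.out : G)) := by rw [← e']; group
    rw [hq]
  have h := Nat.card_le_card_of_injective f hinj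
  rw [Nat.card_sigma] at h
  exact h

/-- The normalizer of the Sylow subgroup has the same proportion of elements of odd order, and a
complement. -/
theorem normalizer_split (S : Sylow 2 G) (hS : ∀ s ∈ (S : Subgroup G), s * s = 1) {μ : ℕ}
    (hμ : nodd G * Nat.card (S : Subgroup G) = μ * Nat.card G) :
    ∃ L : Subgroup G, L ≤ Subgroup.normalizer ((S : Subgroup G) : Set G) ∧
      Disjoint (S : Subgroup G) L ∧ Odd (Nat.card L) ∧
      Nat.card (Subgroup.normalizer ((S : Subgroup G) : Set G)) =
        Nat.card (S : Subgroup G) * Nat.card L ∧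
      (∀ g ∈ Subgroup.normalizer ((S : Subgroup G) : Set G),
        ∃ s ∈ (S : Subgroup G), ∃ y ∈ L, g = s * y) ∧
      ∀ [Fintype L], ∑ y : L,
        ((Subgroup.centralizer ({(y : G)} : Set G)).subgroupOf (S : Subgroup G)).index ≤
          μ * Nat.card L := by
  classical
  haveI : Fact (Nat.Prime 2) := ⟨Nat.prime_two⟩
  set N := Subgroup.normalizer ((S : Subgroup G) : Set G) with hN
  have hSN : (S : Subgroup G) ≤ N := Subgroup.le_normalizer
  set S' := (S : Subgroup G).subgroupOf N with hS'
  haveI hn : S'.Normal := Subgroup.normal_in_normalizer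
  have hcS : Nat.card S' = Nat.card (S : Subgroup G) :=
    Nat.card_congr (Subgroup.subgroupOfEquivOfLe hSN).toEquiv
  have hcop : (Nat.card S').Coprime S'.index := (S.subtype hSN).card_coprime_index
  obtain ⟨L', hL'⟩ := Subgroup.exists_right_complement'_of_coprime hcop
  have hLc : Nat.card L' = S'.index := (hL'.symm.index_eq_card).symm
  have hLodd : Odd (Nat.card L') := by
    rw [hLc, ← Nat.not_even_iff_odd, even_iff_two_dvd]
    exact (S.subtype hSN).not_dvd_index
  set L := L'.map N.subtype with hLdef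
  have hcL : Nat.card L = Nat.card L' :=
    (Nat.card_congr (L'.equivMapOfInjective _ N.subtype_injective).toEquiv).symm
  have hmul := hL'.card_mul_card
  rw [hcS] at hmul
  have hd : Disjoint (S : Subgroup G) L := by
    rw [Subgroup.disjoint_def]
    rintro _ hxS ⟨x, hx, rfl⟩
    have := Subgroup.disjoint_def.1 hL'.disjoint (show x ∈ S' from hxS) hx
    rw [this, map_one]
  refine ⟨L, Subgroup.map_subtype_le _, hd, hcL ▸ hLodd, by rw [hcL, hmul], fun g hg => ?_, ?_⟩
  · obtain ⟨⟨s, y⟩, e⟩ := hL'.2 ⟨g, hg⟩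
    exact ⟨_, s.2, _, ⟨y, y.2, rfl⟩, (congrArg Subtype.val e).symm⟩
  intro hfin
  have hlem := nodd_mul_normalizer _ G rfl S hS
  have hNval : nodd N = μ * Nat.card L := by
    rw [← hmul, ← hcL] at hlem
    refine Nat.eq_of_mul_eq_mul_left (Nat.card_pos (α := G)) ?_
    calc Nat.card G * nodd N = nodd N * Nat.card G := mul_comm _ _
      _ = nodd G * (Nat.card (S : Subgroup G) * Nat.card L) := hlem.symm
      _ = (nodd G * Nat.card (S : Subgroup G)) * Nat.card L := by ring
      _ = _ := by rw [hμ]; ring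
  letI := Fintype.ofFinite L'
  refine le_trans (le_of_eq ?_) (hNval ▸ coset_count S' L' hLodd hL'.disjoint)
  refine (Fintype.sum_equiv (L'.equivMapOfInjective _ N.subtype_injective).toEquiv _ _ fun y => ?_).symm
  show _ = ((Subgroup.centralizer ({((y : N) : G)} : Set G)).subgroupOf (S : Subgroup G)).index
  have e : ((Subgroup.centralizer ({(y : N)} : Set N)).subgroupOf S').map
      (Subgroup.subgroupOfEquivOfLe hSN).toMonoidHom =
      (Subgroup.centralizer ({((y : N) : G)} : Set G)).subgroupOf (S : Subgroup G) := by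
    ext s
    rw [Subgroup.mem_map_equiv, Subgroup.mem_subgroupOf, Subgroup.mem_subgroupOf,
      Subgroup.mem_centralizer_singleton_iff, Subgroup.mem_centralizer_singleton_iff, Subtype.ext_iff]
    rfl
  rw [← e]
  exact (Subgroup.index_map_of_bijective (Subgroup.subgroupOfEquivOfLe hSN).bijective _).symm

/-- One: the Sylow subgroup has a normal complement. -/
theorem complement_of_one (S : Sylow 2 G) (hS : ∀ s ∈ (S : Subgroup G), s * s = 1)
    (hμ : nodd G * Nat.card (S : Subgroup G) = Nat.card G) :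
    ∃ O : Subgroup G, O.Normal ∧ Nat.card O * Nat.card (S : Subgroup G) = Nat.card G ∧
      Odd (Nat.card O) := by
  classical
  haveI : Fact (Nat.Prime 2) := ⟨Nat.prime_two⟩
  obtain ⟨L, hLN, hd, -, -, hdec, hsum⟩ := normalizer_split S hS (μ := 1) (by rw [hμ, one_mul])
  letI := Fintype.ofFinite L
  have hone : ∀ y : L,
      ((Subgroup.centralizer ({(y : G)} : Set G)).subgroupOf (S : Subgroup G)).index = 1 := by
    intro y
    have h1 : ∀ w : L, 1 ≤
        ((Subgroup.centralizer ({(w : G)} : Set G)).subgroupOf (S : Subgroup G)).index :=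
      fun w => Nat.one_le_iff_ne_zero.2 Subgroup.index_ne_zero_of_finite
    by_contra hne
    have h2 : ∑ _w : L, 1 < ∑ w : L,
        ((Subgroup.centralizer ({(w : G)} : Set G)).subgroupOf (S : Subgroup G)).index :=
      Finset.sum_lt_sum (fun w _ => h1 w) ⟨y, Finset.mem_univ _, by have := h1 y; omega⟩
    rw [Finset.sum_const, Finset.card_univ, smul_eq_mul, mul_one, ← Nat.card_eq_fintype_card] at h2
    have h3 := hsum
    omega
  have hle : Subgroup.normalizer ((S : Subgroup G) : Set G) ≤
      Subgroup.centralizer ((S : Subgroup G) : Set G) := by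
    intro g hg
    obtain ⟨s, hs, y, hy, rfl⟩ := hdec g hg
    refine mul_mem (Subgroup.mem_centralizer_iff.2 fun a ha => comm_of_exp_two hS a ha s hs) ?_
    refine Subgroup.mem_centralizer_iff.2 fun a ha => ?_
    have h1 := Subgroup.index_eq_one.1 (hone ⟨y, hy⟩)
    have h2 : (⟨a, ha⟩ : (S : Subgroup G)) ∈
        (Subgroup.centralizer ({y} : Set G)).subgroupOf (S : Subgroup G) := h1 ▸ Subgroup.mem_top _
    exact Subgroup.mem_centralizer_singleton_iff.1 (Subgroup.mem_subgroupOf.1 h2)
  refine ⟨(MonoidHom.transferSylow S hle).ker, inferInstance,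
    (MonoidHom.ker_transferSylow_isComplement' S hle).card_mul_card, ?_⟩
  rw [← Nat.not_even_iff_odd, even_iff_two_dvd]
  exact MonoidHom.not_dvd_card_ker_transferSylow S hle

/-- Three: the normalizer has order `3 |S|` and each of its elements of order three centralizes a
subgroup of index four of `S`. -/
theorem structure_of_three (S : Sylow 2 G) (hS : ∀ s ∈ (S : Subgroup G), s * s = 1)
    (hμ : nodd G * Nat.card (S : Subgroup G) = 3 * Nat.card G)
    (hkey : ∀ y : G, Odd (orderOf y) → ∀ T ≤ (S : Subgroup G),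
      Nat.card (S : Subgroup G) ≤ 2 * Nat.card T → (∀ t ∈ T, y * t = t * y) → y = 1) :
    Nat.card (Subgroup.normalizer ((S : Subgroup G) : Set G)) = 3 * Nat.card (S : Subgroup G) ∧
    ∀ y ∈ Subgroup.normalizer ((S : Subgroup G) : Set G), Odd (orderOf y) → y ≠ 1 →
      4 * Nat.card ↥((S : Subgroup G) ⊓ Subgroup.centralizer ({y} : Set G)) =
        Nat.card (S : Subgroup G) := by
  classical
  haveI : Fact (Nat.Prime 2) := ⟨Nat.prime_two⟩
  obtain ⟨L, hLN, hd, hLodd, hcard, hdec, hsum⟩ := normalizer_split S hS hμ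
  letI := Fintype.ofFinite L
  set T : G → Subgroup (S : Subgroup G) :=
    fun y => (Subgroup.centralizer ({y} : Set G)).subgroupOf (S : Subgroup G) with hT
  have h4 : ∀ y : L, y ≠ 1 → 4 ∣ (T (y : G)).index := by
    intro y hy
    obtain ⟨n, hn⟩ := IsPGroup.iff_card.1 S.isPGroup'
    obtain ⟨i, -, hi⟩ := (Nat.dvd_prime_pow Nat.prime_two).1
      (show (T (y : G)).index ∣ 2 ^ n from hn ▸ Subgroup.index_dvd_card _)
    rw [hi]
    by_contra hc
    have hi1 : i ≤ 1 := by
      by_contra hgt
      exact hc (by rw [show (4 : ℕ) = 2 ^ 2 by norm_num]; exact pow_dvd_pow 2 (by omega))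
    refine hy (Subtype.ext (hkey _ (hLodd.of_dvd_nat (by
      rw [Subgroup.orderOf_coe]; exact orderOf_dvd_natCard _))
      ((T (y : G)).map (S : Subgroup G).subtype) (Subgroup.map_subtype_le _) ?_ ?_))
    · rw [Nat.card_congr
        (Subgroup.equivMapOfInjective _ _ (S : Subgroup G).subtype_injective).symm.toEquiv,
        ← (T (y : G)).index_mul_card, hi]
      exact Nat.mul_le_mul_right _ (by
        calc 2 ^ i ≤ 2 ^ 1 := Nat.pow_le_pow_right (by norm_num) hi1
          _ = 2 := rfl)
    · rintro _ ⟨t, ht, rfl⟩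
      exact (Subgroup.mem_centralizer_singleton_iff.1 (Subgroup.mem_subgroupOf.1 ht)).symm
  have hpos : ∀ y : L, 0 < (T (y : G)).index :=
    fun y => Nat.pos_of_ne_zero Subgroup.index_ne_zero_of_finite
  have hbig : ∀ y : L, y ≠ 1 → 4 ≤ (T (y : G)).index := fun y hy => Nat.le_of_dvd (hpos y) (h4 y hy)
  have hsum' : ∑ y : L, (T (y : G)).index ≤ 3 * Nat.card L := hsum
  rw [← Finset.add_sum_erase _ _ (Finset.mem_univ (1 : L))] at hsum'
  have hle4 : (Finset.univ.erase (1 : L)).card * 4 ≤
      ∑ y ∈ Finset.univ.erase (1 : L), (T (y : G)).index := by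
    rw [← smul_eq_mul]
    exact Finset.card_nsmul_le_sum _ _ _ fun y hy => hbig y (Finset.ne_of_mem_erase hy)
  rw [Finset.card_erase_of_mem (Finset.mem_univ _), Finset.card_univ, ← Nat.card_eq_fintype_card]
    at hle4
  have hp1 := hpos 1
  have hl : Nat.card L = 1 ∨ Nat.card L = 3 := by
    obtain ⟨i, hi⟩ := hLodd
    omega
  rcases hl with hl | hl
  · exfalso
    -- the normalizer is a 2-group
    rw [hl, mul_one] at hcard
    have hlem := nodd_mul_normalizer _ G rfl S hS
    rw [hcard, hμ] at hlem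
    have hn1 : nodd (Subgroup.normalizer ((S : Subgroup G) : Set G)) = 3 :=
      (Nat.eq_of_mul_eq_mul_right (Nat.card_pos (α := G)) hlem).symm
    obtain ⟨n, hn⟩ := IsPGroup.iff_card.1 S.isPGroup'
    have hone : ∀ g : {g : Subgroup.normalizer ((S : Subgroup G) : Set G) // Odd (orderOf g)},
        g.1 = 1 := by
      rintro ⟨g, hg⟩
      refine orderOf_eq_one_iff.1 (Nat.eq_one_of_dvd_coprimes ?_ dvd_rfl (hn ▸ hcard ▸ orderOf_dvd_natCard g))
      exact Nat.Coprime.pow_right n ((Nat.coprime_two_right).2 hg)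
    haveI : Subsingleton {g : Subgroup.normalizer ((S : Subgroup G) : Set G) // Odd (orderOf g)} :=
      ⟨fun a b => Subtype.ext ((hone a).trans (hone b).symm)⟩
    have := Finite.card_le_one_iff_subsingleton.2 this
    rw [show Nat.card {g : Subgroup.normalizer ((S : Subgroup G) : Set G) // Odd (orderOf g)} =
      nodd (Subgroup.normalizer ((S : Subgroup G) : Set G)) from rfl, hn1] at this
    omega
  refine ⟨by rw [hcard, hl, mul_comm], fun g hg hgo hg1 => ?_⟩
  obtain ⟨s, hs, y, hy, rfl⟩ := hdec g hg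
  have hy1 : (⟨y, hy⟩ : L) ≠ 1 := fun e => by
    have e' : y = 1 := congrArg Subtype.val e
    rw [e', mul_one] at hgo hg1
    have h1 := orderOf_dvd_of_pow_eq_one (show s ^ 2 = 1 by rw [pow_two]; exact hS s hs)
    exact hg1 (orderOf_eq_one_iff.1
      (Nat.eq_one_of_dvd_coprimes ((Nat.coprime_two_right).2 hgo) dvd_rfl h1))
  have hidx : (T y).index = 4 := by
    refine le_antisymm ?_ (hbig ⟨y, hy⟩ hy1)
    by_contra hgt
    have h2 := Finset.sum_lt_sum (f := fun _ => 4) (g := fun w : L => (T (w : G)).index)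
      (s := Finset.univ.erase (1 : L)) (fun w hw => hbig w (Finset.ne_of_mem_erase hw))
      ⟨⟨y, hy⟩, Finset.mem_erase.2 ⟨hy1, Finset.mem_univ _⟩, by simp only; omega⟩
    rw [Finset.sum_const, Finset.card_erase_of_mem (Finset.mem_univ _), Finset.card_univ,
      ← Nat.card_eq_fintype_card, smul_eq_mul] at h2
    omega
  have hmem : ∀ a ∈ (S : Subgroup G), a * (s * y) = (s * y) * a ↔ a * y = y * a := by
    intro a ha
    rw [← mul_assoc a, comm_of_exp_two hS a ha s hs, mul_assoc, mul_assoc, mul_right_inj]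
  have hcardT : Nat.card ↥((S : Subgroup G) ⊓ Subgroup.centralizer ({s * y} : Set G)) = Nat.card (T y) :=
    Nat.card_congr
      { toFun := fun a => ⟨⟨a.1, a.2.1⟩, Subgroup.mem_subgroupOf.2
          (Subgroup.mem_centralizer_singleton_iff.2
            ((hmem a.1 a.2.1).1 (Subgroup.mem_centralizer_singleton_iff.1 a.2.2)))⟩
        invFun := fun a => ⟨(a.1 : G), a.1.2, Subgroup.mem_centralizer_singleton_iff.2
          ((hmem (a.1 : G) a.1.2).2
            (Subgroup.mem_centralizer_singleton_iff.1 (Subgroup.mem_subgroupOf.1 a.2)))⟩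
        left_inv := fun a => rfl
        right_inv := fun a => rfl }
  rw [hcardT, ← hidx, Subgroup.index_mul_card]

/-- The incidences of the involutions of `S` with a complement of `S` in its normalizer. -/
theorem no_three (S : Sylow 2 G) (hS : ∀ s ∈ (S : Subgroup G), s * s = 1)
    (hbig : 32 ≤ Nat.card (S : Subgroup G))
    (h3 : ∀ s ∈ (S : Subgroup G), s ≠ 1 →
      Nat.card ↥(Subgroup.normalizer ((S : Subgroup G) : Set G) ⊓
        Subgroup.centralizer ({s} : Set G)) = 3 * Nat.card (S : Subgroup G))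
    (h4 : ∀ s ∈ (S : Subgroup G), s ≠ 1 → ∀ y ∈ Subgroup.normalizer ((S : Subgroup G) : Set G),
      y * s = s * y → Odd (orderOf y) → y ≠ 1 →
      4 * Nat.card ↥((S : Subgroup G) ⊓ Subgroup.centralizer ({y} : Set G)) =
        Nat.card (S : Subgroup G)) : False := by
  classical
  haveI : Fact (Nat.Prime 2) := ⟨Nat.prime_two⟩
  haveI : Fintype G := Fintype.ofFinite _
  set N := Subgroup.normalizer ((S : Subgroup G) : Set G) with hN
  set n := Nat.card (S : Subgroup G) with hn
  have hSN : (S : Subgroup G) ≤ N := Subgroup.le_normalizer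
  haveI hnm : ((S : Subgroup G).subgroupOf N).Normal := Subgroup.normal_in_normalizer
  have hcop : (Nat.card ((S : Subgroup G).subgroupOf N)).Coprime ((S : Subgroup G).subgroupOf N).index :=
    (S.subtype hSN).card_coprime_index
  obtain ⟨L', hL'⟩ := Subgroup.exists_right_complement'_of_coprime hcop
  have hLodd : Odd (Nat.card L') := by
    rw [← hL'.symm.index_eq_card, ← Nat.not_even_iff_odd, even_iff_two_dvd]
    exact (S.subtype hSN).not_dvd_index
  set A := Finset.univ.filter fun s : G => s ∈ (S : Subgroup G) ∧ s ≠ 1 with hA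
  set B := Finset.univ.filter fun y : G => y ∈ L'.map N.subtype ∧ y ≠ 1 with hB
  have hBodd : ∀ y ∈ B, y ∈ N ∧ Odd (orderOf y) ∧ y ≠ 1 := by
    intro y hy
    obtain ⟨-, ⟨w, hw, rfl⟩, h1⟩ := Finset.mem_filter.1 hy
    exact ⟨w.2, hLodd.of_dvd_nat (by
      rw [Subgroup.coe_subtype, Subgroup.orderOf_coe]; exact Subgroup.orderOf_dvd_natCard _ hw), h1⟩
  have hrow : ∀ s ∈ A, (B.filter fun y => y * s = s * y).card = 2 := by
    intro s hs
    obtain ⟨-, hsS, hs1⟩ := Finset.mem_filter.1 hs
    set L₁ := (L'.map N.subtype) ⊓ Subgroup.centralizer ({s} : Set G)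
    have hcard : Nat.card L₁ = 3 := by
      have hprod : Nat.card ↥(N ⊓ Subgroup.centralizer ({s} : Set G)) =
          Nat.card (S : Subgroup G) * Nat.card L₁ := by
        rw [← Nat.card_prod]
        have hmem : ∀ w : ↥(S : Subgroup G) × L₁,
            (w.1 : G) * w.2 ∈ N ⊓ Subgroup.centralizer ({s} : Set G) := fun w =>
          ⟨mul_mem (hSN w.1.2) (Subgroup.map_subtype_le L' w.2.2.1), mul_mem
            (Subgroup.mem_centralizer_singleton_iff.2 (comm_of_exp_two hS _ w.1.2 _ hsS)) w.2.2.2⟩
        refine (Nat.card_eq_of_bijective (fun w : ↥(S : Subgroup G) × L₁ => ⟨(w.1 : G) * w.2, hmem w⟩)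
          ⟨?_, ?_⟩).symm
        · rintro ⟨a, b⟩ ⟨a', b'⟩ e
          have e' : (a : G) * b = a' * b' := congrArg Subtype.val e
          obtain ⟨⟨w, hw, hwb⟩, -⟩ := b.2
          obtain ⟨⟨w', hw', hwb'⟩, -⟩ := b'.2
          have h := hL'.1 (a₁ := (⟨⟨(a : G), hSN a.2⟩, a.2⟩, ⟨w, hw⟩))
            (a₂ := (⟨⟨(a' : G), hSN a'.2⟩, a'.2⟩, ⟨w', hw'⟩)) (Subtype.ext (by
              show (a : G) * (w : G) = (a' : G) * (w' : G)
              rw [Subgroup.coe_subtype] at hwb hwb'
              rw [hwb, hwb', e']))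
          simp only [Prod.mk.injEq, Subtype.mk.injEq] at h
          refine Prod.ext (Subtype.ext (congrArg (fun q => ((q : N) : G)) (congrArg Subtype.val h.1))) (Subtype.ext ?_)
          rw [← hwb, ← hwb', h.2]
        · rintro ⟨g, hgN, hgC⟩
          obtain ⟨⟨a, b⟩, e⟩ := hL'.2 ⟨g, hgN⟩
          have e' : ((a : N) : G) * ((b : N) : G) = g := congrArg Subtype.val e
          have hbC : ((b : N) : G) ∈ Subgroup.centralizer ({s} : Set G) := by
            have haC : ((a : N) : G) ∈ Subgroup.centralizer ({s} : Set G) :=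
              Subgroup.mem_centralizer_singleton_iff.2 (comm_of_exp_two hS _ a.2 _ hsS)
            have h := mul_mem (inv_mem haC) hgC
            rwa [← e', inv_mul_cancel_left] at h
          exact ⟨(⟨_, a.2⟩, ⟨_, ⟨b, b.2, rfl⟩, hbC⟩), Subtype.ext e'⟩
      rw [h3 s hsS hs1, mul_comm 3] at hprod
      exact (Nat.eq_of_mul_eq_mul_left (Nat.card_pos) hprod).symm
    have he : (B.filter fun y => y * s = s * y) =
        (Finset.univ.filter fun y : G => y ∈ L₁).erase 1 := by
      ext y
      simp only [hB, Finset.mem_filter, Finset.mem_univ, true_and, Finset.mem_erase, L₁,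
        Subgroup.mem_inf, Subgroup.mem_centralizer_singleton_iff]
      tauto
    rw [he, Finset.card_erase_of_mem (Finset.mem_filter.2 ⟨Finset.mem_univ _, one_mem _⟩),
      ← Fintype.card_subtype, ← Nat.card_eq_fintype_card]
    omega
  have hcol : ∀ y ∈ B, (A.filter fun s => y * s = s * y).card = 0 ∨
      (A.filter fun s => y * s = s * y).card = n / 4 - 1 := by
    intro y hy
    obtain ⟨hyN, hyo, hy1⟩ := hBodd y hy
    rcases Finset.eq_empty_or_nonempty (A.filter fun s => y * s = s * y) with he | ⟨s, hs⟩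
    · exact Or.inl (by rw [he, Finset.card_empty])
    right
    obtain ⟨hsA, hys⟩ := Finset.mem_filter.1 hs
    obtain ⟨-, hsS, hs1⟩ := Finset.mem_filter.1 hsA
    have h := h4 s hsS hs1 y hyN hys hyo hy1
    have he : (A.filter fun s => y * s = s * y) = (Finset.univ.filter fun a : G =>
        a ∈ (S : Subgroup G) ⊓ Subgroup.centralizer ({y} : Set G)).erase 1 := by
      ext a
      simp only [hA, Finset.mem_filter, Finset.mem_univ, true_and, Finset.mem_erase,
        Subgroup.mem_inf, Subgroup.mem_centralizer_singleton_iff, eq_comm (a := y * a)]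
      tauto
    rw [he, Finset.card_erase_of_mem (Finset.mem_filter.2 ⟨Finset.mem_univ _, one_mem _⟩),
      ← Fintype.card_subtype, ← Nat.card_eq_fintype_card]
    omega
  have hAc : A.card = n - 1 := by
    have he : A = (Finset.univ.filter fun a : G => a ∈ (S : Subgroup G)).erase 1 := by
      ext a
      simp only [hA, Finset.mem_filter, Finset.mem_univ, true_and, Finset.mem_erase]
      tauto
    rw [he, Finset.card_erase_of_mem (Finset.mem_filter.2 ⟨Finset.mem_univ _, one_mem _⟩),
      ← Fintype.card_subtype, ← Nat.card_eq_fintype_card]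
  have hswap : ∑ s ∈ A, (B.filter fun y => y * s = s * y).card =
      ∑ y ∈ B, (A.filter fun s => y * s = s * y).card := by
    simp only [Finset.card_filter]
    exact Finset.sum_comm
  rw [Finset.sum_congr rfl hrow, Finset.sum_const, smul_eq_mul, hAc] at hswap
  have hdiv : n / 4 - 1 ∣ (n - 1) * 2 := by
    rw [hswap]
    refine Finset.dvd_sum fun y hy => ?_
    rcases hcol y hy with e | e <;> rw [e]
    exact dvd_zero _
  obtain ⟨i, hi⟩ := IsPGroup.iff_card.1 S.isPGroup'
  have h4n : 4 ∣ n := by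
    rw [hn, hi]
    have : 2 ≤ i := by
      by_contra hlt
      have : 2 ^ i ≤ 2 ^ 1 := Nat.pow_le_pow_right (by norm_num) (by omega)
      omega
    exact (show (4 : ℕ) = 2 ^ 2 by norm_num) ▸ pow_dvd_pow 2 this
  obtain ⟨q, hq⟩ := h4n
  rw [hq, Nat.mul_div_cancel_left _ (by norm_num : 0 < 4)] at hdiv
  have h6 : q - 1 ∣ 6 := by
    rw [show (4 * q - 1) * 2 = 6 + (q - 1) * 8 by omega] at hdiv
    exact (Nat.dvd_add_left (dvd_mul_right _ _)).1 hdiv
  have := Nat.le_of_dvd (by norm_num) h6
  omega

end Cfsg.Agent.Block.ThreeP
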