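import Mathlib
import Cfsg.Agent.Lib.Block.ThreeP.Local
import Cfsg.Agent.Lib.Block.ThreeP.Five

/-!
The case `π = 1 + χ` with `χ` vanishing at the involutions: no group.
-/

set_option autoImplicit false
set_option linter.unusedSectionVars false
set_option linter.style.haveILetI false

namespace Cfsg.Agent.Block.ThreeP

open scoped ComplexConjugate
open Cfsg Cfsg.Agent.Block Cfsg.Agent.Block.PermChar Cfsg.Agent.Char

universe u v

variable {G : Type u} [Group G] [Fintype G] {Ω : Type v} [Fintype Ω] [MulAction G Ω] {p : ℕ}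
  [Fact p.Prime] (H : Hyps G Ω p)

/-- An element of odd order power: a conjugating power between two involutions with odd product. -/
theorem exists_conj_of_odd_prod {G : Type u} [Group G] {z w : G} (hz : z * z = 1) (hw : w * w = 1)
    (ho : Odd (orderOf (z * w))) : ∃ i : ℕ, (z * w) ^ i * z * ((z * w) ^ i)⁻¹ = w := by
  obtain ⟨i, hi⟩ := ho
  refine ⟨i, ?_⟩
  have hinv : z * (z * w) * z⁻¹ = (z * w)⁻¹ := by
    rw [mul_inv_rev, inv_eq_of_mul_eq_one_left hz, inv_eq_of_mul_eq_one_left hw, ← mul_assoc z z, hz,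
      one_mul]
  have h2 : z * ((z * w) ^ i)⁻¹ * z⁻¹ = (z * w) ^ i := by
    rw [← inv_pow, ← conj_pow, show z * (z * w)⁻¹ * z⁻¹ = (z * (z * w) * z⁻¹)⁻¹ by group, hinv,
      inv_inv]
  have h3 : (z * w) ^ (2 * i + 1) = 1 := hi ▸ pow_orderOf_eq_one (z * w)
  calc (z * w) ^ i * z * ((z * w) ^ i)⁻¹
      = (z * w) ^ i * (z * ((z * w) ^ i)⁻¹ * z⁻¹) * z := by group
    _ = (z * w) ^ (2 * i) * z := by rw [h2, ← pow_add, two_mul]
    _ = (z * w)⁻¹ * z := by
        congr 1
        exact eq_inv_of_mul_eq_one_left (by rw [← pow_succ, h3])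
    _ = _ := by rw [mul_inv_rev, inv_eq_of_mul_eq_one_left hw, inv_eq_of_mul_eq_one_left hz,
        mul_assoc, hz, mul_one]

/-- Rank two gives transitivity on pairs. -/
theorem pair_transitive [DecidableEq Ω] (htr : MulAction.IsPretransitive G Ω) [Nonempty Ω]
    {χ : IrrCharacter G} (hχ : χ ≠ one₀ G) (h1 : mult G Ω (χ : G → ℂ) = 1)
    (hall : ∀ η : IrrCharacter G, η ≠ one₀ G → η ≠ χ → mult G Ω (η : G → ℂ) = 0)
    {a b c d : Ω} (hab : a ≠ b) (hcd : c ≠ d) : ∃ g : G, g • a = c ∧ g • b = d := by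
  classical
  haveI := htr
  have hsum := sum_mult_sq (G := G) (Ω := Ω)
  rw [← Finset.sum_subset (Finset.subset_univ {one₀ G, χ}) (fun η _ hη => by
      simp only [Finset.mem_insert, Finset.mem_singleton, not_or] at hη
      rw [hall η hη.1 hη.2, zero_mul]), Finset.sum_pair (Ne.symm hχ), PermChar.mult_one, h1, map_one,
    one_mul, Cfsg.Agent.S0669.result a] at hsum
  have hq : Nat.card (MulAction.orbitRel.Quotient (MulAction.stabilizer G a) Ω) = 2 := by
    have h2 : ((Nat.card (MulAction.orbitRel.Quotient (MulAction.stabilizer G a) Ω) : ℕ) : ℂ) =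
        ((2 : ℕ) : ℂ) := by rw [← hsum]; norm_num
    exact Nat.cast_injective h2
  obtain ⟨g, hg⟩ := MulAction.exists_smul_eq G c a
  have hne : ∀ x : Ω, x ≠ a → (Quotient.mk'' x :
      MulAction.orbitRel.Quotient (MulAction.stabilizer G a) Ω) ≠ Quotient.mk'' a := by
    intro x hx e
    obtain ⟨h, hh⟩ := Quotient.exact' e
    exact hx ((show (h : G) • a = x from hh).symm.trans h.2)
  have hx : g • d ≠ a := fun e => hcd (smul_left_cancel g (hg.trans e.symm))
  have heq : (Quotient.mk'' (g • d) : MulAction.orbitRel.Quotient (MulAction.stabilizer G a) Ω) =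
      Quotient.mk'' b := by
    obtain ⟨w, -, hw⟩ := (Nat.card_eq_two_iff' (Quotient.mk'' a :
      MulAction.orbitRel.Quotient (MulAction.stabilizer G a) Ω)).1 hq
    rw [hw _ (hne _ hx), hw _ (hne _ (Ne.symm hab))]
  obtain ⟨h, hh⟩ := Quotient.exact' heq
  refine ⟨g⁻¹ * (h : G), ?_, ?_⟩
  · rw [mul_smul, h.2, inv_smul_eq_iff, hg]
  · rw [mul_smul, show (h : G) • b = g • d from hh, inv_smul_smul]

include H in
set_option maxHeartbeats 1000000 in
/-- No group has `π = 1 + χ` with `χ (z) = 0`. -/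
theorem no_minus [DecidableEq Ω] [IsSimpleGroup G] [FaithfulSMul G Ω] (D : Neg G p)
    (hf : D.f + 1 = 3 * p) (hm1 : mult G Ω (D.χ : G → ℂ) = 1)
    (hall : ∀ η : IrrCharacter G, η ≠ one₀ G → η ≠ D.χ → mult G Ω (η : G → ℂ) = 0)
    {v : ℤ} {c : ℕ} (hex : ∃ z : G, orderOf z = 2)
    (hone : ∀ z w : G, orderOf z = 2 → orderOf w = 2 → IsConj z w)
    (hzv : ∀ z : G, orderOf z = 2 → (D.χ : G → ℂ) z = v ∧
      Nat.card (Subgroup.centralizer ({z} : Set G)) = c)
    (heq : (p : ℤ) * (c : ℤ) ^ 2 * ((D.f : ℤ) * ((D.f : ℤ) - 1)) =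
      (Nat.card G : ℤ) * ((D.f : ℤ) - v) ^ 2)
    (h4v : (4 : ℤ) ∣ (D.f : ℤ) - v) (h2c : c.factorization 2 = (Nat.card G).factorization 2)
    (hv : v = 0) : False := by
  classical
  haveI : Fact (Nat.Prime 2) := ⟨Nat.prime_two⟩
  have hp : p.Prime := Fact.out
  have hp3 := H.hp3
  haveI := H.trans
  haveI := H.nonempty
  subst hv
  obtain ⟨z₀, hz₀⟩ := hex
  have hpi := H.pi_two (Ne.symm D.triv_ne) hm1 hall
  have hinv1 : ∀ w : G, orderOf w = 2 → nfix Ω w = 1 := fun w hw => by
    apply Nat.cast_injective (R := ℂ)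
    rw [hpi w, (hzv w hw).1, Int.cast_zero, add_zero, Nat.cast_one]
  have hfix : ∀ w : G, orderOf w = 2 → ∀ a b : Ω, w • a = a → w • b = b → a = b := by
    intro w hw a b ha hb
    haveI : Subsingleton (MulAction.fixedBy Ω w) := (Nat.card_eq_one_iff_unique.1 (hinv1 w hw)).1
    exact congrArg Subtype.val (Subsingleton.elim (⟨a, ha⟩ : MulAction.fixedBy Ω w) ⟨b, hb⟩)
  have hfix1 : ∀ w : G, orderOf w = 2 → ∃ a : Ω, w • a = a := fun w hw => by
    obtain ⟨⟨a, ha⟩⟩ := (Nat.card_eq_one_iff_unique.1 (hinv1 w hw)).2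
    exact ⟨a, ha⟩
  -- elements of even order
  have hev : ∀ g : G, 2 ∣ orderOf g → nfix Ω g = 1 := by
    intro g hg
    obtain ⟨n, hn⟩ := exists_inv_pow hg
    obtain ⟨a, ha⟩ := hfix1 _ hn
    have hga : g • a = a := hfix _ hn (g • a) a (by
      rw [← mul_smul, (Commute.self_pow g n).eq.symm, mul_smul, ha]) ha
    rw [nfix, Nat.card_eq_one_iff_unique]
    exact ⟨⟨fun x y => Subtype.ext (hfix _ hn _ _ (fix_pow x.2 n) (fix_pow y.2 n))⟩,
      ⟨⟨a, hga⟩⟩⟩
  -- the order
  have hf2 := D.two_le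
  have heq' : Nat.card G * D.f = p * c ^ 2 * (D.f - 1) := by
    have h1 : (p : ℤ) * (c : ℤ) ^ 2 * ((D.f : ℤ) - 1) * (D.f : ℤ) =
        (Nat.card G : ℤ) * (D.f : ℤ) * (D.f : ℤ) := by linear_combination heq
    have h2 := mul_right_cancel₀ (Int.natCast_ne_zero.2 (by omega)) h1
    rw [show (D.f : ℤ) - 1 = ((D.f - 1 : ℕ) : ℤ) by omega] at h2
    exact_mod_cast h2.symm
  obtain ⟨α₀, hα₀⟩ := hfix1 z₀ hz₀
  obtain ⟨q, hq⟩ : c ∣ Nat.card (MulAction.stabilizer G α₀) := by
    rw [← (hzv z₀ hz₀).2]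
    refine Subgroup.card_dvd_of_le fun g hg => hfix z₀ hz₀ _ _ ?_ hα₀
    rw [← mul_smul, ← Subgroup.mem_centralizer_singleton_iff.1 hg, mul_smul, hα₀]
  have hG := H.stab_card α₀
  rw [hq] at hG
  have hc0 : 0 < c := (hzv z₀ hz₀).2 ▸ Nat.card_pos
  have hqf : 3 * D.f * q = c * (D.f - 1) := by
    refine Nat.eq_of_mul_eq_mul_left (Nat.mul_pos hp.pos hc0) ?_
    calc p * c * (3 * D.f * q) = c * q * (3 * p) * D.f := by ring
      _ = p * c ^ 2 * (D.f - 1) := by rw [hG, heq']
      _ = p * c * (c * (D.f - 1)) := by ring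
  have hcop : (3 * D.f).Coprime (D.f - 1) := by
    refine Nat.Coprime.mul_left ((Nat.prime_three.coprime_iff_not_dvd).2 fun h => ?_) ?_
    · obtain ⟨r, hr⟩ := h
      omega
    · have : D.f.Coprime (D.f - 1) := by
        conv_lhs => rw [show D.f = (D.f - 1) + 1 by omega]
        simp
      exact this
  obtain ⟨k, hk⟩ : 3 * D.f ∣ c := hcop.dvd_of_dvd_mul_right ⟨q, hqf.symm⟩
  have hq' : q = k * (D.f - 1) := by
    refine Nat.eq_of_mul_eq_mul_left (show 0 < 3 * D.f by omega) ?_
    rw [hqf, hk]; ring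
  have hk0 : 0 < k := Nat.pos_of_ne_zero fun e => by rw [hk, e, mul_zero] at hc0; omega
  obtain ⟨ν, j, hjodd, hfj⟩ := Nat.exists_eq_two_pow_mul_odd (show D.f ≠ 0 by omega)
  have hf4 : 4 ∣ D.f := by
    rw [sub_zero] at h4v
    exact_mod_cast h4v
  have hν : 2 ≤ ν := by
    by_contra hlt
    obtain ⟨r, hr⟩ := hf4
    obtain ⟨i, hi⟩ := hjodd
    interval_cases ν <;> omega
  have hp4 : p % 4 = 3 := by
    obtain ⟨r, hr⟩ := hf4
    omega
  have hGval : Nat.card G = 2 ^ ν * (9 * p * j * k ^ 2 * (D.f - 1)) := by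
    rw [← hG, hq', hk, hfj]; ring
  have hcval : c = 2 ^ ν * (3 * j * k) := by rw [hk, hfj]; ring
  have hfac : ∀ r : ℕ, Odd r → r.factorization 2 = 0 := fun r hr =>
    Nat.factorization_eq_zero_of_not_dvd fun h => Nat.not_even_iff_odd.2 hr (even_iff_two_dvd.2 h)
  have hf1odd : Odd (D.f - 1) := by
    obtain ⟨r, hr⟩ := hf4
    exact ⟨2 * r - 1, by omega⟩
  have hpodd : Odd p := hp.odd_of_ne_two (by omega)
  have hkodd : Odd k := by
    rw [← Nat.not_even_iff_odd, even_iff_two_dvd]
    intro h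
    have hk2 := (Nat.prime_two.dvd_iff_one_le_factorization hk0.ne').1 h
    have h9 : Odd (9 : ℕ) := ⟨4, by norm_num⟩
    have h3 : Odd (3 : ℕ) := ⟨1, by norm_num⟩
    have hj0 : j ≠ 0 := fun e => by rw [e] at hjodd; exact absurd hjodd (by decide)
    rw [hcval, hGval, Nat.factorization_mul (by positivity) (by positivity),
      Nat.factorization_mul (by positivity) (mul_ne_zero (mul_ne_zero (by positivity)
        (pow_ne_zero _ hk0.ne')) (by omega))] at h2c
    simp only [Finsupp.add_apply] at h2c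
    rw [Nat.factorization_mul (by positivity) hk0.ne',
      Nat.factorization_mul (a := 9 * p * j * k ^ 2) (mul_ne_zero (by positivity)
        (pow_ne_zero _ hk0.ne')) (by omega),
      Nat.factorization_mul (a := 9 * p * j) (by positivity) (pow_ne_zero _ hk0.ne')] at h2c
    simp only [Finsupp.add_apply, Nat.factorization_pow, Finsupp.smul_apply, smul_eq_mul,
      hfac _ hf1odd, hfac _ (h3.mul hjodd), hfac _ ((h9.mul hpodd).mul hjodd)] at h2c
    omega
  set m := 9 * p * j * k ^ 2 * (D.f - 1) with hm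
  have hmodd : Odd m :=
    ((((show Odd (9 : ℕ) from ⟨4, by norm_num⟩).mul hpodd).mul hjodd).mul hkodd.pow).mul hf1odd
  set c' := 3 * j * k with hc'
  have hc'odd : Odd c' := ((show Odd (3 : ℕ) from ⟨1, by norm_num⟩).mul hjodd).mul hkodd
  -- a Sylow 2-subgroup
  let S : Sylow 2 G := default
  have hScard : Nat.card (S : Subgroup G) = 2 ^ ν := by
    rw [S.card_eq_multiplicity, hGval, Nat.factorization_mul (by positivity) hmodd.pos.ne',
      Finsupp.add_apply, hfac _ hmodd, Nat.factorization_pow, Finsupp.smul_apply,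
      Nat.Prime.factorization_self Nat.prime_two, smul_eq_mul, mul_one, add_zero]
  have hSbot : (S : Subgroup G) ≠ ⊥ := fun e => by
    rw [e, Subgroup.card_bot] at hScard
    have := Nat.pow_le_pow_right (show 0 < 2 by norm_num) hν
    omega
  obtain ⟨z, hzS, hz, hzc⟩ := exists_central_inv S.isPGroup' hSbot
  set C := Subgroup.centralizer ({z} : Set G) with hC
  have hSC : (S : Subgroup G) ≤ C := fun g hg => Subgroup.mem_centralizer_singleton_iff.2 (hzc g hg)
  obtain ⟨α, hα⟩ := H.exists_fix S.isPGroup'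
  have hzα : z • α = α := hα z hzS
  have hsemi : ∀ t ∈ (S : Subgroup G), t ≠ 1 → ∀ b : Ω, t • b = b → b = α := by
    intro t ht ht1 b hb
    obtain ⟨n, hnS, hn⟩ := exists_inv_mem S.isPGroup' ht ht1
    exact hfix _ hn b α (fix_pow hb n) (hα _ hnS)
  have hCα : ∀ g ∈ C, g • α = α := fun g hg => hfix z hz _ _ (by
    rw [← mul_smul, ← Subgroup.mem_centralizer_singleton_iff.1 hg, mul_smul, hzα]) hzα
  set X : Finset Ω := Finset.univ.erase α with hX
  have hXcard : X.card = D.f := by
    rw [hX, Finset.card_erase_of_mem (Finset.mem_univ _), Finset.card_univ, H.card]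
    omega
  -- the centralizer is transitive on the moved points
  have htrans : ∀ a ∈ X, ∀ b ∈ X, ∃ g ∈ C, g • a = b := by
    intro a ha b hb
    have hne : ∀ x ∈ X, x ≠ z • x := fun x hx e =>
      Finset.ne_of_mem_erase hx (hfix z hz x α e.symm hzα)
    have hzz : z * z = 1 := by rw [← pow_two, ← hz, pow_orderOf_eq_one]
    obtain ⟨g, hga, hgz⟩ := pair_transitive H.trans (Ne.symm D.triv_ne) hm1 hall (hne a ha) (hne b hb)
    set w := g * z * g⁻¹ with hw
    have hw2 : orderOf w = 2 := by rw [hw, orderOf_conj, hz]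
    have hga' : g⁻¹ • b = a := by rw [inv_smul_eq_iff, hga]
    have hgz' : g⁻¹ • (z • b) = z • a := by rw [inv_smul_eq_iff, hgz]
    have hwb : w • b = z • b := by rw [hw, mul_smul, mul_smul, hga', hgz]
    have hwzb : w • z • b = b := by
      rw [hw, mul_smul, mul_smul, hgz', ← mul_smul z z, hzz, one_smul, hga]
    have hfb : (z * w) • b = b ∧ (z * w) • z • b = z • b := by
      refine ⟨by rw [mul_smul, hwb, ← mul_smul, hzz, one_smul], by rw [mul_smul, hwzb]⟩
    have hodd : Odd (orderOf (z * w)) := by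
      rw [← Nat.not_even_iff_odd, even_iff_two_dvd]
      intro h2
      obtain ⟨n, hn⟩ := exists_inv_pow h2
      exact hne b hb (hfix _ hn _ _ (fix_pow hfb.1 n) (fix_pow hfb.2 n))
    obtain ⟨i, hi⟩ := exists_conj_of_odd_prod hzz
      (show w * w = 1 by rw [← pow_two, ← hw2, pow_orderOf_eq_one]) hodd
    refine ⟨((z * w) ^ i)⁻¹ * g, Subgroup.mem_centralizer_singleton_iff.2 ?_, ?_⟩
    · calc ((z * w) ^ i)⁻¹ * g * z = ((z * w) ^ i)⁻¹ * w * g := by rw [hw]; group
        _ = ((z * w) ^ i)⁻¹ * ((z * w) ^ i * z * ((z * w) ^ i)⁻¹) * g := by rw [hi]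
        _ = z * (((z * w) ^ i)⁻¹ * g) := by group
    · rw [mul_smul, hga, inv_smul_eq_iff, fix_pow hfb.1 i]
  have hstab : ∀ b ∈ X, Nat.card ↥(C ⊓ MulAction.stabilizer G b) * D.f = c := by
    intro b hb
    have h := (MulAction.stabilizer C b).card_mul_index
    have horb : MulAction.orbit C b = ↑X := by
      ext a
      refine ⟨?_, fun ha => ?_⟩
      · rintro ⟨g, rfl⟩
        refine Finset.mem_coe.2 (Finset.mem_erase.2 ⟨fun e => Finset.ne_of_mem_erase hb ?_,
          Finset.mem_univ _⟩)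
        exact smul_left_cancel (g : G) ((show (g : G) • b = α from e).trans (hCα _ g.2).symm)
      · obtain ⟨g, hg, hga⟩ := htrans b hb a ha
        exact ⟨⟨g, hg⟩, hga⟩
    rw [MulAction.index_stabilizer, horb, Set.ncard_coe_finset, hXcard, (hzv z hz).2] at h
    rw [← h]
    congr 1
    exact Nat.card_congr
      { toFun := fun g => ⟨⟨g.1, g.2.1⟩, g.2.2⟩
        invFun := fun g => ⟨g.1.1, g.1.2, g.2⟩
        left_inv := fun g => rfl
        right_inv := fun g => rfl }
  -- counting the 2-singular elements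
  obtain ⟨μ, hμ⟩ := dvd_nodd hGval hmodd
  have hcardC : Nat.card C = 2 ^ ν * c' := by rw [hC, (hzv z hz).2, hcval]
  obtain ⟨μz, hμz⟩ := dvd_nodd hcardC hc'odd
  set E := Finset.univ.filter fun g : G => 2 ∣ orderOf g with hE
  have hEn : E.card + nodd G = Nat.card G := by
    have h1 : Finset.univ.filter (fun g : G => ¬ 2 ∣ orderOf g) =
        Finset.univ.filter fun g : G => Odd (orderOf g) :=
      Finset.filter_congr fun g _ => by rw [← even_iff_two_dvd, Nat.not_even_iff_odd]
    rw [hE, nodd, Nat.card_eq_fintype_card, Nat.card_eq_fintype_card, Fintype.card_subtype, ← h1,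
      Finset.card_filter_add_card_filter_not, Finset.card_univ]
  have hb0 : ((insert (trivialIrr G) D.Y).card : ℤ) * ∑ g ∈ E, (1 : ℤ) ^ 2 ≤ (Nat.card G : ℤ) := by
    refine norm_bound _ E (fun _ => 1) (fun θ => if θ = trivialIrr G then 1 else -1)
      (fun θ _ => by by_cases h : θ = trivialIrr G <;> simp [h]) fun θ hθ g hg => ?_
    rcases Finset.mem_insert.1 hθ with rfl | hθ'
    · simp [trivialIrr]
    · rw [if_neg (fun (e : θ = trivialIrr G) => D.triv_not (e ▸ hθ')),
        D.vY θ hθ' g (H.even_reg (Finset.mem_filter.1 hg).2)]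
      have h1 := hpi g
      rw [hev g (Finset.mem_filter.1 hg).2, Nat.cast_one] at h1
      push_cast
      linear_combination -h1
  rw [one_pow, Finset.sum_const, nsmul_eq_mul, mul_one, Finset.card_insert_of_notMem D.triv_not]
    at hb0
  have hb1 : (D.Y.card + 1) * E.card ≤ Nat.card G := by exact_mod_cast hb0
  obtain ⟨Mw, hMw⟩ : m ∣ E.card := (Nat.dvd_add_left (hμ ▸ dvd_mul_right m μ)).1
    (show m ∣ E.card + nodd G from hEn ▸ hGval ▸ dvd_mul_left m _)
  have hm0 : 0 < m := hmodd.pos
  have hMwμ : Mw + μ = 2 ^ ν := by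
    refine Nat.eq_of_mul_eq_mul_left hm0 ?_
    rw [mul_add, ← hMw, ← hμ, hEn, hGval, mul_comm]
  have hMwpos : 0 < Mw := Nat.pos_of_ne_zero fun e => by
    have h1 : z ∈ E := Finset.mem_filter.2 ⟨Finset.mem_univ _, dvd_of_eq hz.symm⟩
    have := Finset.card_pos.2 ⟨z, h1⟩
    rw [hMw, e, mul_zero] at this
    omega
  have hbound : (D.Y.card + 1) * Mw ≤ 2 ^ ν := by
    refine Nat.le_of_mul_le_mul_left ?_ hm0
    rw [mul_left_comm, ← hMw, mul_comm m, ← hGval]
    exact hb1
  have hMwj : Mw * j < 6 := by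
    have h1 : 6 * (D.Y.card + 1) = 2 ^ ν * j + 4 := by
      rw [← hfj]; have := D.hY; omega
    by_contra hlt
    have h2 : 2 ^ ν * 6 ≤ 2 ^ ν * (Mw * j) := Nat.mul_le_mul_left _ (by omega)
    have h3 : (2 ^ ν * j + 4) * Mw ≤ 6 * 2 ^ ν := by
      rw [← h1, mul_assoc]; exact Nat.mul_le_mul_left _ hbound
    rw [show (2 ^ ν * j + 4) * Mw = 2 ^ ν * (Mw * j) + 4 * Mw by ring] at h3
    omega
  have hN : (3 * p * q) * Nat.card C = Nat.card G := by
    rw [hC, (hzv z hz).2, ← hG]; ring
  obtain ⟨hsing, hsing4⟩ := sing_count_one_class hz (fun w hw => hone z w hz hw) hN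
  rw [← hC] at hsing hsing4
  have hqm : 3 * p * q * c' = m := by rw [hq', hm, hc']; ring
  have hsc : 3 * p * q * nodd C = m * μz := by rw [hμz, ← mul_assoc, hqm]
  have hGm : Nat.card G = m * (Mw + μ) := by rw [hGval, hMwμ, mul_comm]
  rw [hsc, hμ, hGm, ← mul_add] at hsing hsing4
  have hμle : μz ≤ Mw := by
    have := Nat.le_of_mul_le_mul_left hsing hm0
    omega
  have hμzpos : 0 < μz := Nat.pos_of_ne_zero fun e => by
    have := nodd_pos (G := C)
    rw [hμz, e, mul_zero] at this
    omega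
  have hexp : μz = Mw → ∀ s ∈ (S : Subgroup G), s * s = 1 := by
    intro he s hs
    have hno : ¬ ∃ g : G, 4 ∣ orderOf g := fun h => by
      have := hsing4 h
      rw [he, add_comm μ] at this
      exact lt_irrefl _ this
    obtain ⟨i, hi⟩ := IsPGroup.iff_orderOf.1 S.isPGroup' ⟨s, hs⟩
    rw [Subgroup.orderOf_mk] at hi
    have hi1 : i ≤ 1 := by
      by_contra hlt
      exact hno ⟨s, hi ▸ (show (4 : ℕ) = 2 ^ 2 by norm_num) ▸ pow_dvd_pow 2 (by omega)⟩
    have hd : orderOf s ∣ 2 := hi ▸ (pow_dvd_pow 2 hi1).trans (dvd_of_eq (pow_one 2))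
    rw [← pow_two]
    exact orderOf_dvd_iff_pow_eq_one.1 hd
  have hS'mem : ∀ s : C, s ∈ ((S.subtype hSC : Sylow 2 C) : Subgroup C) ↔ (s : G) ∈ (S : Subgroup G) :=
    fun s => by rw [Sylow.coe_subtype, Subgroup.mem_subgroupOf]
  have hS'card : Nat.card ((S.subtype hSC : Sylow 2 C) : Subgroup C) = 2 ^ ν := by
    rw [Sylow.coe_subtype, Nat.card_congr (Subgroup.subgroupOfEquivOfLe hSC).toEquiv, hScard]
  have hμC : nodd C * Nat.card ((S.subtype hSC : Sylow 2 C) : Subgroup C) = μz * Nat.card C := by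
    rw [hS'card, hμz, hcardC]; ring
  have hkey : ∀ y : G, Odd (orderOf y) → ∀ T ≤ (S : Subgroup G),
      Nat.card (S : Subgroup G) ≤ 2 * Nat.card T → j = 1 → (∀ t ∈ T, y * t = t * y) → y = 1 := by
    intro y hy T hT hcard hj1 hc'
    have hT1 : T ≠ ⊥ := fun e => by
      rw [e, Subgroup.card_bot, hScard] at hcard
      have := Nat.pow_le_pow_right (show 0 < 2 by norm_num) hν
      omega
    obtain ⟨w, hwT, hw, -⟩ := exists_central_inv (S.isPGroup'.to_le hT) hT1
    have hwα : w • α = α := hα w (hT hwT)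
    have hyα : y • α = α := hfix w hw _ _ (by rw [← mul_smul, ← hc' w hwT, mul_smul, hwα]) hwα
    have hTX : ∀ t ∈ T, ∀ a ∈ X, t • a ∈ X := fun t ht a ha =>
      Finset.mem_erase.2 ⟨fun e => Finset.ne_of_mem_erase ha
        (smul_left_cancel t (e.trans (hα t (hT ht)).symm)), Finset.mem_univ _⟩
    have h := fix_of_two_orbits (X := X) (S.isPGroup'.to_le hT) hy hc'
      (fun a ha => Finset.mem_erase.2 ⟨fun e => Finset.ne_of_mem_erase ha
        (smul_left_cancel y (e.trans hyα.symm)), Finset.mem_univ _⟩) hTX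
      (fun t ht a ha e => by
        by_contra ht1
        exact Finset.ne_of_mem_erase ha (hsemi t (hT ht) ht1 a e))
      (by rw [hXcard, hfj, hj1, mul_one, ← hScard]; exact hcard)
    refine FaithfulSMul.eq_of_smul_eq_smul (α := Ω) fun a => ?_
    rw [one_smul]
    by_cases ha : a = α
    · rw [ha, hyα]
    · exact h a (Finset.mem_erase.2 ⟨ha, Finset.mem_univ _⟩)
  have hj : j = 1 ∨ j = 5 := by
    have hjd : ¬ 3 ∣ j := by
      rintro ⟨r, hr⟩
      rw [hfj, hr, mul_left_comm] at hf
      omega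
    have : j < 6 := lt_of_le_of_lt (Nat.le_mul_of_pos_left j hMwpos) hMwj
    obtain ⟨r, hr⟩ := hjodd
    omega
  rcases hj with hj | hj
  · -- `3 p - 1` a power of two
    subst hj
    rw [mul_one] at hfj hMwj
    have hν5 : 5 ≤ ν := by
      by_contra hlt
      have h7 : 7 ≤ p := by omega
      have : 2 ^ ν ≤ 2 ^ 4 := Nat.pow_le_pow_right (by norm_num) (by omega)
      omega
    have hmod := nodd_mod_four (S : Subgroup G) S.isPGroup'
      (fun y hy T hT hcard hc'' => hkey y hy T hT hcard rfl hc'')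
    rw [hμ] at hmod
    have hm4 : m % 4 = 1 := by
      obtain ⟨i, hi⟩ := hkodd
      have hk2 : k ^ 2 % 4 = 1 := by
        rw [hi, show (2 * i + 1) ^ 2 = 4 * (i * i + i) + 1 by ring]; omega
      have hf1 : (D.f - 1) % 4 = 3 := by
        obtain ⟨r, hr⟩ := hf4
        omega
      rw [hm, Nat.mul_mod, Nat.mul_mod (9 * p * 1), Nat.mul_mod (9 * p) 1, Nat.mul_mod 9 p, hk2, hf1,
        hp4]
    rw [Nat.mul_mod, hm4, one_mul, Nat.mod_mod] at hmod
    have hN32 : 32 ∣ 2 ^ ν := (show (32 : ℕ) = 2 ^ 5 by norm_num) ▸ pow_dvd_pow 2 hν5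
    obtain ⟨r32, hr32⟩ := hN32
    have hMw3 : Mw = 3 := by omega
    have hμzodd : Odd μz := by
      have h := nodd_odd (G := C)
      rw [hμz] at h
      exact (Nat.odd_mul.1 h).2
    have hμz' : μz = 1 ∨ μz = 3 := by
      obtain ⟨i, hi⟩ := hμzodd
      omega
    rcases hμz' with h1 | h1
    · -- the elements of odd order fix everything
      rw [h1, mul_one] at hμz
      have hbig : 1 < nodd C := by rw [hμz, hc']; omega
      obtain ⟨y, hy, hy1⟩ : ∃ y : C, Odd (orderOf y) ∧ y ≠ 1 := by
        by_contra hno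
        push Not at hno
        haveI : Subsingleton {y : C // Odd (orderOf y)} :=
          ⟨fun a b => Subtype.ext ((hno a.1 a.2).trans (hno b.1 b.2).symm)⟩
        have := Finite.card_le_one_iff_subsingleton.2 this
        exact absurd hbig (not_lt.2 this)
      refine hy1 (Subtype.ext (FaithfulSMul.eq_of_smul_eq_smul (α := Ω) fun a => ?_))
      rw [OneMemClass.coe_one, one_smul]
      by_cases ha : a = α
      · rw [ha, hCα _ y.2]
      have haX : a ∈ X := Finset.mem_erase.2 ⟨ha, Finset.mem_univ _⟩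
      have hL : Nat.card ↥(C ⊓ MulAction.stabilizer G a) = c' := by
        refine Nat.eq_of_mul_eq_mul_right (show 0 < D.f by omega) ?_
        rw [hstab a haX, hcval, hfj, mul_comm]
      have hLodd : ∀ g : ↥(C ⊓ MulAction.stabilizer G a), Odd (orderOf (⟨g.1, g.2.1⟩ : C)) :=
        fun g => hc'odd.of_dvd_nat (by
          rw [Subgroup.orderOf_mk]
          have h := Subgroup.orderOf_dvd_natCard _ g.2
          rwa [hL] at h)
      have hbij : Function.Bijective (fun g : ↥(C ⊓ MulAction.stabilizer G a) =>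
          (⟨⟨g.1, g.2.1⟩, hLodd g⟩ : {y : C // Odd (orderOf y)})) :=
        (Nat.bijective_iff_injective_and_card _).2
          ⟨fun g g' e => Subtype.ext (congrArg (fun w : {y : C // Odd (orderOf y)} => ((w.1 : C) : G)) e),
            hL.trans hμz.symm⟩
      obtain ⟨g, hg⟩ := hbij.2 ⟨y, hy⟩
      have e : g.1 = (y : G) := congrArg (fun w : {y : C // Odd (orderOf y)} => ((w.1 : C) : G)) hg
      rw [← e]
      exact g.2.2
    · -- elementary abelian
      have hSel := hexp (h1.trans hMw3.symm)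
      refine no_three S hSel (by rw [hScard, hr32]; omega) ?_ ?_
      all_goals
        intro s hs hs1
        have hs2 : orderOf s = 2 := orderOf_eq_prime (by rw [pow_two]; exact hSel s hs) hs1
        have hSD : (S : Subgroup G) ≤ Subgroup.centralizer ({s} : Set G) := fun g hg =>
          Subgroup.mem_centralizer_singleton_iff.2 (comm_of_exp_two hSel g hg s hs)
        set D' := Subgroup.centralizer ({s} : Set G) with hD'
        obtain ⟨w, rfl⟩ := isConj_iff.1 (hone z s hz hs2)
        have hDn : nodd D' = nodd C ∧ Nat.card D' = Nat.card C := centralizer_conj_card z w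
        have hcardD : Nat.card ((S.subtype hSD : Sylow 2 D') : Subgroup D') = 2 ^ ν := by
          rw [Sylow.coe_subtype, Nat.card_congr (Subgroup.subgroupOfEquivOfLe hSD).toEquiv, hScard]
        have hst := structure_of_three (S.subtype hSD)
          (fun a ha => Subtype.ext (hSel _ (Subgroup.mem_subgroupOf.1 (by rwa [Sylow.coe_subtype] at ha))))
          (by rw [hcardD, hDn.1, hDn.2, hμz, h1, hcardC]; ring)
          (fun y hy T hT hcard hc'' => by
            refine Subtype.ext (hkey (y : G) (by rw [Subgroup.orderOf_coe]; exact hy)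
              (T.map D'.subtype) ?_ ?_ rfl ?_)
            · rintro _ ⟨t, ht, rfl⟩
              have h := hT ht
              rw [Sylow.coe_subtype, Subgroup.mem_subgroupOf] at h
              exact h
            · rw [Nat.card_congr (T.equivMapOfInjective _ D'.subtype_injective).symm.toEquiv, hScard,
                ← hcardD]
              exact hcard
            · rintro _ ⟨t, ht, rfl⟩
              exact congrArg Subtype.val (hc'' t ht))
        have hnorm : Subgroup.normalizer (((S.subtype hSD : Sylow 2 D') : Subgroup D') : Set D') =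
            (Subgroup.normalizer ((S : Subgroup G) : Set G)).subgroupOf D' := by
          rw [Sylow.coe_subtype]
          exact (Subgroup.subgroupOf_normalizer_eq hSD).symm
        rw [hnorm, hcardD, ← hScard] at hst
      · rw [← hst.1]
        exact Nat.card_congr
          { toFun := fun g => ⟨⟨g.1, g.2.2⟩, g.2.1⟩
            invFun := fun g => ⟨g.1.1, g.2, g.1.2⟩
            left_inv := fun g => rfl
            right_inv := fun g => rfl }
      · intro y hyN hys hyo hy1
        have hyD : y ∈ D' := Subgroup.mem_centralizer_singleton_iff.2 hys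
        have h := hst.2 ⟨y, hyD⟩ hyN (by rw [← Subgroup.orderOf_coe]; exact hyo)
          (fun e => hy1 (congrArg Subtype.val e))
        rw [← h]
        congr 1
        exact Nat.card_congr
          { toFun := fun a => ⟨⟨a.1, hSD a.2.1⟩, by rw [Sylow.coe_subtype]; exact a.2.1,
              Subgroup.mem_centralizer_singleton_iff.2
                (Subtype.ext (Subgroup.mem_centralizer_singleton_iff.1 a.2.2))⟩
            invFun := fun a => ⟨a.1.1, by
              exact Subgroup.mem_subgroupOf.1 a.2.1, Subgroup.mem_centralizer_singleton_iff.2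
                (congrArg Subtype.val (Subgroup.mem_centralizer_singleton_iff.1 a.2.2))⟩
            left_inv := fun a => rfl
            right_inv := fun a => rfl }
  · -- `3 p - 1` five times a power of two
    subst hj
    have hMw1 : Mw = 1 := by omega
    have hμz1 : μz = 1 := by omega
    have hSel := hexp (hμz1.trans hMw1.symm)
    obtain ⟨O, hOn, hOcard, hOodd⟩ := complement_of_one (S.subtype hSC)
      (fun a ha => Subtype.ext (hSel _ ((hS'mem a).1 ha))) (by rw [hμC, hμz1, one_mul])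
    have hOc : Nat.card O = c' := by
      refine Nat.eq_of_mul_eq_mul_right (show 0 < 2 ^ ν by positivity) ?_
      rw [← hS'card, hOcard, hcardC, hS'card, mul_comm]
    -- the odd elements are those of `O`
    have hmemO : ∀ g : C, Odd (orderOf g) → g ∈ O := by
      intro g hg
      haveI := hOn
      refine (QuotientGroup.eq_one_iff (N := O) g).1 (orderOf_eq_one_iff.1 ?_)
      refine Nat.eq_one_of_dvd_coprimes (Nat.Coprime.pow_right ν ((Nat.coprime_two_right).2 hg))
        (orderOf_map_dvd (QuotientGroup.mk' O) g) ?_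
      have hidx : Nat.card (C ⧸ O) = 2 ^ ν := by
        refine Nat.eq_of_mul_eq_mul_left hc'odd.pos ?_
        have := O.card_mul_index
        rw [hOc, hcardC, mul_comm (2 ^ ν)] at this
        exact this
      rw [← hidx]
      exact orderOf_dvd_natCard _
    haveI : Fact (Nat.Prime 3) := ⟨Nat.prime_three⟩
    obtain ⟨y, hy⟩ := exists_prime_orderOf_dvd_card' (G := O) 3 (by
      rw [hOc, hc', mul_assoc]; exact dvd_mul_right 3 _)
    have hy3 : y ^ 3 = 1 := by rw [← hy, pow_orderOf_eq_one]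
    have hy1 : ((y : C) : G) = 1 := by
      refine FaithfulSMul.eq_of_smul_eq_smul (α := Ω) fun a => ?_
      rw [one_smul]
      by_cases ha : a = α
      · rw [ha, hCα _ (y : C).2]
      have haX : a ∈ X := Finset.mem_erase.2 ⟨ha, Finset.mem_univ _⟩
      have hL : Nat.card ↥(C ⊓ MulAction.stabilizer G a) = 3 * k := by
        refine Nat.eq_of_mul_eq_mul_right (show 0 < D.f by omega) ?_
        rw [hstab a haX, hcval, hfj, hc']; ring
      have hcardO : Nat.card (MulAction.orbit O a) = 5 := by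
        have h := (MulAction.stabilizer O a).card_mul_index
        rw [MulAction.index_stabilizer, ← Nat.card_coe_set_eq, hOc] at h
        have hst : Nat.card (MulAction.stabilizer O a) = 3 * k := by
          rw [← hL]
          exact Nat.card_congr
            { toFun := fun g => ⟨((g.1 : C) : G), (g.1 : C).2, g.2⟩
              invFun := fun g => ⟨⟨⟨g.1, g.2.1⟩, hmemO _ (by
                rw [Subgroup.orderOf_mk]
                have h := Subgroup.orderOf_dvd_natCard _ g.2
                rw [hL] at h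
                exact ((show Odd (3 : ℕ) from ⟨1, by norm_num⟩).mul hkodd).of_dvd_nat h)⟩, g.2.2⟩
              left_inv := fun g => rfl
              right_inv := fun g => rfl }
        rw [hst, hc'] at h
        exact Nat.eq_of_mul_eq_mul_left (show 0 < 3 * k by omega) (by rw [h]; ring)
      haveI : Finite (MulAction.orbit O a) := Subtype.finite
      exact congrArg Subtype.val
        (fix_five hOodd hcardO hy3 (⟨a, MulAction.mem_orbit_self a⟩ : MulAction.orbit O a))
    rw [← Subgroup.orderOf_coe, ← Subgroup.orderOf_coe, hy1, orderOf_one] at hy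
    omega

end Cfsg.Agent.Block.ThreeP
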