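import Mathlib
import Cfsg.Agent.Lib.Block.ThreeP.Setup
import Cfsg.Agent.Lib.Fus.CTSimpleLinear
import Cfsg.Agent.S4706

/-!
An imprimitive simple group on `3 p` points with `|N(P)| = 2 p`: it acts on `p` blocks and is
`PSL(2, 2^m)`.
-/

set_option autoImplicit false
set_option linter.unusedSectionVars false
set_option linter.style.haveILetI false

namespace Cfsg.Agent.Block.ThreeP

open Cfsg Cfsg.Agent.Block
open scoped Pointwise

universe u v

variable {G : Type u} [Group G] [Fintype G] {Ω : Type v} [Fintype Ω] [MulAction G Ω] {p : ℕ}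
  [Fact p.Prime]

/-- The imprimitive case. -/
theorem imprimitive [IsSimpleGroup G] [FaithfulSMul G Ω] (H : Hyps G Ω p) (P : Sylow p G)
    (hN : Nat.card (Subgroup.normalizer ((P : Subgroup G) : Set G)) = 2 * p)
    (hnp : ¬ MulAction.IsPreprimitive G Ω) :
    ∃ (F : Type) (_ : Field F) (_ : Fintype F) (m : ℕ), Fintype.card F = 2 ^ m ∧ p = 2 ^ m + 1 ∧
      Nonempty (G ≃* Matrix.ProjectiveSpecialLinearGroup (Fin 2) F) := by
  classical
  have hp : p.Prime := Fact.out
  have hp3 := H.hp3
  haveI := H.trans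
  obtain ⟨B, hB, hBnt⟩ : ∃ B : Set Ω, MulAction.IsBlock G B ∧ ¬ MulAction.IsTrivialBlock B := by
    by_contra hno
    push Not at hno
    exact hnp { isTrivialBlock_of_isBlock := fun {B} hB => hno B hB }
  rw [MulAction.IsTrivialBlock, not_or, Set.not_subsingleton_iff] at hBnt
  obtain ⟨hBnt, hBuniv⟩ := hBnt
  obtain ⟨b₀, hb₀⟩ := hBnt.nonempty
  have hmul := hB.ncard_block_mul_ncard_orbit_eq ⟨b₀, hb₀⟩
  rw [Nat.card_eq_fintype_card (α := Ω), H.card] at hmul
  have hB2 : 1 < B.ncard := (Set.one_lt_ncard_iff_nontrivial_and_finite).2 ⟨hBnt, B.toFinite⟩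
  have hBlt : B.ncard < 3 * p := by
    by_contra hge
    refine hBuniv (Set.eq_of_subset_of_ncard_le (Set.subset_univ B) ?_)
    rw [Set.ncard_univ, Nat.card_eq_fintype_card (α := Ω), H.card]
    omega
  set n := (MulAction.orbit G B).ncard with hn
  have hn1 : 1 < n := by
    by_contra hle
    have : B.ncard * n ≤ B.ncard * 1 := Nat.mul_le_mul_left _ (not_lt.1 hle)
    omega
  have hnlt : n < 3 * p := by
    have : 2 * n ≤ B.ncard * n := Nat.mul_le_mul_right _ hB2
    omega
  have hn3 : n = 3 ∨ n = p := by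
    have hd : n ∣ 3 * p := ⟨B.ncard, by rw [← hmul, mul_comm]⟩
    obtain ⟨x, y, hx, hy, hxy⟩ := exists_dvd_and_dvd_of_dvd_mul hd
    rcases (Nat.dvd_prime Nat.prime_three).1 hx with rfl | rfl <;>
      rcases (Nat.dvd_prime hp).1 hy with rfl | rfl
    · omega
    · exact Or.inr (by omega)
    · exact Or.inl (by omega)
    · omega
  -- the action on the blocks
  set α := ↥(MulAction.orbit G B) with hα
  haveI : Fintype α := Fintype.ofFinite _
  have hαc : Fintype.card α = n := by rw [← Nat.card_eq_fintype_card, hn, ← Nat.card_coe_set_eq]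
  let φ : G →* Equiv.Perm α := MulAction.toPermHom G α
  have hinj : Function.Injective φ := by
    rw [← MonoidHom.ker_eq_bot_iff]
    refine (IsSimpleGroup.eq_bot_or_eq_top_of_normal φ.ker inferInstance).resolve_right fun e => ?_
    have hfix : ∀ g : G, g • B = B := fun g => by
      have h1 : φ g = 1 := MonoidHom.mem_ker.1 (e ▸ Subgroup.mem_top g)
      exact congrArg Subtype.val (DFunLike.congr_fun h1 ⟨B, MulAction.mem_orbit_self B⟩)
    have : n = 1 := by
      rw [hn, show MulAction.orbit G B = {B} from Set.eq_singleton_iff_unique_mem.2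
        ⟨MulAction.mem_orbit_self B, by rintro _ ⟨g, rfl⟩; exact hfix g⟩, Set.ncard_singleton]
    omega
  obtain ⟨k, hk⟩ := (H.stab_card b₀ ▸ ⟨_, (mul_comm (Nat.card (MulAction.stabilizer G b₀)) _).trans (by rw [mul_comm 3 p, mul_assoc])⟩ : ∃ k, Nat.card G = p * k)
  rcases hn3 with h3 | hnp'
  · exfalso
    have h1 := Subgroup.card_dvd_of_injective φ hinj
    rw [Nat.card_perm, Nat.card_eq_fintype_card (α := α), hαc, h3, hk] at h1
    have h2 := Nat.le_of_dvd (by decide) ((dvd_mul_right p k).trans h1)
    have h5 : 5 ≤ p := by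
      rcases Nat.lt_or_ge p 5 with h | h
      · interval_cases p; exact absurd hp (by norm_num)
      · exact h
    obtain ⟨i, hi⟩ := (dvd_mul_right p k).trans h1
    rw [show Nat.factorial 3 = 6 from rfl] at h2 hi
    interval_cases p
    · omega
    · exact absurd hp (by norm_num)
  · -- prime degree
    set R := φ.range with hR
    let e : G ≃* R := MonoidHom.ofInjective hinj
    let P' : Sylow p R := P.mapSurjective (f := e.toMonoidHom) e.surjective
    have hN' : Nat.card (Subgroup.normalizer ((P' : Subgroup R) : Set R)) = 2 * p := by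
      have e2 := Subgroup.map_normalizer_eq_of_bijective (f := e.toMonoidHom) (P : Subgroup G) e.bijective
      rw [← hN, show (P' : Subgroup R) = (P : Subgroup G).map e.toMonoidHom from rfl, ← e2]
      exact (Nat.card_congr (Subgroup.equivMapOfInjective _ e.toMonoidHom e.injective).toEquiv).symm
    rcases Cfsg.Agent.S4706.result (by omega) (hαc.trans hnp') R P' hN' with hnorm | ⟨a, F, _, _, hpa, hF, ⟨ψ⟩⟩
    · exfalso
      haveI := hnorm
      have hPn : (P : Subgroup G).Normal := by
        refine ⟨fun x hx g => ?_⟩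
        have hx' : e x ∈ (P' : Subgroup R) := ⟨x, hx, rfl⟩
        obtain ⟨y, hy, hye⟩ := hnorm.conj_mem _ hx' (e g)
        rwa [← e.injective (hye.trans (by rw [map_mul, map_mul, map_inv]) : e y = e (g * x * g⁻¹))]
      have hPc : ∃ i, Nat.card (P : Subgroup G) = p ^ i := IsPGroup.iff_card.1 P.isPGroup'
      rcases IsSimpleGroup.eq_bot_or_eq_top_of_normal (P : Subgroup G) hPn with h | h
      · have h1 := P.dvd_card_of_dvd_card (hk ▸ dvd_mul_right p k)
        rw [h, Subgroup.card_bot] at h1
        exact hp.not_dvd_one h1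
      · rw [h, Subgroup.normalizer_eq_top_iff.2 inferInstance, Subgroup.card_top] at hN
        obtain ⟨i, hi⟩ := hPc
        rw [h, Subgroup.card_top, hN] at hi
        have := (Nat.prime_dvd_prime_iff_eq Nat.prime_two hp).1
          (Nat.prime_two.dvd_of_dvd_pow (hi ▸ dvd_mul_right 2 p))
        omega
    · have ha : a ≠ 0 := fun h0 => by
        rw [h0, pow_zero] at hpa
        omega
      have h2F : (2 : F) = 0 := by
        have h := FiniteField.cast_card_eq_zero F
        rw [hF, Nat.cast_pow, pow_eq_zero_iff ha] at h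
        exact_mod_cast h
      exact ⟨F, inferInstance, inferInstance, a, hF, hpa,
        ⟨(e.trans ψ).trans ((QuotientGroup.quotientMulEquivOfEq
          (Cfsg.Agent.Fus.CTSimple.center_eq_bot_of_two h2F)).trans QuotientGroup.quotientBot).symm⟩⟩

end Cfsg.Agent.Block.ThreeP
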