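import Mathlib
import Cfsg.Agent.Lib.Block.ThreeP.Apex
import Cfsg.Agent.Lib.Invol.SimpleOrder360

/-!
Rank three: the group is the alternating group of degree six.
-/

set_option autoImplicit false
set_option linter.unusedSectionVars false
set_option linter.style.haveILetI false

namespace Cfsg.Agent.Block.ThreeP

open Cfsg Cfsg.Agent.Block

universe u v

variable {G : Type u} [Group G] [Fintype G] {Ω : Type v} [Fintype Ω] [MulAction G Ω]

/-- A primitive group on fifteen points has no order divisible by `3 ^ 6` without containing the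
alternating group. -/
theorem no_big_three [FaithfulSMul G Ω] (hprim : MulAction.IsPreprimitive G Ω)
    (hΩ : Fintype.card Ω = 15) (hG : Nat.card G = 29160) : False := by
  classical
  haveI : Fact (Nat.Prime 3) := ⟨Nat.prime_three⟩
  set R := (MulAction.toPermHom G Ω).range with hR
  have hRc : Nat.card R = 29160 := by
    rw [← hG, hR]
    exact Nat.card_congr (MonoidHom.ofInjective (f := MulAction.toPermHom G Ω)
      MulAction.toPerm_injective).symm.toEquiv
  haveI : MulAction.IsPreprimitive R Ω :=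
    MulAction.IsPreprimitive.of_surjective (f := ({ toFun := id, map_smul' := fun _ _ => rfl } :
      Ω →ₑ[(MulAction.toPermHom G Ω).rangeRestrict] Ω)) Function.surjective_id
  -- a Sylow subgroup of the symmetric group inside
  obtain ⟨T⟩ : Nonempty (Sylow 3 R) := inferInstance
  obtain ⟨Q, hQ⟩ := (T.isPGroup'.map R.subtype).exists_le_sylow
  have hTc : 3 ^ 6 ≤ Nat.card ((T : Subgroup R).map R.subtype) := by
    rw [Nat.card_congr (Subgroup.equivMapOfInjective _ _ R.subtype_injective).symm.toEquiv]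
    exact Nat.le_of_dvd Nat.card_pos (T.pow_dvd_card_of_pow_dvd_card (by rw [hRc]; norm_num))
  obtain ⟨n, hn⟩ := IsPGroup.iff_card.1 Q.isPGroup'
  have hn6 : n ≤ 6 := by
    by_contra hlt
    have h1 : 3 ^ 7 ∣ Nat.factorial 15 := by
      refine (pow_dvd_pow 3 (Nat.lt_of_not_le hlt)).trans ?_
      rw [← hn, ← hΩ, ← Nat.card_eq_fintype_card (α := Ω), ← Nat.card_perm]
      exact Subgroup.card_subgroup_dvd_card _
    revert h1
    decide
  have heq : (T : Subgroup R).map R.subtype = (Q : Subgroup (Equiv.Perm Ω)) :=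
    Subgroup.eq_of_le_of_card_ge hQ
      (hn ▸ (Nat.pow_le_pow_right (by norm_num) hn6).trans hTc)
  obtain ⟨a, b, c, hab, hac, hbc⟩ : ∃ a b c : Ω, a ≠ b ∧ a ≠ c ∧ b ≠ c :=
    Fintype.two_lt_card_iff.1 (by omega)
  set g := Equiv.swap a b * Equiv.swap a c with hg
  have h3 : g.IsThreeCycle := Equiv.Perm.isThreeCycle_swap_mul_swap_same hab hac hbc
  obtain ⟨Q', hQ'⟩ := (IsPGroup.of_card (p := 3) (n := 1)
    (by rw [Nat.card_zpowers, h3.orderOf, pow_one]) :
    IsPGroup 3 (Subgroup.zpowers g)).exists_le_sylow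
  obtain ⟨d, hd⟩ := MulAction.exists_smul_eq (Equiv.Perm Ω) Q' Q
  have hmem : d * g * d⁻¹ ∈ R := by
    have h1 : d * g * d⁻¹ ∈ (Q : Subgroup (Equiv.Perm Ω)) := by
      rw [← hd]; exact ⟨g, hQ' (Subgroup.mem_zpowers g), rfl⟩
    rw [← heq] at h1
    exact Subgroup.map_subtype_le _ h1
  have h3' : (d * g * d⁻¹).IsThreeCycle := by
    rw [Equiv.Perm.IsThreeCycle, Equiv.Perm.cycleType_conj]; exact h3
  have hle := Subgroup.card_le_of_le
    (Equiv.Perm.alternatingGroup_le_of_isPreprimitive_of_isThreeCycle_mem ‹_› h3' hmem)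
  haveI : Nontrivial Ω := Fintype.one_lt_card_iff_nontrivial.1 (by omega)
  rw [hRc] at hle
  rw [nat_card_alternatingGroup, Nat.card_eq_fintype_card (α := Ω), hΩ] at hle
  revert hle
  decide

variable {p : ℕ} [Fact p.Prime] [DecidableEq Ω]

/-- Rank three. -/
theorem Ctx.main [IsSimpleGroup G] [FaithfulSMul G Ω] (X : Ctx G Ω p)
    (hprim : MulAction.IsPreprimitive G Ω) :
    p = 5 ∧ Nonempty (G ≃* ↥(alternatingGroup (Fin 6))) := by
  obtain ⟨w, c, d, k, N⟩ := X.exists_nums
  rcases N.hw with hw | hw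
  swap
  · exact (N.no_one hw).elim
  obtain ⟨h, S, σ, α, S₀, E⟩ := N.exists_eight hw
  obtain ⟨τ, L, A, W⟩ := E.exists_local
  obtain ⟨hp, hG, hA | hA⟩ := W.numbers
  · refine ⟨hp, ?_⟩
    haveI : IsSimpleGroup (alternatingGroup (Fin 6)) := alternatingGroup.isSimpleGroup (by simp)
    refine Invol.O360.iso (G := G) (by rw [hG, hA, one_pow, mul_one]) ?_
    rw [nat_card_alternatingGroup]; simp [Nat.factorial]
  · exact (no_big_three hprim (by rw [X.hyps.card, hp]) (by rw [hG, hA]; norm_num)).elim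

end Cfsg.Agent.Block.ThreeP
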