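import Mathlib
import Cfsg.Agent.Lib.Block.ThreeP.FPlus
import Cfsg.Agent.Lib.Block.KleinOrder
import Cfsg.Agent.Lib.Fus.SmallSimple

/-!
The case `p = 5`, `f = 4`: no primitive group.
-/

set_option autoImplicit false
set_option linter.unusedSectionVars false
set_option linter.style.haveILetI false

namespace Cfsg.Agent.Block.ThreeP

open scoped ComplexConjugate
open Cfsg Cfsg.Agent.Block Cfsg.Agent.Char

universe u v

variable {G : Type u} [Group G] [Fintype G] {Ω : Type v} [Fintype Ω] [MulAction G Ω] {p : ℕ}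
  [Fact p.Prime] (H : Hyps G Ω p)

include H in
theorem five_order [IsSimpleGroup G] [FaithfulSMul G Ω] (hp : p = 5) (D : Neg G p) (hf : D.f = 4) :
    Nat.card G = 60 ∧ ∀ S : Sylow 2 G, Nat.card (S : Subgroup G) = 4 ∧ IsKleinFour (S : Subgroup G) := by
  classical
  haveI : Fact (Nat.Prime 2) := ⟨Nat.prime_two⟩
  obtain ⟨v, c, hex, hone, hzv, heq, -, h2c, hcG, -, ⟨a, ha⟩, b, hb⟩ := D.facts H
  subst hp
  rw [hf] at ha hb heq
  obtain rfl : v = 0 := by push_cast at ha hb; omega
  have hG4 : 4 * Nat.card G = 15 * c ^ 2 := by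
    have : (4 : ℤ) * Nat.card G = 15 * (c : ℤ) ^ 2 := by push_cast at heq; linarith
    exact_mod_cast this
  have hG0 : Nat.card G ≠ 0 := Nat.card_pos.ne'
  have hc0 : c ≠ 0 := by
    rintro rfl
    exact hG0 (by simpa using hG4)
  have hs2 : (Nat.card G).factorization 2 = 2 := by
    have h1 := congrArg (fun n : ℕ => n.factorization 2) hG4
    rw [Nat.factorization_mul (by norm_num) hG0, Nat.factorization_mul (by norm_num) (pow_ne_zero 2 hc0),
      Finsupp.add_apply, Finsupp.add_apply, Nat.factorization_pow, Finsupp.smul_apply,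
      Nat.factorization_eq_zero_of_not_dvd (n := 15) (by norm_num),
      show (4 : ℕ) = 2 ^ 2 by norm_num, Nat.Prime.factorization_pow Nat.prime_two,
      Finsupp.single_eq_same, h2c, smul_eq_mul] at h1
    omega
  obtain ⟨g₀, hg₀, hGg⟩ : ∃ g₀, Odd g₀ ∧ Nat.card G = 4 * g₀ := by
    refine ⟨Nat.card G / 2 ^ 2, ?_, (Nat.mul_div_cancel' ?_).symm⟩
    · have h := Nat.not_dvd_ordCompl Nat.prime_two hG0
      rw [hs2] at h
      rwa [← Nat.not_even_iff_odd, even_iff_two_dvd]
    · have h := Nat.ordProj_dvd (Nat.card G) 2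
      rwa [hs2] at h
  obtain ⟨k, hk, hko⟩ : ∃ k, c = 4 * k ∧ Odd k := by
    refine ⟨c / 2 ^ 2, (Nat.mul_div_cancel' ?_).symm, ?_⟩
    · have h := Nat.ordProj_dvd c 2
      rwa [h2c, hs2] at h
    · have h := Nat.not_dvd_ordCompl Nat.prime_two hc0
      rw [h2c, hs2] at h
      rwa [← Nat.not_even_iff_odd, even_iff_two_dvd]
  have hG : Nat.card G = 60 * k ^ 2 := by
    rw [hk] at hG4
    nlinarith
  have hnc : ¬ ∃ N : Subgroup G, N.Normal ∧ Nat.card N = g₀ := by
    rintro ⟨N, hN, hNc⟩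
    have h15 : 15 ≤ g₀ := by
      have : 1 ≤ k ^ 2 := Nat.one_le_pow _ _ hko.pos
      omega
    rcases IsSimpleGroup.eq_bot_or_eq_top_of_normal N hN with rfl | rfl
    · rw [Subgroup.card_bot] at hNc; omega
    · rw [Subgroup.card_top] at hNc; omega
  obtain ⟨P⟩ : Nonempty (Sylow 2 G) := inferInstance
  obtain ⟨hP, -⟩ := KleinOrder.setup_of_no_complement P hg₀ hGg hnc
  have hP4 : ∀ S : Sylow 2 G, Nat.card (S : Subgroup G) = 4 ∧ IsKleinFour (S : Subgroup G) := fun S =>
    ⟨by rw [S.card_eq_multiplicity, hs2]; norm_num, KleinOrder.sylow_klein hP S⟩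
  refine ⟨?_, hP4⟩
  obtain ⟨J, hJP, hJ, -⟩ := exists_central_inv P.isPGroup' fun e => by
    have := (hP4 P).1
    rw [e, Subgroup.card_bot] at this
    omega
  obtain ⟨M, hM⟩ := exists_isPModular 2 Nat.prime_two
  have hinner := KleinOrder.inner_singular hM hP hone hJP hJ
  -- the exceptional characters are in the principal block
  set f : G → ℂ := fun g => if 2 ∣ orderOf g then 1 else 0 with hfdef
  have hreg : ∀ g : G, 2 ∣ orderOf g → ¬ 5 ∣ orderOf g := fun g hg => H.even_reg hg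
  have hYJ : ∀ θ ∈ D.Y, (θ : G → ℂ) J = -1 := fun θ hθ => by
    rw [D.vY θ hθ J (hreg J hJ.symm.dvd), (hzv J hJ).1]; norm_num
  have hY1 : ∀ θ ∈ D.Y, (θ : G → ℂ) 1 = 3 := fun θ hθ => by
    rw [D.vY θ hθ 1 H.one_reg, charDeg_spec', D.deg, hf]; norm_num
  have hYB : ∀ θ ∈ D.Y, θ ∈ principalBlock M G := by
    intro θ hθ
    by_contra hno
    have h1 := hinner θ
    rw [if_neg hno] at h1
    have h2 := hinner D.χ
    rw [(hzv J hJ).1, Int.cast_zero, zero_div, ite_self] at h2
    rw [classInner, mul_eq_zero] at h1 h2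
    have e1 := h1.resolve_left (inv_ne_zero (Nat.cast_ne_zero.2 hG0))
    have e2 := h2.resolve_left (inv_ne_zero (Nat.cast_ne_zero.2 hG0))
    have e3 : ∑ g : G, f g * conj ((θ : G → ℂ) g) =
        ∑ g : G, f g * conj ((D.χ : G → ℂ) g) - ∑ g : G, f g := by
      rw [← Finset.sum_sub_distrib]
      refine Finset.sum_congr rfl fun g _ => ?_
      simp only [hfdef]
      split_ifs with hg
      · rw [D.vY θ hθ g (hreg g hg), map_sub, map_one]; ring
      · ring
    rw [e1, e2, zero_sub, eq_comm, neg_eq_zero] at e3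
    simp only [hfdef] at e3
    rw [Finset.sum_boole, Nat.cast_eq_zero, Finset.card_eq_zero] at e3
    exact (Finset.filter_eq_empty_iff.1 e3) (Finset.mem_univ J) hJ.symm.dvd
  obtain ⟨ζ₂, ζ₃, ζ₄, ε, hε, hn2, hn3, h23, h24, h34, hset, hval, -, -, -, hrel⟩ :=
    klein_principal hM P hP hone
  obtain ⟨θ, θ', hne, hY⟩ := Finset.card_eq_two.1 (show D.Y.card = 2 by have := D.hY; omega)
  have hθ : θ ∈ D.Y := by rw [hY]; simp
  have hθ' : θ' ∈ D.Y := by rw [hY]; simp
  obtain ⟨hv2, hv3, hv4⟩ := hval J hJ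
  have hcases : ∀ η ∈ D.Y, η = ζ₃ ∨ η = ζ₄ := by
    intro η hη
    rcases hset ▸ hYB η hη with e | e | e | e
    · exfalso
      have h1 := hYJ η hη
      rw [e] at h1
      norm_num at h1
    · exfalso
      have h1 := hYJ η hη
      rw [e, hv2] at h1
      norm_num at h1
    · exact Or.inl e
    · exact Or.inr e
  obtain ⟨h3Y, h4Y⟩ : ζ₃ ∈ D.Y ∧ ζ₄ ∈ D.Y := by
    rcases hcases θ hθ with e | e <;> rcases hcases θ' hθ' with e' | e'
    · exact absurd (e.trans e'.symm) hne
    · exact ⟨e ▸ hθ, e' ▸ hθ'⟩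
    · exact ⟨e' ▸ hθ', e ▸ hθ⟩
    · exact absurd (e.trans e'.symm) hne
  have hεv : (ε : ℂ) = -1 := hv3.symm.trans (hYJ ζ₃ h3Y)
  have h5 : (ζ₂ : G → ℂ) 1 = 5 := by
    have e := hrel 1 (by simp)
    rw [hεv, hY1 ζ₃ h3Y, hY1 ζ₄ h4Y] at e
    linear_combination e
  -- the order formula
  have ho := KleinOrder.order_formula hM hP hone hJP hJ
  have htriv : trivialIrr G ∈ Finset.univ.filter (· ∈ principalBlock M G) :=
    Finset.mem_filter.2 ⟨Finset.mem_univ _, trivial_mem_principalBlock hM⟩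
  have hB : Finset.univ.filter (· ∈ principalBlock M G) =
      insert (trivialIrr G) (insert ζ₂ ({ζ₃, ζ₄} : Finset (IrrCharacter G))) := by
    ext η
    simp only [Finset.mem_filter, Finset.mem_univ, true_and, hset, Set.mem_setOf_eq,
      Finset.mem_insert, Finset.mem_singleton]
    refine or_congr ⟨fun e => Subtype.ext e, fun e => by rw [e]; rfl⟩ Iff.rfl
  have ht2 : trivialIrr G ≠ ζ₂ := fun e => hn2 (e ▸ rfl)
  have ht3 : trivialIrr G ≠ ζ₃ := fun e => D.triv_not (e ▸ h3Y)
  have ht4 : trivialIrr G ≠ ζ₄ := fun e => D.triv_not (e ▸ h4Y)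
  rw [hB, Finset.sum_insert (by simp [ht2, ht3, ht4]), Finset.sum_insert (by simp [h23, h24]),
    Finset.sum_pair h34, hv2, hYJ ζ₃ h3Y, hYJ ζ₄ h4Y, h5, hY1 ζ₃ h3Y, hY1 ζ₄ h4Y,
    (hzv J hJ).2, hk, hG, show ((trivialIrr G : IrrCharacter G) : G → ℂ) J = 1 from rfl,
    show ((trivialIrr G : IrrCharacter G) : G → ℂ) 1 = 1 from rfl] at ho
  obtain ⟨e, he⟩ : 4 ∣ Nat.card (Subgroup.centralizer ((P : Subgroup G) : Set G)) := by
    rw [← (hP4 P).1]
    refine Subgroup.card_dvd_of_le fun x hx y hy => ?_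
    haveI := hP
    exact congrArg Subtype.val (mul_comm_of_exponent_two IsKleinFour.exponent_two (⟨y, hy⟩ : (P : Subgroup G)) ⟨x, hx⟩)
  rw [he] at ho
  push_cast at ho
  have hkpos := hko.pos
  have hke : k = e ^ 2 := by
    apply Nat.cast_injective (R := ℂ)
    push_cast
    refine mul_left_cancel₀ (show (512 * (k : ℂ) ^ 2) ≠ 0 from mul_ne_zero (by norm_num)
      (pow_ne_zero 2 (Nat.cast_ne_zero.2 hkpos.ne'))) ?_
    linear_combination ho
  rw [hke] at hG hko
  have heo : e % 2 = 1 := Nat.odd_iff.1 ((Nat.odd_pow_iff two_ne_zero).1 hko)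
  have hdiv := card_dvd_factorial (G := G) (Ω := Ω)
  rw [H.card, hG, show Nat.factorial (3 * 5) = 60 * 21794572800 by decide, ← pow_mul] at hdiv
  have h4 := Nat.dvd_of_mul_dvd_mul_left (by norm_num : 0 < 60) hdiv
  have hlt : e < 385 := by
    by_contra hge
    have h1 := Nat.le_of_dvd (by norm_num) h4
    have h2 : 385 ^ 4 ≤ e ^ (2 * 2) := Nat.pow_le_pow_left (not_lt.1 hge) 4
    omega
  have key : ∀ a < 385, a ^ (2 * 2) ∣ 21794572800 → a % 2 = 1 → a = 1 ∨ a = 3 := by decide +kernel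
  rcases key e hlt h4 heo with rfl | rfl
  · simpa using hG
  exfalso
  haveI : Fact (Nat.Prime 3) := ⟨Nat.prime_three⟩
  obtain ⟨T⟩ : Nonempty (Sylow 3 G) := inferInstance
  norm_num [-Nat.card_eq_fintype_card] at hG
  have hTc : Nat.card (T : Subgroup G) * (T : Subgroup G).index = 4860 := by
    rw [(T : Subgroup G).card_mul_index, hG]
  have h243 : 243 ∣ Nat.card (T : Subgroup G) := by
    simpa using T.pow_dvd_card_of_pow_dvd_card (n := 5) (by rw [hG]; norm_num)
  obtain ⟨j, hj⟩ := h243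
  rw [hj] at hTc
  have hidx : (T : Subgroup G).index ∣ 20 := ⟨j, by linarith⟩
  have hn3 : (Subgroup.normalizer ((T : Subgroup G) : Set G)).index ∣ 20 :=
    (Subgroup.index_dvd_of_le Subgroup.le_normalizer).trans hidx
  have hmod := card_sylow_modEq_one 3 G
  rw [Sylow.card_eq_index_normalizer T, Nat.ModEq] at hmod
  have hNtop : Subgroup.normalizer ((T : Subgroup G) : Set G) ≠ ⊤ := fun htop => by
    rcases IsSimpleGroup.eq_bot_or_eq_top_of_normal (T : Subgroup G)
      (Subgroup.normalizer_eq_top_iff.1 htop) with e | e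
    · rw [e, Subgroup.card_bot] at hj; omega
    · have h2 : 2 ∣ Nat.card (T : Subgroup G) := by rw [e, Subgroup.card_top, hG]; norm_num
      obtain ⟨i, hi⟩ := IsPGroup.iff_card.1 T.isPGroup'
      rw [hi] at h2
      have := (Nat.prime_dvd_prime_iff_eq Nat.prime_two Nat.prime_three).1 (Nat.prime_two.dvd_of_dvd_pow h2)
      omega
  have hfac := Fus.card_dvd_factorial_index hNtop
  rw [hG] at hfac
  set n := (Subgroup.normalizer ((T : Subgroup G) : Set G)).index with hn
  have hn20 : n ≤ 20 := Nat.le_of_dvd (by norm_num) hn3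
  have key : ∀ i ≤ 20, i ∣ 20 → i % 3 = 1 % 3 → ¬ 4860 ∣ Nat.factorial i := by decide +kernel
  exact key n hn20 hn3 hmod hfac

include H in
theorem no_five [IsSimpleGroup G] [FaithfulSMul G Ω] (hp : p = 5) (D : Neg G p) (hf : D.f = 4)
    (hprim : MulAction.IsPreprimitive G Ω) : False := by
  classical
  haveI : Fact (Nat.Prime 2) := ⟨Nat.prime_two⟩
  haveI := H.trans
  haveI := H.nonempty
  obtain ⟨hG, hS⟩ := five_order H hp D hf
  obtain ⟨S⟩ : Nonempty (Sylow 2 G) := inferInstance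
  obtain ⟨α, hα⟩ := H.exists_fix S.isPGroup'
  have hK : MulAction.stabilizer G α = (S : Subgroup G) := by
    refine (Subgroup.eq_of_le_of_card_ge (fun s hs => hα s hs) ?_).symm
    have h1 := H.stab_card α
    rw [hG, hp] at h1
    rw [(hS S).1]
    omega
  haveI : Nontrivial Ω := Fintype.one_lt_card_iff_nontrivial.1 (by rw [H.card]; omega)
  haveI := hprim
  have hmax : IsCoatom (MulAction.stabilizer G α) :=
    MulAction.IsPreprimitive.isCoatom_stabilizer_of_isPreprimitive G α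
  rw [hK] at hmax
  have hd : 2 ∣ Nat.card G := by rw [hG]; norm_num
  rcases hmax.le_iff.1 (Subgroup.le_normalizer (H := (S : Subgroup G))) with e | e
  · rcases IsSimpleGroup.eq_bot_or_eq_top_of_normal (S : Subgroup G) (Subgroup.normalizer_eq_top_iff.1 e)
      with e' | e'
    · have := (hS S).1
      rw [e', Subgroup.card_bot] at this
      omega
    · exact hmax.1 e'
  · have hN : Subgroup.normalizer ((S : Subgroup G) : Set G) ≤
        Subgroup.centralizer ((S : Subgroup G) : Set G) := fun x hx y hy => by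
      have hx' : x ∈ (S : Subgroup G) := e ▸ hx
      haveI := (hS S).2
      exact congrArg Subtype.val (mul_comm_of_exponent_two IsKleinFour.exponent_two (⟨y, hy⟩ : (S : Subgroup G)) ⟨x, hx'⟩)
    exact Fus.simple_no_complement H.na hd
      ⟨S, (MonoidHom.transferSylow S hN).ker, inferInstance,
        MonoidHom.ker_transferSylow_isComplement' S hN⟩

end Cfsg.Agent.Block.ThreeP
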