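import Mathlib
import Cfsg.Agent.Lib.Block.ThreeP.Common
import Cfsg.Agent.Lib.Block.PMinusOne.Main

/-!
The case `f + 1 = p`, `p ≥ 7`: no primitive group.
-/

set_option autoImplicit false
set_option linter.unusedSectionVars false
set_option linter.style.haveILetI false

namespace Cfsg.Agent.Block.ThreeP

open Cfsg Cfsg.Agent.Block

universe u v

/-- Trivially intersecting Sylow subgroups: their number is congruent to one. -/
theorem ti_dvd {K : Type u} [Group K] [Finite K] (S : Sylow 2 K)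
    (hti : ∀ R : Sylow 2 K, ∀ t ∈ (S : Subgroup K), t ≠ 1 → t ∈ (R : Subgroup K) → R = S) :
    Nat.card (S : Subgroup K) ∣ Nat.card (Sylow 2 K) - 1 := by
  classical
  haveI : Fact (Nat.Prime 2) := ⟨Nat.prime_two⟩
  haveI : Fintype (Sylow 2 K) := Fintype.ofFinite _
  have hfixS : ∀ t ∈ (S : Subgroup K), t • S = S := fun t ht =>
    Sylow.smul_eq_iff_mem_normalizer.2 (Subgroup.le_normalizer ht)
  have h := free_dvd (T := (S : Subgroup K)) (X := (Finset.univ : Finset (Sylow 2 K)).erase S)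
    (fun t ht R hR => Finset.mem_erase.2 ⟨fun e => (Finset.mem_erase.1 hR).1
      (smul_left_cancel t (e.trans (hfixS t ht).symm)), Finset.mem_univ _⟩)
    (fun t ht R hR e => by
      by_contra ht1
      refine (Finset.mem_erase.1 hR).1 (hti R t ht ht1 ?_)
      have hn : t ∈ Subgroup.normalizer ((R : Subgroup K) : Set K) :=
        Sylow.smul_eq_iff_mem_normalizer.1 e
      have hT : IsPGroup 2 (Subgroup.zpowers t) :=
        S.isPGroup'.to_le (Subgroup.zpowers_le.2 ht)
      have h1 : Subgroup.zpowers t ⊓ Subgroup.normalizer ((R : Subgroup K) : Set K) =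
          Subgroup.zpowers t ⊓ (R : Subgroup K) := hT.inf_normalizer_sylow R
      exact (h1 ▸ (⟨Subgroup.mem_zpowers t, hn⟩ : t ∈ Subgroup.zpowers t ⊓ _) :
        t ∈ Subgroup.zpowers t ⊓ (R : Subgroup K)).2)
  rwa [Finset.card_erase_of_mem (Finset.mem_univ _), Finset.card_univ, ← Nat.card_eq_fintype_card] at h

variable {G : Type u} [Group G] [Fintype G] {Ω : Type v} [Fintype Ω] [MulAction G Ω] {p : ℕ}
  [Fact p.Prime] (H : Hyps G Ω p)

include H in
/-- No primitive group. -/
theorem no_pminus [IsSimpleGroup G] (hp7 : 7 ≤ p) (D : Neg G p) (hf : D.f + 1 = p)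
    (hprim : MulAction.IsPreprimitive G Ω) : False := by
  classical
  haveI : Fact (Nat.Prime 2) := ⟨Nat.prime_two⟩
  haveI := H.trans
  haveI := H.nonempty
  obtain ⟨P⟩ := PMinusOne.exists_setting hp7 H.hx H.he D.χ (by rw [D.deg]; exact hf)
    (fun g hg => OrdP.eq_one_of_value (Ne.symm D.triv_ne) hg)
  obtain ⟨m, F, _, _, -, hpm, -⟩ := P.iso
  have ht := P.ht
  have hq : 2 * P.t = 2 ^ m := by omega
  have hG : Nat.card G = p * 2 ^ m * (2 ^ m - 1) := by rw [P.card_eq, hq]
  have hq6 : 6 ≤ 2 ^ m := by omega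
  have hm : m ≠ 0 := fun e => by rw [e, pow_zero] at hq6; omega
  have hcent : ∀ z : G, orderOf z = 2 → Nat.card (Subgroup.centralizer ({z} : Set G)) = 2 ^ m :=
    fun z hz => (P.cent_involution hz).trans hq
  have hS : ∀ S : Sylow 2 G, Nat.card (S : Subgroup G) = 2 ^ m := by
    intro S
    have hle : 2 ^ m ≤ Nat.card (S : Subgroup G) := Nat.le_of_dvd Nat.card_pos
      (S.pow_dvd_card_of_pow_dvd_card (hG ▸ dvd_mul_of_dvd_left (dvd_mul_left _ p) _))
    refine le_antisymm ?_ hle
    obtain ⟨z, hzS, hz, hzc⟩ := exists_central_inv S.isPGroup' fun e => by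
      rw [e, Subgroup.card_bot] at hle
      omega
    rw [← hcent z hz]
    exact Subgroup.card_le_of_le fun g hg => Subgroup.mem_centralizer_singleton_iff.2 (hzc g hg)
  -- the Sylow subgroups are elementary
  have hsq : ∀ (S : Sylow 2 G), ∀ g ∈ (S : Subgroup G), g * g = 1 := by
    intro S g hg
    obtain ⟨i, hi⟩ := IsPGroup.iff_orderOf.1 S.isPGroup' ⟨g, hg⟩
    rw [Subgroup.orderOf_mk] at hi
    have hi2 : i ≤ 1 := by
      by_contra hlt
      exact P.no_four (orderOf_pow_orderOf_div (orderOf_pos g).ne'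
        (hi ▸ (show (4 : ℕ) = 2 ^ 2 by norm_num) ▸ pow_dvd_pow 2 (show 2 ≤ i by omega)))
    rw [← pow_two, ← orderOf_dvd_iff_pow_eq_one, hi]
    exact (pow_dvd_pow 2 hi2).trans (dvd_of_eq (pow_one 2))
  have hti : ∀ S R : Sylow 2 G, ∀ t, t ∈ (S : Subgroup G) → t ≠ 1 → t ∈ (R : Subgroup G) → R = S := by
    intro S R t htS ht1 htR
    have hto : orderOf t = 2 := orderOf_eq_prime (by rw [pow_two]; exact hsq S t htS) ht1
    have key : ∀ R : Sylow 2 G, t ∈ (R : Subgroup G) →
        (R : Subgroup G) = Subgroup.centralizer ({t} : Set G) := fun R htR' =>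
      Subgroup.eq_of_le_of_card_ge (fun g hg => Subgroup.mem_centralizer_singleton_iff.2 (by
        have hi : ∀ c ∈ (R : Subgroup G), c⁻¹ = c := fun c hc => inv_eq_of_mul_eq_one_left (hsq R c hc)
        rw [← hi _ (mul_mem hg htR'), mul_inv_rev, hi g hg, hi t htR']))
        (by rw [hS, hcent t hto])
    exact Sylow.ext ((key R htR).trans (key S htS).symm)
  -- in a point stabilizer
  obtain ⟨S₀⟩ : Nonempty (Sylow 2 G) := inferInstance
  obtain ⟨α, hα⟩ := H.exists_fix S₀.isPGroup'
  set K := MulAction.stabilizer G α with hK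
  have hSK : (S₀ : Subgroup G) ≤ K := fun s hs => hα s hs
  set S := S₀.subtype hSK with hSdef
  have hScard : Nat.card (S : Subgroup K) = 2 ^ m := by
    rw [hSdef, Sylow.coe_subtype, Nat.card_congr (Subgroup.subgroupOfEquivOfLe hSK).toEquiv, hS]
  have hd := ti_dvd S fun R t ht ht1 htR => by
    obtain ⟨R', hR'⟩ := (R.isPGroup'.map K.subtype).exists_le_sylow
    have e := hti S₀ R' (t : G) ht (fun e => ht1 (Subtype.ext e)) (hR' ⟨t, htR, rfl⟩)
    refine Sylow.ext (R.is_maximal' S.isPGroup' fun k hk => ?_).symm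
    exact (e ▸ hR' ⟨k, hk, rfl⟩ : (k : G) ∈ (S₀ : Subgroup G))
  rw [hScard] at hd
  -- the normalizer in the stabilizer is everything
  have hn1 : Nat.card (Sylow 2 K) = 1 := by
    have h3 : Nat.card K * 3 = 2 ^ m * (2 ^ m - 1) := by
      refine Nat.eq_of_mul_eq_mul_right (Fact.out : p.Prime).pos ?_
      rw [mul_assoc, H.stab_card α, hG]; ring
    have hdv : Nat.card (Sylow 2 K) ∣ (S : Subgroup K).index := S.card_dvd_index
    have hi := (S : Subgroup K).card_mul_index
    rw [hScard] at hi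
    have hlt : (S : Subgroup K).index < 2 ^ m := by
      have e : (S : Subgroup K).index * 3 = 2 ^ m - 1 := by
        refine Nat.eq_of_mul_eq_mul_left (show 0 < 2 ^ m by positivity) ?_
        rw [← h3, ← hi]; ring
      omega
    have hpos : 0 < Nat.card (Sylow 2 K) := Nat.card_pos
    have := Nat.le_of_dvd (Nat.pos_of_ne_zero Subgroup.index_ne_zero_of_finite) hdv
    rcases Nat.eq_zero_or_pos (Nat.card (Sylow 2 K) - 1) with h | h
    · omega
    · have := Nat.le_of_dvd h hd
      omega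
  have hKN : K ≤ Subgroup.normalizer ((S₀ : Subgroup G) : Set G) := by
    haveI : Subsingleton (Sylow 2 K) := (Nat.card_eq_one_iff_unique.1 hn1).1
    have key : ∀ g ∈ K, ∀ s ∈ (S₀ : Subgroup G), g * s * g⁻¹ ∈ (S₀ : Subgroup G) := by
      intro g hg s hs
      have e : (⟨g, hg⟩ : K) • S = S := Subsingleton.elim _ _
      have hn := Sylow.smul_eq_iff_mem_normalizer.1 e
      have h1 := (Subgroup.mem_normalizer_iff.1 hn ⟨s, hSK hs⟩).1 (Subgroup.mem_subgroupOf.2 hs)
      exact Subgroup.mem_subgroupOf.1 h1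
    intro g hg
    refine Subgroup.mem_normalizer_iff.2 fun s => ⟨key g hg s, fun hs => ?_⟩
    have := key g⁻¹ (inv_mem hg) _ hs
    rwa [show g⁻¹ * (g * s * g⁻¹) * g⁻¹⁻¹ = s by group] at this
  haveI : Nontrivial Ω := Fintype.one_lt_card_iff_nontrivial.1 (by rw [H.card]; omega)
  haveI := hprim
  have hmax : IsCoatom K := MulAction.IsPreprimitive.isCoatom_stabilizer_of_isPreprimitive G α
  rcases hmax.le_iff.1 hKN with e | e
  · -- the normalizer is the whole group
    rcases IsSimpleGroup.eq_bot_or_eq_top_of_normal (S₀ : Subgroup G) (Subgroup.normalizer_eq_top_iff.1 e)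
      with e' | e'
    · have := hS S₀
      rw [e', Subgroup.card_bot] at this
      omega
    · refine H.na ⟨⟨fun a b => ?_⟩⟩
      have hi : ∀ c : G, c⁻¹ = c := fun c => inv_eq_of_mul_eq_one_left (hsq S₀ c (e' ▸ Subgroup.mem_top c))
      rw [← hi (a * b), mul_inv_rev, hi a, hi b]
  · -- `3 p` Sylow subgroups
    have hd2 := ti_dvd S₀ fun R t ht ht1 htR => hti S₀ R t ht ht1 htR
    rw [hS, Sylow.card_eq_index_normalizer S₀] at hd2
    have hidx : (Subgroup.normalizer ((S₀ : Subgroup G) : Set G)).index = 3 * p := by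
      show (Subgroup.normalizer ((S₀ : Subgroup G) : Set G)).index = _
      rw [e, hK, MulAction.index_stabilizer_of_transitive, Nat.card_eq_fintype_card (α := Ω), H.card]
    replace hd2 : 2 ^ m ∣ 3 * p - 1 := hidx ▸ hd2
    rw [show 3 * p - 1 = 2 ^ m * 3 + 2 by omega] at hd2
    have := Nat.le_of_dvd two_pos ((Nat.dvd_add_right (dvd_mul_right _ 3)).1 hd2)
    omega

end Cfsg.Agent.Block.ThreeP
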