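import Mathlib
import Cfsg.Agent.Lib.Block.ThreeP.RankThree

/-!
No group on fifteen points with constituents of degree seven and seven.
-/

set_option autoImplicit false
set_option linter.unusedSectionVars false
set_option linter.style.haveILetI false

namespace Cfsg.Agent.Block.ThreeP

open scoped ComplexConjugate
open Cfsg Cfsg.Agent.Block Cfsg.Agent.Block.PermChar Cfsg.Agent.Char

universe u v

variable {G : Type u} [Group G] [Fintype G] {Ω : Type v} [Fintype Ω] [MulAction G Ω] {p : ℕ}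
  [Fact p.Prime] [DecidableEq Ω] (H : Hyps G Ω p)

include H in
/-- The valencies are divisible by seven. -/
theorem Orb.seven_dvd (O : Orb G Ω) {θ₁ θ₂ : IrrCharacter G} (hne : θ₁ ≠ θ₂) (hn1 : θ₁ ≠ one₀ G)
    (hn2 : θ₂ ≠ one₀ G) (hd1 : charDegree (θ₁ : G → ℂ) = 7) (hd2 : charDegree (θ₂ : G → ℂ) = 7)
    (h1 : mult G Ω (θ₁ : G → ℂ) = 1) (h2 : mult G Ω (θ₂ : G → ℂ) = 1)
    (hall : ∀ η : IrrCharacter G, η ≠ one₀ G → η ≠ θ₁ → η ≠ θ₂ → mult G Ω (η : G → ℂ) = 0) (a : Ω) :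
    7 ∣ Nat.card {y // O.R a y} := by
  classical
  haveI := H.trans
  obtain ⟨c₁, c₂, hA, htr⟩ := O.expand H hn1 hn2 h1 h2 hall a
  set k := Nat.card {y // O.R a y} with hk
  have hzero : (k : ℂ) + c₁ * 7 + c₂ * 7 = 0 := by
    have h := htr 1
    haveI : IsEmpty {x // O.R x ((1 : G) • x)} := ⟨fun x => O.irr x.1 (by simpa using x.2)⟩
    rw [Nat.card_of_isEmpty, charDeg_spec', charDeg_spec', hd1, hd2, Nat.cast_zero] at h
    exact h.symm
  have hA1 : O.adjZ.map (Int.castRingHom ℂ) * proj G Ω (θ₁ : G → ℂ) = c₁ • proj G Ω (θ₁ : G → ℂ) := by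
    rw [hA]
    simp only [Matrix.add_mul, Matrix.smul_mul, proj_mul, if_pos, if_neg (Ne.symm hn1),
      if_neg (Ne.symm hne), smul_zero, add_zero, zero_add]
  have hA2 : O.adjZ.map (Int.castRingHom ℂ) * proj G Ω (θ₂ : G → ℂ) = c₂ • proj G Ω (θ₂ : G → ℂ) := by
    rw [hA]
    simp only [Matrix.add_mul, Matrix.smul_mul, proj_mul, if_pos, if_neg (Ne.symm hn2),
      if_neg hne, smul_zero, add_zero, zero_add]
  have hint : IsIntegral ℤ (c₁ + c₂) :=
    (TwoP.isIntegral_eigen O.adjZ (proj_ne_zero (by rw [h1]; exact one_ne_zero)) hA1).add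
      (TwoP.isIntegral_eigen O.adjZ (proj_ne_zero (by rw [h2]; exact one_ne_zero)) hA2)
  have h3 : c₁ + c₂ = (((-(k : ℚ)) / 7 : ℚ) : ℂ) := by
    push_cast
    linear_combination hzero / 7
  obtain ⟨i, hi⟩ := int_of_isIntegral_rat (h3 ▸ hint)
  rw [hi] at h3
  have h4 : (k : ℤ) = 7 * (-i) := Int.cast_injective (α := ℂ) (by
    push_cast; linear_combination hzero - 7 * h3)
  exact Int.natCast_dvd_natCast.1 ⟨-i, h4⟩

include H in
theorem no_seven [FaithfulSMul G Ω] (hp : p = 5) {θ₁ θ₂ : IrrCharacter G} (hne : θ₁ ≠ θ₂)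
    (hn1 : θ₁ ≠ one₀ G) (hn2 : θ₂ ≠ one₀ G) (hd1 : charDegree (θ₁ : G → ℂ) = 7)
    (hd2 : charDegree (θ₂ : G → ℂ) = 7) (h1 : mult G Ω (θ₁ : G → ℂ) = 1)
    (h2 : mult G Ω (θ₂ : G → ℂ) = 1)
    (hall : ∀ η : IrrCharacter G, η ≠ one₀ G → η ≠ θ₁ → η ≠ θ₂ → mult G Ω (η : G → ℂ) = 0) :
    False := by
  classical
  haveI := H.trans
  haveI := H.nonempty
  have hsum := sum_mult_sq (G := G) (Ω := Ω)
  rw [← Finset.sum_subset (Finset.subset_univ {one₀ G, θ₁, θ₂}) (fun η _ hη => by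
      simp only [Finset.mem_insert, Finset.mem_singleton, not_or] at hη
      rw [hall η hη.1 hη.2.1 hη.2.2, zero_mul]),
    Finset.sum_insert (by simp [Ne.symm hn1, Ne.symm hn2]), Finset.sum_pair hne,
    PermChar.mult_one, h1, h2, map_one, one_mul] at hsum
  have hq : Nat.card (MulAction.orbitRel.Quotient G (Ω × Ω)) = 3 := by
    have h : ((Nat.card (MulAction.orbitRel.Quotient G (Ω × Ω)) : ℕ) : ℂ) = ((3 : ℕ) : ℂ) := by
      rw [← hsum]; norm_num
    exact Nat.cast_injective h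
  obtain ⟨n, hn⟩ := H.congr_p
  haveI : Fact (Nat.Prime 2) := ⟨Nat.prime_two⟩
  obtain ⟨z, hz⟩ := exists_prime_orderOf_dvd_card' (G := G) 2 ⟨p * (p * n + 1), by rw [hn]; ring⟩
  obtain ⟨O⟩ := exists_orb hq hz
  have hΩ : Fintype.card Ω = 15 := by rw [H.card, hp]
  have hk : ∀ a : Ω, Nat.card {y // O.R a y} = 7 := by
    intro a
    obtain ⟨i, hi⟩ := O.seven_dvd H hne hn1 hn2 hd1 hd2 h1 h2 hall a
    obtain ⟨j, hj⟩ := O.compl.seven_dvd H hne hn1 hn2 hd1 hd2 h1 h2 hall a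
    have hc := O.card_compl a
    have pos : ∀ O' : Orb G Ω, 0 < Nat.card {y // O'.R a y} := fun O' => by
      obtain ⟨x, y, hxy⟩ := O'.ne1
      rw [← O'.card_nbrs a x]
      exact Nat.card_pos_iff.2 ⟨⟨⟨y, hxy⟩⟩, inferInstance⟩
    have := pos O
    have := pos O.compl
    omega
  set E := Finset.univ.filter fun w : Ω × Ω => O.R w.1 w.2 with hE
  have hE1 : (E.card : ZMod 2) = 1 := by
    have hc : E.card = 105 := by
      rw [hE, Finset.card_filter, Fintype.sum_prod_type]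
      simp only [← Finset.card_filter]
      rw [Finset.sum_congr rfl (g := fun _ => 7) fun x _ => by
        rw [← Fintype.card_subtype, ← Nat.card_eq_fintype_card, hk x],
        Finset.sum_const, Finset.card_univ, hΩ, smul_eq_mul]
    rw [hc]; rfl
  have hE0 : (E.card : ZMod 2) = 0 := by
    rw [Finset.card_eq_sum_ones, Nat.cast_sum]
    refine Finset.sum_involution (fun w _ => Prod.swap w) (fun w _ => CharTwo.add_self_eq_zero _)
      (fun w hw _ e => ?_) (fun w hw => ?_) fun w _ => Prod.swap_swap w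
    · have h1' := (Finset.mem_filter.1 hw).2
      rw [← congrArg Prod.fst e] at h1'
      exact O.irr _ (by simpa using h1')
    · exact Finset.mem_filter.2 ⟨Finset.mem_univ _, O.symm _ _ (Finset.mem_filter.1 hw).2⟩
  exact one_ne_zero (hE1.symm.trans hE0)

end Cfsg.Agent.Block.ThreeP
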