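import Mathlib
import Cfsg.Agent.Lib.Block.ThreeP.FMinus
import Cfsg.Agent.Lib.Block.ThreeP.FPlus
import Cfsg.Agent.Lib.Block.ThreeP.RankThreeMain
import Cfsg.Agent.Lib.Block.ThreeP.SmallSeven
import Cfsg.Agent.Lib.Block.ThreeP.SmallMinus
import Cfsg.Agent.Lib.Block.ThreeP.SmallFive
import Cfsg.Agent.Lib.Block.ThreeP.Imprimitive

/-!
Simple transitive groups of degree `3 p` with a Sylow normalizer of order `2 p`.
-/

set_option autoImplicit false
set_option linter.unusedSectionVars false
set_option linter.style.haveILetI false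

namespace Cfsg.Agent.Block.ThreeP

open scoped ComplexConjugate
open Cfsg Cfsg.Agent.Block Cfsg.Agent.Block.PermChar Cfsg.Agent.Char

universe u v

variable {G : Type u} [Group G] [Fintype G] {Ω : Type v} [Fintype Ω] [MulAction G Ω] {p : ℕ}
  [Fact p.Prime]

/-- The primitive case. -/
theorem primitive [IsSimpleGroup G] [FaithfulSMul G Ω] (H : Hyps G Ω p)
    (hprim : MulAction.IsPreprimitive G Ω) :
    p = 5 ∧ Nonempty (G ≃* ↥(alternatingGroup (Fin 6))) := by
  classical
  have hp : p.Prime := Fact.out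
  have hp3 := H.hp3
  rcases H.cases with ⟨hp5, θ₁, θ₂, hne, hn1, hn2, hd1, hd2, hm1, hm2, hall⟩ |
    ⟨D, hf | ⟨hf, hm1, ψ, hψ, hne, hdψ, hm2, hψp, hall⟩ | ⟨hf, hm1, hall⟩⟩
  · exact (no_seven H hp5 hne hn1 hn2 hd1 hd2 hm1 hm2 hall).elim
  · rcases Nat.lt_or_ge p 7 with h7 | h7
    · have hp5 : p = 5 := by
        interval_cases p
        · exact absurd hp (by norm_num)
        · rfl
        · exact absurd hp (by norm_num)
      exact (no_five H hp5 D (by omega) hprim).elim
    · exact (no_pminus H h7 D hf hprim).elim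
  · exact (⟨H, D, hf, ψ, hψ, hne, hdψ, hψp, hm1, hm2, hall⟩ : Ctx G Ω p).main hprim
  · exfalso
    obtain ⟨v, c, hex, hone, hzv, heq, h4v, h2c, -, -, ⟨a, ha⟩, b, hb⟩ := D.facts H
    have hf' : (D.f : ℤ) = 3 * p - 1 := by omega
    rw [hf'] at ha hb
    have hp0 : (p : ℤ) ≠ 0 := by omega
    have h1 : 2 + v = 2 * (a : ℤ) := mul_left_cancel₀ hp0 (by linear_combination ha)
    have h2 : 2 - v = 2 * (b : ℤ) := mul_left_cancel₀ hp0 (by linear_combination hb)
    have hv : v = 0 ∨ v = 2 ∨ v = -2 := by omega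
    rcases hv with hv | hv | hv
    · exact no_minus H D hf hm1 hall hex hone hzv heq h4v h2c hv
    · exact no_plus H D hf hm1 hall hex hone hzv heq h4v h2c hv
    · obtain ⟨z, hz⟩ := hex
      have e := H.pi_two (Ne.symm D.triv_ne) hm1 hall z
      rw [(hzv z hz).1, hv] at e
      have e' : (nfix Ω z : ℤ) = -1 := Int.cast_injective (α := ℂ) (by push_cast at e ⊢; linear_combination e)
      omega

/-- The hypotheses from the Sylow normalizer. -/
noncomputable def exists_hyps [IsSimpleGroup G] (hG : ¬ IsMulCommutative G) (hp3 : 3 < p)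
    (htr : MulAction.IsPretransitive G Ω) (hΩ : Fintype.card Ω = 3 * p) (P : Sylow p G)
    (hN : Nat.card (Subgroup.normalizer ((P : Subgroup G) : Set G)) = 2 * p) : Hyps G Ω p := by
  classical
  have hp : p.Prime := Fact.out
  haveI := htr
  have hdvd : p ∣ Nat.card G := by
    obtain ⟨a₀⟩ : Nonempty Ω := Fintype.card_pos_iff.1 (by omega)
    have h := (MulAction.stabilizer G a₀).card_mul_index
    rw [MulAction.index_stabilizer_of_transitive, Nat.card_eq_fintype_card (α := Ω), hΩ] at h
    exact ⟨Nat.card (MulAction.stabilizer G a₀) * 3, by rw [← h]; ring⟩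
  have hPp : Nat.card (P : Subgroup G) = p := by
    obtain ⟨i, hi⟩ := IsPGroup.iff_card.1 P.isPGroup'
    have h2 : p ^ i ∣ 2 * p := hi ▸ hN ▸ Subgroup.card_dvd_of_le Subgroup.le_normalizer
    have h1 : p ∣ p ^ i := hi ▸ P.dvd_card_of_dvd_card hdvd
    rcases i with _ | _ | i
    · rw [pow_zero] at h1; exact absurd h1 hp.not_dvd_one
    · rw [hi, pow_one]
    · exfalso
      have h3 : p * p ∣ p * 2 := by
        rw [mul_comm p 2, ← pow_two]
        exact (pow_dvd_pow p (by omega)).trans h2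
      have := Nat.le_of_dvd two_pos (Nat.dvd_of_mul_dvd_mul_left hp.pos h3)
      omega
  haveI hcyc : IsCyclic (P : Subgroup G) := isCyclic_of_prime_card hPp
  set C := Subgroup.centralizer ((P : Subgroup G) : Set G) with hC
  have hCN : C ≤ Subgroup.normalizer ((P : Subgroup G) : Set G) := Subgroup.centralizer_le_normalizer _
  have hPC : (P : Subgroup G) ≤ C := by
    intro x hx y hy
    let _ := IsCyclic.commGroup (α := (P : Subgroup G))
    exact congrArg Subtype.val (mul_comm (⟨y, hy⟩ : (P : Subgroup G)) ⟨x, hx⟩)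
  have hCne : C ≠ Subgroup.normalizer ((P : Subgroup G) : Set G) := by
    intro e
    have hB : Subgroup.normalizer ((P : Subgroup G) : Set G) ≤ Subgroup.centralizer (P : Set G) :=
      e ▸ le_refl C
    exact Fus.simple_no_complement hG hdvd
      ⟨P, (MonoidHom.transferSylow P hB).ker, inferInstance,
        MonoidHom.ker_transferSylow_isComplement' P hB⟩
  have hCc : Nat.card C = p := by
    obtain ⟨k, hk⟩ : p ∣ Nat.card C := hPp ▸ Subgroup.card_dvd_of_le hPC
    have h2 : Nat.card C ∣ 2 * p := hN ▸ Subgroup.card_dvd_of_le hCN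
    rw [hk, mul_comm 2 p] at h2
    rcases (Nat.dvd_prime Nat.prime_two).1 (Nat.dvd_of_mul_dvd_mul_left hp.pos h2) with rfl | rfl
    · rw [hk, mul_one]
    · exact absurd (Subgroup.eq_of_le_of_card_ge hCN (by rw [hN, hk, mul_comm])) hCne
  let w := exists_prime_orderOf_dvd_card' (G := (P : Subgroup G)) p (by rw [hPp])
  let x : G := (w.choose : G)
  have hxo : orderOf x = p := by rw [Subgroup.orderOf_coe]; exact w.choose_spec
  have hxz : Subgroup.zpowers x = (P : Subgroup G) :=
    Subgroup.eq_of_le_of_card_ge (Subgroup.zpowers_le.2 w.choose.2) (by rw [hPp, Nat.card_zpowers, hxo])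
  have hx : SCP.Hyp p x := by
    refine ⟨hxo, ?_⟩
    rw [hxz, show (P : Subgroup G) = C from Subgroup.eq_of_le_of_card_ge hPC (by rw [hCc, hPp]), hC,
      ← hxz, Subgroup.zpowers_eq_closure, Subgroup.centralizer_closure]
  have he : SCP.e x = 2 := by
    refine Nat.eq_of_mul_eq_mul_left hp.pos ?_
    rw [← SCP.card_N hx, mul_comm p 2, ← hN]
    show Nat.card (Subgroup.normalizer ((Subgroup.zpowers x : Subgroup G) : Set G)) = _
    rw [hxz]
  exact ⟨hG, hp3, hΩ, htr, x, hx, he⟩

end Cfsg.Agent.Block.ThreeP
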